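import Cfsg.Agent.Inv54.DihedralEight
import Cfsg.Agent.S0249
import Mathlib

/-!
# The automorphism group of an elementary abelian group of order eight
-/

set_option autoImplicit false
set_option linter.unusedSectionVars false
set_option linter.style.haveILetI false

namespace CfsgLib.LargeFischer

/-- The automorphisms of the linear space of dimension three over two elements, as linear automorphisms of
an isomorphic space. -/
theorem mulAut_eight {V : Type*} [Group V] [Finite V] (hc : ∀ a b : V, a * b = b * a)
    (h2 : ∀ a : V, a ^ 2 = 1) (hcard : Nat.card V = 8) :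
    Nat.card (MulAut V) = 168 ∧ IsSimpleGroup (MulAut V) ∧
      Nonempty (MulAut V ≃* Matrix.SpecialLinearGroup (Fin 3) (ZMod 2)) := by
  classical
  letI : CommGroup V := { (inferInstance : Group V) with mul_comm := hc }
  haveI := Fintype.ofFinite V
  letI : Module (ZMod 2) (Additive V) := AddCommGroup.zmodModule (n := 2) fun v => by
    rw [two_nsmul]
    show Additive.ofMul (v.toMul * v.toMul) = 0
    rw [← pow_two, h2]; rfl
  haveI : Module.Finite (ZMod 2) (Additive V) := Module.Finite.of_finite
  have hdim : Module.finrank (ZMod 2) (Additive V) = 3 := by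
    have h := Module.card_eq_pow_finrank (K := ZMod 2) (V := Additive V)
    rw [ZMod.card, ← Nat.card_eq_fintype_card, show Nat.card (Additive V) = 8 from hcard] at h
    exact Nat.pow_right_injective (le_refl 2) (h.symm.trans (by norm_num : (8 : ℕ) = 2 ^ 3))
  let e : Additive V ≃ₗ[ZMod 2] (Fin 3 → ZMod 2) :=
    LinearEquiv.ofFinrankEq _ _ (by rw [hdim, Module.finrank_fintype_fun_eq_card, Fintype.card_fin])
  let j : MulAut V ≃* ((Additive V) ≃ₗ[ZMod 2] (Additive V)) :=
    { toFun := fun f =>
        { (MulEquiv.toAdditive f) with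
          map_smul' := fun c v => (AddMonoidHom.toZModLinearMap 2 (MulEquiv.toAdditive f).toAddMonoidHom).map_smul c v }
      invFun := fun l => MulEquiv.toAdditive.symm l.toAddEquiv
      left_inv := fun f => rfl
      right_inv := fun l => rfl
      map_mul' := fun f g => rfl }
  obtain ⟨k⟩ := CfsgLib.Inv54.DihedralEight.nonempty_SL_GL
  let E : MulAut V ≃* Matrix.SpecialLinearGroup (Fin 3) (ZMod 2) :=
    j.trans (((LinearMap.GeneralLinearGroup.generalLinearEquiv (ZMod 2) (Additive V)).symm.trans
      (LinearMap.GeneralLinearGroup.congrLinearEquiv e)).trans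
        (Matrix.GeneralLinearGroup.toLin.symm.trans k.symm))
  have hcardA : Nat.card (MulAut V) = 168 := by
    rw [Nat.card_congr E.toEquiv, Nat.card_congr k.toEquiv, CfsgLib.GLFourTwo.card_GL32]
  haveI hS := Cfsg.Agent.S0249.result (F := ZMod 2) 3 le_rfl
  have hz : Subgroup.center (Matrix.SpecialLinearGroup (Fin 3) (ZMod 2)) = ⊥ := by
    rw [Subgroup.eq_bot_iff_forall]
    intro A hA
    obtain ⟨r, hr, hAr⟩ := Matrix.SpecialLinearGroup.mem_center_iff.1 hA
    have h1 : ∀ r : ZMod 2, r ^ 3 = 1 → r = 1 := by decide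
    have hr1 : r = 1 := h1 r (by simpa using hr)
    refine Subtype.ext ?_
    rw [← hAr, hr1, map_one]
    rfl
  let q := QuotientGroup.mk' (Subgroup.center (Matrix.SpecialLinearGroup (Fin 3) (ZMod 2)))
  have hq : Function.Bijective q := ⟨(MonoidHom.ker_eq_bot_iff q).1 (by rw [QuotientGroup.ker_mk', hz]),
    QuotientGroup.mk'_surjective _⟩
  haveI : IsSimpleGroup (Matrix.SpecialLinearGroup (Fin 3) (ZMod 2)) :=
    (MulEquiv.ofBijective q hq).isSimpleGroup
  exact ⟨hcardA, E.isSimpleGroup, ⟨E⟩⟩

end CfsgLib.LargeFischer
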