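import Cfsg.Agent.LargeFischer.Nonsplit

/-!
# The centralizer of an element of order three over the scalar

It is a perfect double cover of `L`, with cyclic centre of order six.
-/

set_option autoImplicit false
set_option linter.unusedSectionVars false
set_option linter.style.haveILetI false
set_option maxHeartbeats 1000000

namespace CfsgLib.LargeFischer

open Cfsg
open scoped commutatorElement

variable {G : Type*} [Group G] [Finite G] {z : G} {Q : Subgroup (Cz z)} [Q.Normal]

namespace Gen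

variable {D : Data z Q} (Y : Gen D)

/-- The centralizer. -/
abbrev cent : Subgroup (Cz z) := Subgroup.centralizer ({Y.y} : Set (Cz z))

theorem commute_of_mem {c : Cz z} (h : c ∈ Y.cent) : Commute c Y.y :=
  Subgroup.mem_centralizer_singleton_iff.1 h

/-- Reduction modulo `Q`. -/
def red : Y.cent →* D.L :=
  MonoidHom.mk' (fun c => ⟨QuotientGroup.mk c.1, Y.mk_mem (Y.commute_of_mem c.2)⟩)
    fun a b => Subtype.ext (QuotientGroup.mk_mul Q a.1 b.1)

theorem red_surjective : Function.Surjective Y.red := fun l => by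
  obtain ⟨n, hn, hc⟩ := Y.exists_lift l.2
  exact ⟨⟨n, Subgroup.mem_centralizer_singleton_iff.2 hc⟩, Subtype.ext hn⟩

/-- `z` in the centralizer. -/
def zc : Y.cent := ⟨(zin D.hS : Q).1, Subgroup.mem_centralizer_singleton_iff.2
  (Subtype.ext (Subgroup.mem_centralizer_singleton_iff.1 Y.y.2).symm)⟩

theorem zc_central : Y.zc ∈ Subgroup.center Y.cent :=
  Subgroup.mem_center_iff.2 fun c => Subtype.ext (Subtype.ext (Subgroup.mem_centralizer_singleton_iff.1 c.1.2))

theorem zc_ne : Y.zc ≠ 1 := fun h =>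
  zin_ne_one D.hS (Subtype.ext (congrArg Subtype.val h :))

theorem zc_sq : Y.zc * Y.zc = 1 :=
  Subtype.ext (congrArg (fun q : Q => (q : Cz z)) (zin_sq D.hS) :)

theorem red_eq_one {c : Y.cent} (h : Y.red c = 1) : c = 1 ∨ c = Y.zc := by
  have hq : (c : Cz z) ∈ Q := (QuotientGroup.eq_one_iff _).1 (congrArg Subtype.val h :)
  rcases (mem_center_cases D.hS).1 (Y.center_of_fix (a := ⟨c, hq⟩) (Y.commute_of_mem c.2).symm) with e | e
  · exact Or.inl (Subtype.ext (congrArg Subtype.val e :))
  · exact Or.inr (Subtype.ext (congrArg Subtype.val e :))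

theorem red_zc : Y.red Y.zc = 1 := Subtype.ext ((QuotientGroup.eq_one_iff _).2 (zin D.hS).2)

theorem map_commutator_cent : (commutator Y.cent).map Y.red = ⊤ := by
  rw [commutator_def, Subgroup.map_commutator, Subgroup.map_top_of_surjective _ Y.red_surjective, ← commutator_def,
    D.commutator_L]

/-- The extension by `z` does not split. -/
theorem zc_mem_commutator : Y.zc ∈ commutator Y.cent := by
  by_contra hz
  let f : commutator Y.cent →* D.L := Y.red.comp (commutator Y.cent).subtype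
  have hf : Function.Bijective f := by
    refine ⟨(injective_iff_map_eq_one f).2 fun c hc => ?_, fun l => ?_⟩
    · rcases Y.red_eq_one (c := c.1) hc with e | e
      · exact Subtype.ext e
      · exact absurd (e ▸ c.2) hz
    · obtain ⟨c, hc, e⟩ : l ∈ (commutator Y.cent).map Y.red := by
        rw [Y.map_commutator_cent]; exact Subgroup.mem_top _
      exact ⟨⟨c, hc⟩, e⟩
  let e := MulEquiv.ofBijective f hf
  refine Y.no_section (Y.cent.subtype.comp ((commutator Y.cent).subtype.comp e.symm.toMonoidHom))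
    (fun l => ?_) fun l => Y.commute_of_mem (e.symm l).1.2
  exact congrArg Subtype.val (e.apply_symm_apply l)

theorem commutator_cent : commutator Y.cent = ⊤ := by
  rw [Subgroup.eq_top_iff']
  intro c
  obtain ⟨d, hd, e⟩ : Y.red c ∈ (commutator Y.cent).map Y.red := by
    rw [Y.map_commutator_cent]; exact Subgroup.mem_top _
  rcases Y.red_eq_one (c := d⁻¹ * c) (by rw [map_mul, map_inv, e, inv_mul_cancel]) with h | h
  · rw [← inv_mul_eq_one.1 h]; exact hd
  · rw [← mul_inv_cancel_left d c, h]; exact mul_mem hd Y.zc_mem_commutator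

/-- `y` in the centralizer. -/
def yc : Y.cent := ⟨Y.y, Subgroup.mem_centralizer_singleton_iff.2 rfl⟩

theorem red_yc : Y.red Y.yc = D.x := Subtype.ext Y.mk_y

theorem yc_central : Y.yc ∈ Subgroup.center Y.cent :=
  Subgroup.mem_center_iff.2 fun c => Subtype.ext (Y.commute_of_mem c.2).eq

/-- The generator of the centre. -/
def gc : Y.cent := Y.yc * Y.zc

theorem center_cent : Subgroup.center Y.cent = Subgroup.zpowers Y.gc ∧ orderOf Y.gc = 6 := by
  have hy : orderOf Y.yc = 3 := by
    haveI : Fact (Nat.Prime 3) := ⟨by norm_num⟩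
    refine orderOf_eq_prime (Subtype.ext Y.y3) fun h => D.x_ne ?_
    rw [← Y.red_yc, h, map_one]
  have hz : orderOf Y.zc = 2 := orderOf_eq_prime (by rw [pow_two, Y.zc_sq]) Y.zc_ne
  have hcom : Commute Y.yc Y.zc := Subgroup.mem_center_iff.1 Y.zc_central Y.yc
  have hord : orderOf Y.gc = 6 := by
    rw [gc, hcom.orderOf_mul_eq_mul_orderOf_of_coprime (by rw [hy, hz]; norm_num), hy, hz]
  refine ⟨le_antisymm (fun c hc => ?_) (Subgroup.zpowers_le.2 (mul_mem Y.yc_central Y.zc_central)), hord⟩
  have hy3 : Y.yc ^ 3 = 1 := hy ▸ pow_orderOf_eq_one _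
  have hz2 : Y.zc ^ 2 = 1 := hz ▸ pow_orderOf_eq_one _
  have hyg : Y.yc ∈ Subgroup.zpowers Y.gc := by
    have e : Y.gc ^ 4 = Y.yc := by
      rw [gc, hcom.mul_pow, show (4 : ℕ) = 3 + 1 from rfl, pow_succ Y.yc, hy3, one_mul,
        show (3 : ℕ) + 1 = 2 + 2 from rfl, pow_add, hz2, mul_one, mul_one]
    exact e ▸ Subgroup.npow_mem_zpowers _ _
  have hzg : Y.zc ∈ Subgroup.zpowers Y.gc := by
    have e : Y.gc ^ 3 = Y.zc := by
      rw [gc, hcom.mul_pow, hy3, one_mul, pow_succ, hz2, one_mul]
    exact e ▸ Subgroup.npow_mem_zpowers _ _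
  have hrc : Y.red c ∈ Subgroup.zpowers D.x := by
    rw [← D.center_L, Subgroup.mem_center_iff]
    intro l
    obtain ⟨d, rfl⟩ := Y.red_surjective l
    rw [← map_mul, ← map_mul, Subgroup.mem_center_iff.1 hc d]
  obtain ⟨j, hj⟩ := Subgroup.mem_zpowers_iff.1 hrc
  have hyj : Y.yc ^ j ∈ Subgroup.zpowers Y.gc := zpow_mem hyg j
  rcases Y.red_eq_one (c := (Y.yc ^ j)⁻¹ * c) (by
    rw [map_mul, map_inv, map_zpow, Y.red_yc, hj, inv_mul_cancel]) with h | h
  · rwa [← inv_mul_eq_one.1 h]
  · rw [← mul_inv_cancel_left (Y.yc ^ j) c, h]; exact mul_mem hyj hzg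

theorem card_center_cent : Nat.card (Subgroup.center Y.cent) = 6 := by
  rw [Y.center_cent.1, Nat.card_zpowers, Y.center_cent.2]

theorem isCyclic_center_cent : IsCyclic (Subgroup.center Y.cent) := by
  rw [Y.center_cent.1]; infer_instance

theorem quot_cent : letI := D.fieldK; letI := D.fintypeK
    Nonempty (Y.cent ⧸ Subgroup.center Y.cent ≃* Cfsg.PSU 4 D.K 3) := by
  letI := D.fieldK
  letI := D.fintypeK
  let ψ : Y.cent →* Cfsg.PSU 4 D.K 3 := D.π.comp Y.red
  have hψ : Function.Surjective ψ := D.π_surj.comp Y.red_surjective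
  have hker : ψ.ker = Subgroup.center Y.cent := by
    refine le_antisymm (fun c hc => ?_) (fun c hc => ?_)
    · obtain ⟨j, hj⟩ := Subgroup.mem_zpowers_iff.1 ((D.π_ker _).1 (MonoidHom.mem_ker.1 hc))
      have hyj := zpow_mem Y.yc_central j
      rcases Y.red_eq_one (c := (Y.yc ^ j)⁻¹ * c) (by
        rw [map_mul, map_inv, map_zpow, Y.red_yc, hj, inv_mul_cancel]) with h | h
      · rwa [← inv_mul_eq_one.1 h]
      · rw [← mul_inv_cancel_left (Y.yc ^ j) c, h]; exact mul_mem hyj Y.zc_central
    · refine MonoidHom.mem_ker.2 ((D.π_ker _).2 ?_)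
      rw [← D.center_L, Subgroup.mem_center_iff]
      intro l
      obtain ⟨d, rfl⟩ := Y.red_surjective l
      rw [← map_mul, ← map_mul, Subgroup.mem_center_iff.1 hc d]
  exact ⟨(QuotientGroup.quotientMulEquivOfEq hker.symm).trans (QuotientGroup.quotientKerEquivOfSurjective ψ hψ)⟩

theorem quasisimple_cent : Cfsg.IsQuasisimple Y.cent := by
  refine ⟨⟨Y.commutator_cent⟩, ?_⟩
  obtain ⟨e⟩ := Y.quot_cent
  letI := D.fieldK
  letI := D.fintypeK
  haveI := D.psu_facts.1
  haveI : Nontrivial (Y.cent ⧸ Subgroup.center Y.cent) := e.toEquiv.nontrivial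
  exact IsSimpleGroup.isSimpleGroup_of_surjective e.symm.toMonoidHom e.symm.surjective

end Gen

end CfsgLib.LargeFischer
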