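import Cfsg.Agent.LargeFischer.Parabolic

/-!
# Eigencomponents of an elementary abelian 3-group acting on a module over the field of four elements
-/

set_option autoImplicit false
set_option linter.unusedSectionVars false
set_option linter.style.haveILetI false
set_option maxRecDepth 100000

namespace CfsgLib.LargeFischer

open Finset

/-- Vectors and functionals of the elementary abelian group of order 243. -/
abbrev D5 := V4 × ZMod 3

/-- The pairing on `V4`. -/
def dot (a v : V4) : ZMod 3 := a 0 * v 0 + a 1 * v 1 + a 2 * v 2 + a 3 * v 3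

/-- The pairing on `D5`. -/
def pair (c d : D5) : ZMod 3 := dot c.1 d.1 + c.2 * d.2

theorem pair_add_right (c d e : D5) : pair c (d + e) = pair c d + pair c e := by
  simp only [pair, dot, Prod.fst_add, Prod.snd_add, Pi.add_apply]; ring

theorem pair_comm (c d : D5) : pair c d = pair d c := by
  simp only [pair, dot]; ring

theorem pair_sub_left (c e d : D5) : pair (c - e) d = pair c d - pair e d := by
  simp only [pair, dot, Prod.fst_sub, Prod.snd_sub, Pi.sub_apply]; ring

theorem pair_neg_left (c d : D5) : pair (-c) d = -pair c d := by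
  simp only [pair, dot, Prod.fst_neg, Prod.snd_neg, Pi.neg_apply]; ring

theorem exists_pair_one {c : D5} (hc : c ≠ 0) : ∃ d, pair c d = 1 := by
  revert hc
  revert c
  have h : ∀ c : D5, ∃ i : Fin 5, c = 0 ∨
      (if h : i.val < 4 then c.1 ⟨i.val, h⟩ else c.2) ≠ 0 := by decide +kernel
  intro c hc
  obtain ⟨i, hi | hi⟩ := h c
  · exact absurd hi hc
  have sq : ∀ x : ZMod 3, x ≠ 0 → x * x = 1 := by decide
  by_cases h' : i.val < 4
  · rw [dif_pos h'] at hi
    refine ⟨(Pi.single ⟨i.val, h'⟩ (c.1 ⟨i.val, h'⟩), 0), ?_⟩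
    have : ∀ (j : Fin 4) (a : V4), dot a (Pi.single j (a j)) = a j * a j := by
      intro j a
      fin_cases j <;> simp [dot]
    simp [pair, this, sq _ hi]
  · rw [dif_neg h'] at hi
    exact ⟨(0, c.2), by simp [pair, dot, sq _ hi]⟩

theorem eq_of_pair {c e : D5} (h : ∀ d, pair c d = pair e d) : c = e := by
  by_contra hne
  obtain ⟨d, hd⟩ := exists_pair_one (sub_ne_zero.2 hne)
  rw [pair_sub_left, h, sub_self] at hd
  exact zero_ne_one hd

/-- A scalar of order three and an action of `D5` commuting with it, on a group of exponent two. -/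
structure Action (U : Type*) [AddCommGroup U] where
  R : U ≃+ U
  act : D5 → (U ≃+ U)
  two : ∀ u : U, u + u = 0
  sum3 : ∀ u : U, u + R u + R (R u) = 0
  act_zero : ∀ u, act 0 u = u
  act_add : ∀ d e u, act (d + e) u = act d (act e u)
  act_R : ∀ d u, act d (R u) = R (act d u)

namespace Action

variable {U : Type*} [AddCommGroup U] (A : Action U)

include A in
theorem add_cancel {a b c : U} (h : a + b + c = 0) : c = a + b := by
  have h1 : a + b + c + c = a + b := by rw [add_assoc, A.two, add_zero]
  rw [← h1, h, zero_add]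

theorem R_sq (u : U) : A.R (A.R u) = u + A.R u := A.add_cancel (A.sum3 u)

theorem R_cube (u : U) : A.R (A.R (A.R u)) = u := by
  rw [A.R_sq, A.R_sq, add_comm u, ← add_assoc, A.two, zero_add]

/-- Powers of the scalar. -/
def rp (k : ZMod 3) (u : U) : U := if k = 0 then u else if k = 1 then A.R u else A.R (A.R u)

theorem rp_zero (u : U) : A.rp 0 u = u := rfl

theorem rp_one (u : U) : A.rp 1 u = A.R u := rfl

theorem rp_two (u : U) : A.rp 2 u = A.R (A.R u) := rfl

theorem zmod3_cases : ∀ k : ZMod 3, k = 0 ∨ k = 1 ∨ k = 2 := by decide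

theorem rp_add (a b : ZMod 3) (u : U) : A.rp (a + b) u = A.rp a (A.rp b u) := by
  rcases zmod3_cases a with rfl | rfl | rfl <;> rcases zmod3_cases b with rfl | rfl | rfl <;>
    simp only [(by decide : (1 : ZMod 3) + 1 = 2), (by decide : (1 : ZMod 3) + 2 = 0),
      (by decide : (2 : ZMod 3) + 1 = 0), (by decide : (2 : ZMod 3) + 2 = 1), zero_add, add_zero,
      rp_zero, rp_one, rp_two, R_cube]

theorem rp_map_add (k : ZMod 3) (u v : U) : A.rp k (u + v) = A.rp k u + A.rp k v := by
  rcases zmod3_cases k with rfl | rfl | rfl <;> simp [rp_zero, rp_one, rp_two]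

/-- `rp` as a homomorphism. -/
def rpHom (k : ZMod 3) : U →+ U := AddMonoidHom.mk' (A.rp k) (A.rp_map_add k)

theorem rp_map_zero (k : ZMod 3) : A.rp k 0 = 0 := map_zero (A.rpHom k)

theorem act_rp (d : D5) (k : ZMod 3) (u : U) : A.act d (A.rp k u) = A.rp k (A.act d u) := by
  rcases zmod3_cases k with rfl | rfl | rfl <;> simp [rp_zero, rp_one, rp_two, A.act_R]

theorem eq_zero_of_R_fix {u : U} (h : A.R u = u) : u = 0 := by
  have := A.sum3 u
  rwa [h, h, A.two, zero_add] at this

theorem sum_rp_pair [DecidableEq D5] {c : D5} (hc : c ≠ 0) (w : U) :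
    ∑ d : D5, A.rp (pair c d) w = 0 := by
  obtain ⟨d0, hd0⟩ := exists_pair_one hc
  refine A.eq_zero_of_R_fix ?_
  rw [map_sum]
  refine Fintype.sum_equiv (Equiv.addRight d0) _ _ fun d => ?_
  rw [Equiv.coe_addRight, pair_add_right, hd0, add_comm, A.rp_add, A.rp_one]

/-- The component of a functional. -/
def IsComp (c : D5) (u : U) : Prop := ∀ d, A.act d u = A.rp (pair c d) u

theorem isComp_zero (c : D5) : A.IsComp c 0 := fun d => by rw [map_zero, A.rp_map_zero]

theorem isComp_add {c : D5} {u v : U} (hu : A.IsComp c u) (hv : A.IsComp c v) : A.IsComp c (u + v) :=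
  fun d => by rw [map_add, hu, hv, A.rp_map_add]

theorem isComp_R {c : D5} {u : U} (hu : A.IsComp c u) : A.IsComp c (A.R u) := fun d => by
  rw [A.act_R, hu, ← A.rp_one, ← A.rp_one u, ← A.rp_add, ← A.rp_add, add_comm]

/-- The projection on a component. -/
def proj (c : D5) (u : U) : U := ∑ d : D5, A.rp (-pair c d) (A.act d u)

theorem isComp_proj (c : D5) (u : U) : A.IsComp c (A.proj c u) := by
  intro e
  rw [proj, map_sum, show A.rp (pair c e) (∑ d : D5, A.rp (-pair c d) (A.act d u)) =
    ∑ d : D5, A.rp (pair c e) (A.rp (-pair c d) (A.act d u)) from map_sum (A.rpHom _) _ _]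
  refine Fintype.sum_equiv (Equiv.addLeft e) _ _ fun d => ?_
  rw [Equiv.coe_addLeft, A.act_rp, ← A.act_add, ← A.rp_add, pair_add_right]
  congr 1
  ring

include A in
theorem odd_smul (u : U) : (243 : ℕ) • u = u := by
  rw [show (243 : ℕ) = 121 * 2 + 1 by norm_num, add_smul, mul_smul, two_smul, A.two, smul_zero,
    zero_add, one_smul]

theorem sum_proj (u : U) : ∑ c : D5, A.proj c u = u := by
  classical
  simp only [proj]
  rw [Finset.sum_comm, Finset.sum_eq_single (0 : D5)]
  · have h : ∀ c : D5, A.rp (-pair c 0) (A.act 0 u) = u := fun c => by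
      rw [A.act_zero, show pair c 0 = 0 by simp [pair, dot], neg_zero, A.rp_zero]
    simp only [h, Finset.sum_const, Finset.card_univ]
    rw [show Fintype.card D5 = 243 by simp, A.odd_smul]
  · intro d _ hd
    have h : ∀ c : D5, -pair c d = pair (-d) c := fun c => by rw [pair_neg_left, pair_comm]
    simp only [h]
    exact A.sum_rp_pair (neg_ne_zero.2 hd) _
  · simp

theorem proj_of_isComp {c e : D5} {u : U} (hu : A.IsComp e u) :
    A.proj c u = if c = e then u else 0 := by
  classical
  have h : A.proj c u = ∑ d : D5, A.rp (pair (e - c) d) u := Finset.sum_congr rfl fun d _ => by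
    rw [hu, ← A.rp_add, pair_sub_left, neg_add_eq_sub]
  rw [h]
  split_ifs with hce
  · subst hce
    rw [sub_self]
    have h0 : ∀ d : D5, A.rp (pair 0 d) u = u := fun d => by
      rw [show pair 0 d = 0 by simp [pair, dot], A.rp_zero]
    simp only [h0, Finset.sum_const, Finset.card_univ]
    rw [show Fintype.card D5 = 243 by simp, A.odd_smul]
  · exact A.sum_rp_pair (sub_ne_zero.2 (Ne.symm hce)) _

theorem sum_comp_eq {f : D5 → U} (hf : ∀ c, A.IsComp c (f c)) (c : D5) :
    A.proj c (∑ e : D5, f e) = f c := by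
  classical
  have hadd : ∀ s : Finset D5, A.proj c (∑ e ∈ s, f e) = ∑ e ∈ s, A.proj c (f e) := by
    intro s
    refine map_sum (AddMonoidHom.mk' (A.proj c) fun u v => ?_) _ _
    simp only [proj, map_add, A.rp_map_add, Finset.sum_add_distrib]
  rw [hadd, Finset.sum_eq_single c]
  · rw [A.proj_of_isComp (hf c), if_pos rfl]
  · intro e _ he
    rw [A.proj_of_isComp (hf e), if_neg (Ne.symm he)]
  · simp

/-- The components as a product. -/
def splitEquiv : U ≃ ((c : D5) → {u : U // A.IsComp c u}) where
  toFun u c := ⟨A.proj c u, A.isComp_proj c u⟩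
  invFun f := ∑ c : D5, (f c).1
  left_inv u := A.sum_proj u
  right_inv f := funext fun c => Subtype.ext (A.sum_comp_eq (fun c => (f c).2) c)

/-- The functionals with a non-zero component. -/
noncomputable def supp : Finset D5 := by
  classical exact Finset.univ.filter fun c => ∃ u, u ≠ 0 ∧ A.IsComp c u

theorem mem_supp {c : D5} : c ∈ A.supp ↔ ∃ u, u ≠ 0 ∧ A.IsComp c u := by
  classical
  simp [supp]

theorem eq_of_supp {u v : U} (h : ∀ c ∈ A.supp, A.proj c u = A.proj c v) : u = v := by
  refine A.splitEquiv.injective (funext fun c => Subtype.ext ?_)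
  show A.proj c u = A.proj c v
  by_cases hc : c ∈ A.supp
  · exact h c hc
  · have : ∀ w, A.proj c w = 0 := fun w => by
      by_contra hw
      exact hc (A.mem_supp.2 ⟨_, hw, A.isComp_proj c w⟩)
    rw [this, this]

theorem four_le [Finite U] {c : D5} (hc : c ∈ A.supp) : 4 ≤ Nat.card {u : U // A.IsComp c u} := by
  obtain ⟨u, hu0, hu⟩ := A.mem_supp.1 hc
  have h1 : A.R u ≠ 0 := fun h => hu0 (A.R.injective (by rw [h, map_zero]))
  have h2 : A.R u ≠ u := fun h => hu0 (A.eq_zero_of_R_fix h)
  let f : Fin 4 → {v : U // A.IsComp c v} := ![⟨0, A.isComp_zero c⟩, ⟨u, hu⟩, ⟨A.R u, A.isComp_R hu⟩,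
    ⟨A.R (A.R u), A.isComp_R (A.isComp_R hu)⟩]
  have hf : Function.Injective f := by
    intro i j h
    have h' := congrArg Subtype.val h
    fin_cases i <;> fin_cases j <;> simp [f] at h' ⊢
    all_goals first
      | exact hu0 h'
      | exact hu0 h'.symm
      | exact h1 h'
      | exact h1 h'.symm
      | exact h2 h'
      | exact h2 h'.symm
      | exact h1 (A.R.injective (h'.trans (map_zero A.R).symm))
      | exact h1 (A.R.injective (h'.symm.trans (map_zero A.R).symm))
      | exact h2 (A.R.injective h')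
      | exact h2 (A.R.injective h'.symm)
      | exact h2 (by have e := congrArg A.R h'; rwa [A.R_cube] at e)
      | exact h2 (by have e := congrArg A.R h'.symm; rwa [A.R_cube] at e)
  simpa using Nat.card_le_card_of_injective f hf

theorem prod_card_supp [Finite U] :
    ∏ c ∈ A.supp, Nat.card {u : U // A.IsComp c u} = Nat.card U := by
  classical
  have := Fintype.ofFinite U
  rw [Nat.card_congr A.splitEquiv, Nat.card_pi]
  refine Finset.prod_subset (Finset.subset_univ _) fun c _ hc => ?_
  rw [Nat.card_eq_one_iff_unique]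
  refine ⟨⟨fun a b => Subtype.ext ?_⟩, ⟨⟨0, A.isComp_zero c⟩⟩⟩
  have : ∀ w : {u : U // A.IsComp c u}, w.1 = 0 := fun w => by
    by_contra hw
    exact hc (A.mem_supp.2 ⟨_, hw, w.2⟩)
  rw [this, this]

theorem four_pow_le [Finite U] : 4 ^ A.supp.card ≤ Nat.card U := by
  rw [← A.prod_card_supp, ← Finset.prod_const]
  exact Finset.prod_le_prod' fun c hc => A.four_le hc

theorem supp_card_le [Finite U] {n : ℕ} (h : Nat.card U ≤ 4 ^ n) : A.supp.card ≤ n :=
  (Nat.pow_le_pow_iff_right (by norm_num)).1 (A.four_pow_le.trans h)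

theorem card_comp_eq [Finite U] {n : ℕ} (h : Nat.card U = 4 ^ n) (hn : A.supp.card = n) {c : D5}
    (hc : c ∈ A.supp) : Nat.card {u : U // A.IsComp c u} = 4 := by
  classical
  refine le_antisymm ?_ (A.four_le hc)
  have h1 := A.prod_card_supp
  rw [← Finset.mul_prod_erase _ _ hc, h] at h1
  have h2 : 4 ^ (n - 1) ≤ ∏ x ∈ A.supp.erase c, Nat.card {u : U // A.IsComp x u} := by
    rw [← hn, ← Finset.card_erase_of_mem hc, ← Finset.prod_const]
    exact Finset.prod_le_prod' fun x hx => A.four_le (Finset.mem_of_mem_erase hx)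
  have hn1 : 4 ^ n = 4 * 4 ^ (n - 1) := by
    rw [← pow_succ', Nat.sub_add_cancel (hn ▸ Finset.card_pos.2 ⟨c, hc⟩)]
  have h3 := Nat.mul_le_mul_left (Nat.card {u : U // A.IsComp c u}) h2
  rw [h1, hn1] at h3
  exact Nat.le_of_mul_le_mul_right h3 (pow_pos (by norm_num) _)

end Action

end CfsgLib.LargeFischer
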