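import Cfsg.Agent.LargeFischer.Pair

/-!
# The orbits of the centralizer on involutions of `Q` and on conjugates of `z` in `Q`
-/

set_option autoImplicit false
set_option linter.unusedSectionVars false
set_option linter.style.haveILetI false

namespace CfsgLib.LargeFischer

open Cfsg

variable {G : Type*} [Group G] [Finite G] {z : G} {Q : Subgroup (Cz z)} [Q.Normal]
  {D : Data z Q} (C : Coords D)

theorem Coords.conj_of_orbit {x y : Q} (hy : y ∉ Subgroup.center Q)
    (h : ∃ l, D.setting.φ l (vec x) = vec y) :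
    ∃ k : Cz z, k * (x : Cz z) * k⁻¹ = y := by
  obtain ⟨l, hl⟩ := h
  obtain ⟨k, hk⟩ := QuotientGroup.mk_surjective l.1
  have hl' : act l.1 (vec x) = vec y := hl
  rw [← hk, act_mk D.hS, actC_vec] at hl'
  have hc : conjIn k x ∉ Subgroup.center Q := fun e => hy ((vec_eq_zero D.hS).1 (by
    rw [← hl']; exact (vec_eq_zero D.hS).2 e))
  obtain ⟨b, hb⟩ := conj_of_vec_eq D.hS hc hl'
  refine ⟨b.1 * k, ?_⟩
  have := congrArg (fun q : Q => (q : Cz z)) hb
  simp only [Subgroup.coe_mul, Subgroup.coe_inv, conjIn_coe] at this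
  rw [← this]; group

theorem Coords.class_of_conj {x : Q} {k : Cz z} {y : Q} (hk : k * (x : Cz z) * k⁻¹ = y)
    (hx : C.F.InA C.c (vec x)) : C.F.InA C.c (vec y) := by
  have e : conjIn k x = y := Subtype.ext (by rw [conjIn_coe, hk])
  have := C.act_inA (QuotientGroup.mk k) hx
  rwa [act_mk D.hS, actC_vec, e] at this

theorem Coords.cases_of_involution {x : Q} (h2 : orderOf (x : Cz z) = 2) (hne : toG x ≠ z) :
    x ∉ Subgroup.center Q ∧ (C.F.InA C.c (vec x) ∨ C.F.InB C.c (vec x)) := by
  have hx2 : x * x = 1 := Subtype.ext (by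
    rw [Subgroup.coe_mul, Subgroup.coe_one, ← pow_two, ← h2, pow_orderOf_eq_one])
  have hc : x ∉ Subgroup.center Q := by
    intro h
    rcases (mem_center_cases D.hS).1 h with rfl | rfl
    · rw [Subgroup.coe_one, orderOf_one] at h2; norm_num at h2
    · exact hne rfl
  exact ⟨hc, C.cases ((qf_eq_zero_iff D.hS x).2 hx2) fun e => hc ((vec_eq_zero D.hS).1 e)⟩

/-- A conjugate of `z` in `Q` other than `z` is not central. -/
theorem conj_not_center (D : Data z Q) {x : Q} {g : G} (hg : g * z * g⁻¹ = toG x) (hne : toG x ≠ z) :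
    x ∉ Subgroup.center Q := by
  intro h
  rcases (mem_center_cases D.hS).1 h with rfl | rfl
  · have h1 : g * z * g⁻¹ = 1 := hg
    rw [conj_eq_one_iff] at h1
    exact zin_ne_one D.hS (Subtype.ext (Subtype.ext h1))
  · exact hne rfl

end CfsgLib.LargeFischer
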