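import Cfsg.Agent.LargeFischer.Module

/-!
# Coordinates for a group of large Fischer type: invariant classes and stabilisers
-/

set_option autoImplicit false
set_option linter.unusedSectionVars false
set_option linter.style.haveILetI false
set_option maxRecDepth 100000

namespace CfsgLib.LargeFischer

open Cfsg

theorem classW_rk : ∀ (k : ZMod 3), expW (rk k (1, 0)) = k := by decide

theorem exists_six : ∀ c : ZMod 3, ∃ w : Fin 6 → W, (suppW w).card = 6 ∧ classW w = c :=
  fun c => ⟨fun i => if i = 0 then rk c (1, 0) else (1, 0), by revert c; decide +kernel⟩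

namespace Frame

variable {L V : Type*} [Group L] [AddCommGroup V] {S : Setting L V} (F : Frame S)

/-- A vector of full support is fixed by an alternating group of monomial elements. -/
theorem exists_alt_hom {v : V} (hv : (suppW (F.coord v)).card = 6) :
    ∃ ι : alternatingGroup (Fin 6) →* L, Function.Injective ι ∧ ∀ π, S.φ (ι π) v = v := by
  classical
  have hne : ∀ i, F.coord v i ≠ 0 := by
    intro i hi
    have hu : suppW (F.coord v) = Finset.univ := (Finset.card_eq_iff_eq_univ _).1 (by rw [hv]; rfl)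
    have hmem : i ∈ suppW (F.coord v) := by rw [hu]; exact Finset.mem_univ i
    simp [suppW, hi] at hmem
  let e : Fin 6 → ZMod 3 := fun i => expW (F.coord v i)
  have hex : ∀ π : alternatingGroup (Fin 6), ∃ l, Realised S F.coord π.1 (fun i => e (π.1 i) - e i) l := by
    intro π
    obtain ⟨l₁, hl₁⟩ := F.perm π.1 π.2
    obtain ⟨l₂, hl₂⟩ := F.diag (fun i => e (π.1 i) - e i) (by
      rw [Finset.sum_sub_distrib, Equiv.sum_comp π.1 e, sub_self])
    exact ⟨l₁ * l₂, fun w i => by rw [S.φ_mul, hl₁, hl₂]⟩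
  choose f hf using hex
  have huniq : ∀ π k l l', Realised S F.coord π k l → Realised S F.coord π k l' → l = l' := by
    intro π k l l' h h'
    have := S.faithful (l⁻¹ * l') fun w => by
      have e1 : S.φ l w = S.φ l' w := F.coord.injective (funext fun j => by
        obtain ⟨i, rfl⟩ := π.surjective j
        rw [h, h'])
      rw [S.φ_mul, ← e1, ← S.φ_mul, inv_mul_cancel, S.φ_one]
    exact inv_mul_eq_one.1 this
  let ι : alternatingGroup (Fin 6) →* L := MonoidHom.mk' f fun π π' => by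
    refine huniq _ _ _ _ (hf (π * π')) ?_
    intro w i
    have := realised_mul (hf π) (hf π') w i
    rw [Subgroup.coe_mul, this]
    congr 1
    simp only [Equiv.Perm.mul_apply]
    ring
  refine ⟨ι, fun π π' h => ?_, fun π => F.coord.injective (funext fun j => ?_)⟩
  · by_contra hne'
    obtain ⟨i, hi⟩ : ∃ i, π.1 i ≠ π'.1 i := by
      by_contra hall
      push Not at hall
      exact hne' (Subtype.ext (Equiv.ext hall))
    let w : V := F.coord.symm fun j => if j = i then (1, 0) else 0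
    have h1 := hf π w i
    have h2 := hf π' w (π'.1.symm (π.1 i))
    rw [Equiv.apply_symm_apply, show f π' = f π from h.symm, h1] at h2
    have hne2 : π'.1.symm (π.1 i) ≠ i := fun e' => hi (by
      rw [← π'.1.apply_symm_apply (π.1 i), e'])
    simp only [w, AddEquiv.apply_symm_apply, if_neg hne2] at h2
    rw [if_pos trivial, rk_one_zero, suppW_rk] at h2
    exact absurd h2 (by decide)
  · obtain ⟨i, rfl⟩ := π.1.surjective j
    show F.coord (S.φ (f π) v) (π.1 i) = F.coord v (π.1 i)
    rw [hf π]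
    conv_lhs => rw [exists_rk _ (hne i), ← rk_add]
    rw [show e (π.1 i) - e i + expW (F.coord v i) = e (π.1 i) from sub_add_cancel _ _]
    exact (exists_rk _ (hne _)).symm

end Frame

variable {G : Type*} [Group G] [Finite G] {z : G} {Q : Subgroup (Cz z)} [Q.Normal]

/-- Coordinates together with the class splitting the singular vectors in two orbits. -/
structure Coords (D : Data z Q) where
  F : Frame D.setting
  c : ZMod 3
  orbA : ∀ u w, F.InA c u → ((∃ l, D.setting.φ l u = w) ↔ F.InA c w)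
  orbB : ∀ u w, F.InB c u → ((∃ l, D.setting.φ l u = w) ↔ F.InB c w)

theorem Data.exists_coords (D : Data z Q) : Nonempty (Coords D) := by
  obtain ⟨F⟩ := D.exists_frame
  obtain ⟨c, hA, hB⟩ := F.exists_class D.L_card
  exact ⟨⟨F, c, hA, hB⟩⟩

namespace Coords

variable {D : Data z Q} (C : Coords D)

theorem q_zero_of {v : QV Q} (h : C.F.InA C.c v ∨ C.F.InB C.c v) : qf D.hS v = 0 := by
  refine C.F.q_of_card ?_
  rcases h with (h | ⟨h, -⟩) | (h | ⟨h, -⟩) <;> rw [h]

theorem ne_zero_of {v : QV Q} (h : C.F.InA C.c v ∨ C.F.InB C.c v) : v ≠ 0 := fun e => by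
  have h0 := (C.F.coord_zero_iff v).2 e
  rcases h with (h | ⟨h, -⟩) | (h | ⟨h, -⟩) <;> omega

theorem cases {v : QV Q} (hq : qf D.hS v = 0) (hv : v ≠ 0) : C.F.InA C.c v ∨ C.F.InB C.c v :=
  C.F.inA_or_inB C.c hq hv

include C in
/-- `H` normalises `L`, so permutes its orbits. -/
theorem act_orbit (h : Cz z ⧸ Q) (u : QV Q) :
    Nat.card {w // ∃ l, D.setting.φ l u = w} = Nat.card {w // ∃ l, D.setting.φ l (act h u) = w} := by
  refine Nat.card_congr ((act h).toEquiv.subtypeEquiv fun w => ?_)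
  constructor
  · rintro ⟨l, rfl⟩
    refine ⟨⟨h * l.1 * h⁻¹, D.L_normal.conj_mem _ l.2 h⟩, ?_⟩
    show act (h * l.1 * h⁻¹) (act h u) = act h (act l.1 u)
    rw [← act_mul D.hS, ← act_mul D.hS, inv_mul_cancel_right]
  · rintro ⟨l, hl⟩
    refine ⟨⟨h⁻¹ * l.1 * h⁻¹⁻¹, D.L_normal.conj_mem _ l.2 h⁻¹⟩, (act h).injective ?_⟩
    show act h (act (h⁻¹ * l.1 * h⁻¹⁻¹) u) = act h w
    rw [← show act l.1 (act h u) = act h w from hl, ← act_mul D.hS, ← act_mul D.hS]
    congr 2
    group

theorem card_orbit_A {u : QV Q} (hu : C.F.InA C.c u) : Nat.card {w // ∃ l, D.setting.φ l u = w} = 378 := by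
  rw [← C.F.card_inA C.c]
  exact Nat.card_congr (Equiv.subtypeEquivRight fun w => C.orbA u w hu)

theorem card_orbit_B {u : QV Q} (hu : C.F.InB C.c u) : Nat.card {w // ∃ l, D.setting.φ l u = w} = 1701 := by
  rw [← C.F.card_inB C.c]
  exact Nat.card_congr (Equiv.subtypeEquivRight fun w => C.orbB u w hu)

theorem act_singular (h : Cz z ⧸ Q) {u : QV Q} (hu : C.F.InA C.c u ∨ C.F.InB C.c u) :
    C.F.InA C.c (act h u) ∨ C.F.InB C.c (act h u) :=
  C.cases (by rw [qf_act, C.q_zero_of hu]) fun e => C.ne_zero_of hu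
    ((act h).injective (e.trans (map_zero (act h)).symm))

theorem act_inA (h : Cz z ⧸ Q) {u : QV Q} (hu : C.F.InA C.c u) : C.F.InA C.c (act h u) := by
  rcases C.act_singular h (Or.inl hu) with h' | h'
  · exact h'
  · have := C.act_orbit h u
    rw [C.card_orbit_A hu, C.card_orbit_B h'] at this
    norm_num at this

theorem act_inB (h : Cz z ⧸ Q) {u : QV Q} (hu : C.F.InB C.c u) : C.F.InB C.c (act h u) := by
  rcases C.act_singular h (Or.inr hu) with h' | h'
  · have := C.act_orbit h u
    rw [C.card_orbit_B hu, C.card_orbit_A h'] at this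
    norm_num at this
  · exact h'

/-- The stabiliser of a vector in `H/Q`. -/
def stab (_C : Coords D) (v : QV Q) : Subgroup (Cz z ⧸ Q) where
  carrier := {h | act h v = v}
  one_mem' := by
    show act (1 : Cz z ⧸ Q) v = v
    have h := act_mul D.hS 1 1 v
    rw [one_mul] at h
    exact (act 1).injective h.symm
  mul_mem' := by
    intro a b ha hb
    show act (a * b) v = v
    rw [act_mul D.hS, show act b v = v from hb, show act a v = v from ha]
  inv_mem' := by
    intro a ha
    show act a⁻¹ v = v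
    apply (act a).injective
    have h := act_mul D.hS 1 1 v
    rw [one_mul] at h
    rw [← act_mul D.hS, mul_inv_cancel, ← (act 1).injective h, show act a v = v from ha]

theorem mem_stab {v : QV Q} {h : Cz z ⧸ Q} : h ∈ C.stab v ↔ act h v = v := Iff.rfl

theorem card_stab_L {v : QV Q} {n m : ℕ} (hn : Nat.card {w // ∃ l, D.setting.φ l v = w} = n)
    (hnm : n * m = 9797760) : Nat.card (C.stab v ⊓ D.L : Subgroup (Cz z ⧸ Q)) = m := by
  classical
  letI : MulAction D.L (QV Q) :=
    { smul := fun l w => D.setting.φ l w, one_smul := D.setting.φ_one, mul_smul := D.setting.φ_mul }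
  have h1 := Nat.card_congr (MulAction.orbitEquivQuotientStabilizer D.L v)
  have h2 := (MulAction.stabilizer D.L v).card_mul_index
  rw [show (MulAction.stabilizer D.L v).index = Nat.card (D.L ⧸ MulAction.stabilizer D.L v) from rfl,
    ← h1, D.L_card] at h2
  have h3 : Nat.card (MulAction.orbit D.L v) = n := by
    rw [← hn]; exact Nat.card_congr (Equiv.subtypeEquivRight fun w => Iff.rfl)
  have h4 : Nat.card (C.stab v ⊓ D.L : Subgroup (Cz z ⧸ Q)) = Nat.card (MulAction.stabilizer D.L v) :=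
    Nat.card_congr ⟨fun a => ⟨⟨a.1, a.2.2⟩, a.2.1⟩, fun a => ⟨a.1.1, a.2, a.1.2⟩, fun a => rfl,
      fun a => rfl⟩
  have hn0 : 0 < n := Nat.pos_of_ne_zero fun e => by simp [e] at hnm
  rw [h3, ← h4] at h2
  exact Nat.eq_of_mul_eq_mul_right hn0 (h2.trans (by rw [← hnm, mul_comm]))

/-- The stabiliser in `H` has twice the order, since the orbit of `L` is invariant. -/
theorem card_stab {v : QV Q} (hv : C.F.InA C.c v ∨ C.F.InB C.c v) :
    Nat.card (C.stab v) = 2 * Nat.card (C.stab v ⊓ D.L : Subgroup (Cz z ⧸ Q)) := by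
  have htrans : ∀ h : Cz z ⧸ Q, ∃ l : D.L, D.setting.φ l v = act h v := fun h => by
    rcases hv with hv | hv
    · exact (C.orbA v _ hv).2 (C.act_inA h hv)
    · exact (C.orbB v _ hv).2 (C.act_inB h hv)
  have hd : ∀ h : Cz z ⧸ Q, ∃ k ∈ C.stab v, h⁻¹ * k ∈ D.L := by
    intro h
    obtain ⟨l, hl⟩ := htrans h
    refine ⟨(l : Cz z ⧸ Q)⁻¹ * h, ?_, ?_⟩
    · rw [C.mem_stab, act_mul D.hS, ← show act l.1 v = act h v from hl]
      have h1 := D.setting.φ_inv l v
      exact h1
    · have := D.L_normal.conj_mem _ (D.L.inv_mem l.2) h⁻¹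
      rwa [inv_inv, mul_assoc] at this
  obtain ⟨k0, hk0⟩ : ∃ k, k ∉ D.L := by
    by_contra h
    push Not at h
    have := D.L_index
    rw [(Subgroup.eq_top_iff' _).2 h, Subgroup.index_top] at this
    norm_num at this
  obtain ⟨k, hk, hkL⟩ := hd k0
  have hkn : k ∉ D.L := fun h => hk0 (by
    have := D.L.mul_mem h (D.L.inv_mem hkL)
    simpa [mul_assoc] using this)
  have hidx : ((C.stab v ⊓ D.L).subgroupOf (C.stab v)).index = 2 := by
    rw [Subgroup.index_eq_two_iff]
    refine ⟨⟨k, hk⟩, fun b => ?_⟩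
    have h1 := Subgroup.mul_mem_iff_of_index_two D.L_index (a := b.1) (b := k)
    simp only [Subgroup.mem_subgroupOf, Subgroup.mem_inf, Subgroup.coe_mul]
    by_cases hb : b.1 ∈ D.L
    · exact Or.inr ⟨⟨b.2, hb⟩, fun h => hkn ((h1.1 h.2).1 hb)⟩
    · exact Or.inl ⟨⟨(C.stab v).mul_mem b.2 hk, h1.2 ⟨fun h => absurd h hb, fun h => absurd h hkn⟩⟩,
        fun h => hb h.2⟩
  have := ((C.stab v ⊓ D.L).subgroupOf (C.stab v)).card_mul_index
  rw [hidx, Nat.card_congr (Subgroup.subgroupOfEquivOfLe inf_le_left).toEquiv] at this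
  omega

/-- An alternating group inside the stabiliser in `L` of a singular vector. -/
theorem exists_alt {v : QV Q} (hv : C.F.InA C.c v ∨ C.F.InB C.c v) :
    ∃ ι : alternatingGroup (Fin 6) →* (Cz z ⧸ Q), Function.Injective ι ∧
      ∀ π, ι π ∈ C.stab v ⊓ D.L := by
  obtain ⟨v0, hv0, l, hl⟩ : ∃ v0, (suppW (C.F.coord v0)).card = 6 ∧ ∃ l, D.setting.φ l v0 = v := by
    rcases hv with hv | hv
    · obtain ⟨w, hw, hwc⟩ := exists_six C.c
      refine ⟨C.F.coord.symm w, ?_, (C.orbA _ v ?_).2 hv⟩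
      · rw [AddEquiv.apply_symm_apply, hw]
      · right; rw [AddEquiv.apply_symm_apply]; exact ⟨hw, hwc⟩
    · obtain ⟨w, hw, hwc⟩ := exists_six (C.c + 1)
      refine ⟨C.F.coord.symm w, ?_, (C.orbB _ v ?_).2 hv⟩
      · rw [AddEquiv.apply_symm_apply, hw]
      · right; rw [AddEquiv.apply_symm_apply, hwc]
        exact ⟨hw, fun e => absurd (add_eq_left.1 e) (by decide)⟩
  obtain ⟨ι0, hι0, hfix⟩ := C.F.exists_alt_hom hv0
  let ι : alternatingGroup (Fin 6) →* (Cz z ⧸ Q) :=
    D.L.subtype.comp ((MulAut.conj l).toMonoidHom.comp ι0)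
  refine ⟨ι, ?_, fun π => ⟨?_, ((MulAut.conj l) (ι0 π)).2⟩⟩
  · exact D.L.subtype_injective.comp ((MulAut.conj l).injective.comp hι0)
  · show act (((MulAut.conj l) (ι0 π) : D.L) : Cz z ⧸ Q) v = v
    show D.setting.φ (l * ι0 π * l⁻¹) v = v
    rw [D.setting.φ_mul, D.setting.φ_mul, ← hl, D.setting.φ_inv, hfix]

end Coords

end CfsgLib.LargeFischer
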