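import Cfsg.Agent.LargeFischer.SplitFrame
import Cfsg.Agent.LargeFischer.Coords

/-!
# The triple cover in the quotient

The normal subgroup `L` of index two is perfect and its centre is the scalar subgroup.
-/

set_option autoImplicit false
set_option linter.unusedSectionVars false
set_option linter.style.haveILetI false

namespace CfsgLib.LargeFischer

open Cfsg
open scoped commutatorElement

variable {G : Type*} [Group G] [Finite G] {z : G} {Q : Subgroup (Cz z)} [Q.Normal]

namespace Data

variable (D : Data z Q)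

theorem psu_facts : letI := D.fieldK; letI := D.fintypeK
    IsSimpleGroup (Cfsg.PSU 4 D.K 3) ∧ Nat.card (Cfsg.PSU 4 D.K 3) = 3265920 := by
  letI := D.fieldK
  letI := D.fintypeK
  haveI : Fact (Nat.Prime 3) := ⟨by norm_num⟩
  haveI : CharP D.K 3 := charP_of_card_eq_prime_pow (f := 2) (p := 3) (by rw [D.cardK]; norm_num)
  obtain ⟨ι, hι⟩ := CfsgLib.UThree.exists_iota D.cardK
  exact ⟨CfsgLib.Forms4.isSimpleGroup_PSU (by rw [D.cardK]; norm_num) 4 (by norm_num) (by norm_num),
    CfsgLib.UFourThree.card_eq hι D.cardK⟩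

/-- Modulo a normal subgroup with nontrivial image everything is scalar. -/
theorem normal_cases (N : Subgroup D.L) [hN : N.Normal] :
    N ≤ Subgroup.zpowers D.x ∨ N ⊔ Subgroup.zpowers D.x = ⊤ := by
  letI := D.fieldK
  letI := D.fintypeK
  haveI := D.psu_facts.1
  rcases (hN.map D.π D.π_surj).eq_bot_or_eq_top with h | h
  · exact Or.inl fun a ha => (D.π_ker a).1 (by
      rw [← Subgroup.mem_bot, ← h]; exact Subgroup.mem_map_of_mem D.π ha)
  · refine Or.inr ((Subgroup.eq_top_iff' _).2 fun a => ?_)
    obtain ⟨n, hn, e⟩ : D.π a ∈ N.map D.π := by rw [h]; exact Subgroup.mem_top _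
    have hk : D.π (n⁻¹ * a) = 1 := by rw [map_mul, map_inv, e, inv_mul_cancel]
    have := Subgroup.mul_mem (N ⊔ Subgroup.zpowers D.x) (Subgroup.mem_sup_left hn)
      (Subgroup.mem_sup_right ((D.π_ker _).1 hk))
    simpa using this

/-- The scalar is a commutator. -/
theorem x_mem_commutator : D.x ∈ commutator D.L := by
  obtain ⟨F⟩ := D.exists_frame
  set σ : Equiv.Perm (Fin 6) := SplitGeom.cyc1 * SplitGeom.cyc2 with hσ
  obtain ⟨p, hp⟩ := F.perm σ (Equiv.Perm.mem_alternatingGroup.2 (by rw [hσ]; decide))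
  let k : Fin 6 → ZMod 3 := ![0, 2, 1, 0, 2, 1]
  obtain ⟨d, hd⟩ := F.diag k (by decide)
  have hk : ∀ (i : Fin 6) (w : W), rk (k i) (rk (-k (σ i)) w) = rW w := by
    rw [hσ]; decide
  have hp' : ∀ v i, F.coord (D.setting.φ p⁻¹ v) i = F.coord v (σ i) := fun v i => by
    rw [← hp, ← D.setting.φ_mul, mul_inv_cancel, D.setting.φ_one]
  have hd' : ∀ v i, F.coord (D.setting.φ d⁻¹ v) i = rk (-k i) (F.coord v i) := fun v i => by
    have h := hd (D.setting.φ d⁻¹ v) i
    rw [← D.setting.φ_mul, mul_inv_cancel, D.setting.φ_one] at h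
    rw [h]
    exact ((by decide : ∀ (a : ZMod 3) (w : W), rk (-a) (rk a w) = w) _ _).symm
  have he : ⁅p, d⁆ = D.x := by
    refine eq_of_inv_mul_eq_one (D.setting.faithful _ fun v => ?_)
    have hh : D.setting.φ ⁅p, d⁆ v = D.setting.φ D.x v := by
      refine F.coord.injective (funext fun j => ?_)
      obtain ⟨i, rfl⟩ := σ.surjective j
      rw [commutatorElement_def, D.setting.φ_mul, D.setting.φ_mul, D.setting.φ_mul, hp, hd, hp', hd', hk]
      exact (F.coord_x v (σ i)).symm
    rw [D.setting.φ_mul, ← hh, ← D.setting.φ_mul, inv_mul_cancel, D.setting.φ_one]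
  rw [← he, commutator_def]
  exact Subgroup.commutator_mem_commutator (Subgroup.mem_top p) (Subgroup.mem_top d)

theorem commutator_L : commutator D.L = ⊤ := by
  haveI : (commutator D.L).Normal := inferInstance
  have hx := Subgroup.zpowers_le.2 D.x_mem_commutator
  rcases D.normal_cases (commutator D.L) with h | h
  · exfalso
    obtain ⟨F⟩ := D.exists_frame
    let t : alternatingGroup (Fin 6) :=
      ⟨Equiv.swap 0 1 * Equiv.swap 2 3, Equiv.Perm.mem_alternatingGroup.2 (by decide)⟩
    have ht : F.permHom t ∈ commutator D.L := by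
      have := Subgroup.map_commutator ⊤ ⊤ F.permHom
      rw [← commutator_def, alternating_perfect] at this
      rw [commutator_def]
      exact Subgroup.commutator_mono le_top le_top (this ▸ Subgroup.mem_map_of_mem _ (Subgroup.mem_top t))
    obtain ⟨k, hk⟩ := Subgroup.mem_zpowers_iff.1 (h ht)
    have h3 : F.permHom (t ^ 3) = 1 := by
      rw [map_pow, ← hk, ← zpow_natCast, ← zpow_mul, mul_comm, zpow_mul, zpow_natCast, D.x3, one_zpow]
    exact absurd (F.permHom_injective (h3.trans (map_one _).symm)) (by decide)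
  · rwa [sup_eq_left.2 hx] at h

theorem center_L : Subgroup.center D.L = Subgroup.zpowers D.x := by
  refine le_antisymm ?_ (Subgroup.zpowers_le.2 D.x_center)
  rcases D.normal_cases (Subgroup.center D.L) with h | h
  · exact h
  · exfalso
    rw [sup_eq_left.2 (Subgroup.zpowers_le.2 D.x_center)] at h
    have hc : commutator D.L = ⊥ := by
      rw [eq_bot_iff, commutator_def, Subgroup.commutator_le]
      intro a _ b _
      rw [Subgroup.mem_bot, commutatorElement_eq_one_iff_mul_comm]
      exact Subgroup.mem_center_iff.1 (h ▸ Subgroup.mem_top b) a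
    have h1 := D.x_mem_commutator
    rw [hc, Subgroup.mem_bot] at h1
    exact D.x_ne h1

end Data

end CfsgLib.LargeFischer
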