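import Mathlib

/-!
# The module of `3.U4(3)` in monomial coordinates: definitions

A group `L` with a central element `x` of order three acts on an elementary abelian group `V` of order `2^12`
preserving a nondegenerate quadratic form.  A frame is a system of coordinates in which the monomial group
`3^5:A6` is visible and the form is the parity of the weight.
-/

set_option autoImplicit false

namespace CfsgLib.LargeFischer

/-- The additive group of the field with four elements. -/
abbrev W := ZMod 2 × ZMod 2

/-- Multiplication by a primitive element of the field with four elements. -/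
def rW : W ≃+ W where
  toFun w := (w.2, w.1 + w.2)
  invFun w := (w.1 + w.2, w.1)
  left_inv := by decide
  right_inv := by decide
  map_add' := by decide

/-- Multiplication by a power of it. -/
def rk (k : ZMod 3) (w : W) : W := if k = 0 then w else if k = 1 then rW w else rW (rW w)

/-- The exponent of a non-zero element; `0` for `0`. -/
def expW (w : W) : ZMod 3 := if w = (0, 1) then 1 else if w = (1, 1) then 2 else 0

/-- The support. -/
def suppW (w : Fin 6 → W) : Finset (Fin 6) := Finset.univ.filter fun i => w i ≠ 0

/-- The product class of a vector of full support. -/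
def classW (w : Fin 6 → W) : ZMod 3 := ∑ i, expW (w i)

/-- A module with scalar `x` and invariant quadratic form. -/
structure Setting (L V : Type*) [Group L] [AddCommGroup V] where
  φ : L → V ≃+ V
  φ_mul : ∀ a b v, φ (a * b) v = φ a (φ b v)
  faithful : ∀ l, (∀ v, φ l v = v) → l = 1
  x : L
  x3 : x ^ 3 = 1
  x_ne : x ≠ 1
  x_center : x ∈ Subgroup.center L
  two : ∀ v : V, v + v = 0
  card_V : Nat.card V = 4096
  q : V → ZMod 2
  b : V → V → ZMod 2
  q_add : ∀ u v, q (u + v) = q u + q v + b u v
  b_add : ∀ u v w, b u (v + w) = b u v + b u w
  nondeg : ∀ u, u ≠ 0 → ∃ v, b u v ≠ 0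
  q_inv : ∀ l v, q (φ l v) = q v

/-- Monomial coordinates. -/
structure Frame {L V : Type*} [Group L] [AddCommGroup V] (S : Setting L V) where
  coord : V ≃+ (Fin 6 → W)
  coord_x : ∀ v i, coord (S.φ S.x v) i = rW (coord v i)
  diag : ∀ k : Fin 6 → ZMod 3, ∑ i, k i = 0 → ∃ l, ∀ v i, coord (S.φ l v) i = rk (k i) (coord v i)
  perm : ∀ π ∈ alternatingGroup (Fin 6), ∃ l, ∀ v i, coord (S.φ l v) (π i) = coord v i
  q_coord : ∀ v, S.q v = ((suppW (coord v)).card : ZMod 2)

namespace Frame

variable {L V : Type*} [Group L] [AddCommGroup V] {S : Setting L V} (F : Frame S) (c : ZMod 3)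

/-- The class of size 378: weight two, or full support of product class `c`. -/
def InA (v : V) : Prop :=
  (suppW (F.coord v)).card = 2 ∨ ((suppW (F.coord v)).card = 6 ∧ classW (F.coord v) = c)

/-- The class of size 1701: weight four, or full support of another product class. -/
def InB (v : V) : Prop :=
  (suppW (F.coord v)).card = 4 ∨ ((suppW (F.coord v)).card = 6 ∧ classW (F.coord v) ≠ c)

end Frame

end CfsgLib.LargeFischer
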