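import Cfsg.Agent.LargeFischer.EightGroup

/-!
# The centralizer of the eight-group: an extension of a group of order `2^15` by `A6`
-/

set_option autoImplicit false
set_option linter.unusedSectionVars false
set_option linter.style.haveILetI false
set_option maxHeartbeats 1000000

namespace CfsgLib.LargeFischer

open Cfsg
open scoped commutatorElement

variable {G : Type*} [Group G] [Finite G] {z : G} {Q : Subgroup (Cz z)} [Q.Normal]

/-- The centralizer lies in `H`. -/
theorem eightC_le (D : Data z Q) (x : Q) : eightC D x ≤ Cz z := fun _ hk =>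
  Subgroup.mem_centralizer_singleton_iff.2 ((Subgroup.mem_centralizer_iff.1 hk z (z_mem_eight D x)).symm)

/-- The image of the centralizer in `H/Q`. -/
def eightImg (D : Data z Q) (x : Q) : eightC D x →* Cz z ⧸ Q :=
  (QuotientGroup.mk' Q).comp (Subgroup.inclusion (eightC_le D x))

theorem exists_t (D : Data z Q) (x : Q) : ∃ t : Q, vec t = act (D.x : Cz z ⧸ Q) (vec x) :=
  vec_surjective _

/-- Elements commuting with the first but not the second of two independent classes. -/
theorem exists_sep (D : Data z Q) {x t : Q} (hx : x ∉ Subgroup.center Q)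
    (ht : vec t = act (D.x : Cz z ⧸ Q) (vec x)) : ∃ q : Q, Commute q x ∧ ¬ Commute q t := by
  have hu : vec x ≠ 0 := fun e => hx ((vec_eq_zero D.hS).1 e)
  by_contra h
  push Not at h
  haveI : Fact (Nat.Prime 2) := ⟨Nat.prime_two⟩
  let K : Subgroup Q :=
    { carrier := {a | vec a = 0 ∨ vec a = vec x}
      one_mem' := Or.inl vec_one
      mul_mem' := by
        intro a b ha hb
        show vec (a * b) = 0 ∨ vec (a * b) = vec x
        rw [vec_mul]
        rcases ha with ha | ha <;> rcases hb with hb | hb <;> rw [ha, hb] <;> simp [QV_two D.hS]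
      inv_mem' := by
        intro a ha
        have h : vec a⁻¹ = vec a := by
          have h1 : vec a⁻¹ + vec a = 0 := by rw [← vec_mul, inv_mul_cancel, vec_one]
          calc vec a⁻¹ = vec a⁻¹ + (vec a + vec a) := by rw [QV_two D.hS, add_zero]
            _ = vec a := by rw [← add_assoc, h1, zero_add]
        show vec a⁻¹ = 0 ∨ vec a⁻¹ = vec x
        rwa [h] }
  have hZK : Subgroup.center Q ≤ K := fun c hc => Or.inl ((vec_eq_zero D.hS).2 hc)
  have htK : t ∈ Subgroup.centralizer ((Subgroup.centralizer (K : Set Q) : Subgroup Q) : Set Q) := by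
    rw [Subgroup.mem_centralizer_iff]
    intro q hq
    exact (h q (Subgroup.mem_centralizer_iff.1 hq x (Or.inr rfl)).symm).eq
  rw [CfsgLib.ExtraspecialBasic.centralizer_centralizer D.hS.2.2.1 hZK] at htK
  rcases htK with e | e <;> rw [ht] at e
  · exact hu ((act _).injective (e.trans (map_zero _).symm))
  · exact hu (x_fix_zero D e)

variable (D : Data z Q) {g : G} {x : Q} (hgx : g * z * g⁻¹ = toG x) (hx : x ∉ Subgroup.center Q)

include hx in
theorem eightImg_range (C : Coords D) : (eightImg D x).range = C.stab (vec x) ⊓ D.L := by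
  obtain ⟨t, ht⟩ := exists_t D x
  have hu : vec x ≠ 0 := fun e => hx ((vec_eq_zero D.hS).1 e)
  ext h
  constructor
  · rintro ⟨⟨k, hk⟩, rfl⟩
    obtain ⟨-, h2, h3⟩ := (mem_eightC_iff D ht).1 hk
    set k' : Cz z := ⟨k, eightC_le D x hk⟩
    have e : ∀ a : Q, Commute k (toG a) → act (QuotientGroup.mk k' : Cz z ⧸ Q) (vec a) = vec a := fun a ha => by
      rw [act_mk D.hS, actC_vec]
      congr 1
      refine Subtype.ext (Subtype.ext ?_)
      show toG (conjIn k' a) = toG a
      rw [conjIn_toG, ha.eq, mul_inv_cancel_right]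
    refine ⟨e x h2, mem_L_of_fix D hu (e x h2) ?_⟩
    show act (QuotientGroup.mk k' : Cz z ⧸ Q) (act (D.x : Cz z ⧸ Q) (vec x)) = _
    rw [← ht]
    exact e t h3
  · rintro ⟨hs, hL⟩
    obtain ⟨k, rfl, hk⟩ := exists_commuting D hx C hs
    have hkt : vec (conjIn k t) = vec t := by
      rw [← actC_vec, ← act_mk D.hS, ht, ← act_mul D.hS,
        show (QuotientGroup.mk k : Cz z ⧸ Q) * (D.x : Cz z ⧸ Q) = (D.x : Cz z ⧸ Q) * QuotientGroup.mk k from
          congrArg Subtype.val (Subgroup.mem_center_iff.1 D.x_center ⟨_, hL⟩), act_mul D.hS, C.mem_stab.1 hs]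
    have hkz : Commute (k : G) z := Subgroup.mem_centralizer_singleton_iff.1 k.2
    have mem : ∀ k' : Cz z, Commute (k' : G) (toG x) → toG (conjIn k' t) = toG t → (k' : G) ∈ eightC D x := by
      intro k' h1 h2
      refine (mem_eightC_iff D ht).2 ⟨Subgroup.mem_centralizer_singleton_iff.1 k'.2, h1, ?_⟩
      rw [conjIn_toG] at h2
      exact mul_inv_eq_iff_eq_mul.1 h2
    rcases (mem_center_cases D.hS).1 ((vec_eq_iff D.hS).1 hkt) with e | e
    · exact ⟨⟨k, mem k hk (by rw [inv_mul_eq_one.1 e])⟩, rfl⟩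
    · obtain ⟨q, hq1, hq2⟩ := exists_sep D hx ht
      have hc : ⁅q, t⁆ = zin D.hS := (comm_center D.hS q t).resolve_left fun h' =>
        hq2 (commutatorElement_eq_one_iff_commute.1 h')
      have hzc := fun u : Q => (Subgroup.mem_center_iff.1 ((mem_center_cases D.hS).2 (Or.inr rfl)) u :
        u * zin D.hS = zin D.hS * u)
      have e1 : conjIn k t = t * zin D.hS := by
        nth_rewrite 2 [inv_mul_eq_iff_eq_mul.1 e]
        rw [mul_assoc, zin_sq D.hS, mul_one]
      have e2 : conjIn (q.1 * k) t = t := by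
        rw [conjIn_mul, e1, map_mul]
        have a1 : conjIn q.1 t = zin D.hS * t := Subtype.ext (by
          rw [conjIn_coe, ← hc]
          simp [commutatorElement_def])
        have a2 : conjIn q.1 (zin D.hS) = zin D.hS := Subtype.ext (by
          have h' := congrArg Subtype.val (hzc q)
          simp only [Subgroup.coe_mul] at h'
          rw [conjIn_coe, h', mul_inv_cancel_right])
        rw [a1, a2, mul_assoc, hzc, ← mul_assoc, zin_sq D.hS, one_mul]
      refine ⟨⟨((q.1 * k : Cz z) : G), mem _ ?_ (by rw [e2])⟩, ?_⟩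
      · exact (show Commute (toG q) (toG x) from congrArg toG hq1.eq).mul_left hk
      · show QuotientGroup.mk (q.1 * k) = _
        rw [QuotientGroup.mk_mul, (QuotientGroup.eq_one_iff _).2 q.2, one_mul]

include hgx hx in
theorem card_C_Q : Nat.card (eightC D x ⊓ inG Q : Subgroup G) = 2048 := by
  haveI : Fact (Nat.Prime 2) := ⟨Nat.prime_two⟩
  have h := CfsgLib.ExtraspecialBasic.card_centralizer_mul_card D.hS.2.2.1 (center_le_lineSub D x)
  rw [card_lineSub D hx, D.hS.2.2.2.1] at h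
  norm_num at h
  have e : Nat.card (Subgroup.centralizer ((lineSub D x : Subgroup Q) : Set Q)) =
      Nat.card (eightC D x ⊓ inG Q : Subgroup G) := by
    refine Nat.card_congr (Equiv.ofBijective (fun a => ⟨toG a.1, ?_, mem_inG.2 ⟨a.1, rfl⟩⟩) ⟨?_, ?_⟩)
    · refine Subgroup.mem_centralizer_iff.2 ?_
      rintro _ ⟨b, hb, rfl⟩
      exact congrArg (qIncl Q) (Subgroup.mem_centralizer_iff.1 a.2 b hb)
    · exact fun a b h => Subtype.ext (Subtype.ext (Subtype.ext (congrArg Subtype.val h :)))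
    · rintro ⟨a, ha, hb⟩
      obtain ⟨q, rfl⟩ := mem_inG.1 hb
      refine ⟨⟨q, Subgroup.mem_centralizer_iff.2 fun b hb => ?_⟩, rfl⟩
      exact qIncl_injective Q (Subgroup.mem_centralizer_iff.1 ha (toG b) (toG_mem_eight.2 hb))
  rw [← e]
  exact Nat.eq_of_mul_eq_mul_right (by norm_num : 0 < 8) (h.trans (by norm_num))

include hgx hx in
theorem card_eightC : Nat.card (eightC D x) = 2048 * 5760 := by
  obtain ⟨C⟩ := D.exists_coords
  obtain ⟨hB, -⟩ := image_main D hgx hx C
  have h1 := (eightImg D x).ker.card_mul_index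
  rw [Subgroup.index_ker, eightImg_range D hx C,
    C.card_stab_L (C.card_orbit_B hB) (m := 5760) (by norm_num)] at h1
  have h2 : Nat.card (eightImg D x).ker = 2048 := by
    rw [← card_C_Q D hgx hx]
    refine Nat.card_congr ⟨fun a => ⟨a.1.1, a.1.2, ?_⟩, fun a => ⟨⟨a.1, a.2.1⟩, ?_⟩, fun _ => rfl, fun _ => rfl⟩
    · exact mem_inG.2 ⟨⟨_, (QuotientGroup.eq_one_iff _).1 (MonoidHom.mem_ker.1 a.2)⟩, rfl⟩
    · obtain ⟨q, hq⟩ := mem_inG.1 a.2.2
      refine MonoidHom.mem_ker.2 ((QuotientGroup.eq_one_iff _).2 ?_)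
      rw [show Subgroup.inclusion (eightC_le D x) ⟨a.1, a.2.1⟩ = q.1 from Subtype.ext hq.symm]
      exact q.2
  rw [← h1, h2]

/-- The 2-radical of the centralizer: the elements with image in the image of the conjugate. -/
def eightR (D : Data z Q) (g : G) (x : Q) : Subgroup G :=
  ((eImage Q g).comap (eightImg D x)).map (eightC D x).subtype

theorem mem_eightR {D : Data z Q} {g : G} {x : Q} {r : G} :
    r ∈ eightR D g x ↔ ∃ hr : r ∈ eightC D x, eightImg D x ⟨r, hr⟩ ∈ eImage Q g := by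
  constructor
  · rintro ⟨a, ha, rfl⟩; exact ⟨a.2, ha⟩
  · rintro ⟨hr, h⟩; exact ⟨⟨r, hr⟩, h, rfl⟩

theorem eightR_le (D : Data z Q) (g : G) (x : Q) : eightR D g x ≤ eightC D x := fun _ h => (mem_eightR.1 h).1

theorem C_Q_le_eightR (D : Data z Q) (g : G) (x : Q) : eightC D x ⊓ inG Q ≤ eightR D g x := by
  rintro r ⟨h1, h2⟩
  obtain ⟨q, hq⟩ := mem_inG.1 h2
  refine mem_eightR.2 ⟨h1, ?_⟩
  rw [show eightImg D x ⟨r, h1⟩ = QuotientGroup.mk q.1 from congrArg QuotientGroup.mk (Subtype.ext hq.symm),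
    (QuotientGroup.eq_one_iff _).2 q.2]
  exact one_mem _

include hgx hx in
/-- The map onto the alternating group. -/
theorem exists_chi : ∃ χ : eightC D x →* alternatingGroup (Fin 6), Function.Surjective χ ∧
    ∀ c, χ c = 1 ↔ (c : G) ∈ eightR D g x := by
  obtain ⟨C⟩ := D.exists_coords
  obtain ⟨hn, ⟨e⟩⟩ := stab_quot D hgx hx C _ rfl
  have hr := eightImg_range D hx C
  let f : eightC D x →* C.stab (vec x) := (eightImg D x).codRestrict _ fun c =>
    (Subgroup.mem_inf.1 (show eightImg D x c ∈ C.stab (vec x) ⊓ D.L by rw [← hr]; exact ⟨c, rfl⟩)).1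
  refine ⟨e.toMonoidHom.comp ((QuotientGroup.mk' _).comp f), fun p => ?_, fun c => ?_⟩
  · obtain ⟨b, hb⟩ := QuotientGroup.mk'_surjective _ (e.symm p)
    obtain ⟨b', hb', hbb⟩ : ∃ b' : C.stab (vec x), (b' : Cz z ⧸ Q) ∈ D.L ∧
        QuotientGroup.mk' ((eImage Q g).subgroupOf (C.stab (vec x))) b' = e.symm p := by
      by_cases hbL : (b : Cz z ⧸ Q) ∈ D.L
      · exact ⟨b, hbL, hb⟩
      obtain ⟨a, ha, haL⟩ := SetLike.not_le_iff_exists.1 (not_eImage_le D hgx hx)
      refine ⟨b * ⟨a, eImage_le_stab D hgx C ha⟩, (Subgroup.mul_mem_iff_of_index_two D.L_index).2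
        ⟨fun h => absurd h hbL, fun h => absurd h haL⟩, ?_⟩
      rw [map_mul, hb, show QuotientGroup.mk' ((eImage Q g).subgroupOf (C.stab (vec x)))
        ⟨a, eImage_le_stab D hgx C ha⟩ = 1 from (QuotientGroup.eq_one_iff _).2 ha, mul_one]
    obtain ⟨c, hc⟩ : (b' : Cz z ⧸ Q) ∈ (eightImg D x).range := hr ▸ ⟨b'.2, hb'⟩
    refine ⟨c, ?_⟩
    show e (QuotientGroup.mk' _ (f c)) = p
    rw [show f c = b' from Subtype.ext hc, hbb, MulEquiv.apply_symm_apply]
  · show e (QuotientGroup.mk (f c)) = 1 ↔ _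
    rw [MulEquiv.map_eq_one_iff, QuotientGroup.eq_one_iff, Subgroup.mem_subgroupOf]
    exact ⟨fun h => mem_eightR.2 ⟨c.2, h⟩, fun h => (mem_eightR.1 h).2⟩

theorem card_A6 : Nat.card (alternatingGroup (Fin 6)) = 360 := by
  rw [Nat.card_eq_fintype_card, card_alternatingGroup]; simp [Nat.factorial]

include hgx hx in
theorem card_eightR : Nat.card (eightR D g x) = 2 ^ 15 := by
  obtain ⟨χ, hs, hk⟩ := exists_chi D hgx hx
  have h1 := χ.ker.card_mul_index
  rw [Subgroup.index_ker, MonoidHom.range_eq_top.2 hs, Subgroup.card_top, card_A6, card_eightC D hgx hx] at h1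
  have h2 : Nat.card χ.ker = Nat.card (eightR D g x) :=
    Nat.card_congr ⟨fun a => ⟨a.1.1, (hk a.1).1 a.2⟩, fun a => ⟨⟨a.1, eightR_le D g x a.2⟩, (hk _).2 a.2⟩,
      fun _ => rfl, fun _ => rfl⟩
  omega

include hgx hx in
theorem isPGroup_eightR : IsPGroup 2 (eightR D g x) := IsPGroup.of_card (card_eightR D hgx hx)

include hgx hx in
/-- A normal 2-subgroup of the centralizer lies in the radical. -/
theorem le_eightR {P : Subgroup G} (hP : IsPGroup 2 P) (hle : P ≤ eightC D x)
    (hn : ∀ c ∈ eightC D x, ∀ p ∈ P, c * p * c⁻¹ ∈ P) : P ≤ eightR D g x := by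
  obtain ⟨χ, hs, hk⟩ := exists_chi D hgx hx
  haveI := alternatingGroup.isSimpleGroup (α := Fin 6) (by simp)
  haveI : (P.subgroupOf (eightC D x)).Normal := ⟨fun a ha b => hn b b.2 a ha⟩
  have hnorm : ((P.subgroupOf (eightC D x)).map χ).Normal := Subgroup.Normal.map inferInstance χ hs
  have hp2 : IsPGroup 2 ((P.subgroupOf (eightC D x)).map χ) :=
    ((hP.of_equiv (Subgroup.subgroupOfEquivOfLe hle).symm)).map χ
  rcases hnorm.eq_bot_or_eq_top with h | h
  · intro p hp
    refine (hk ⟨p, hle hp⟩).1 ?_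
    have : χ ⟨p, hle hp⟩ ∈ (P.subgroupOf (eightC D x)).map χ := ⟨_, hp, rfl⟩
    rwa [h, Subgroup.mem_bot] at this
  · exfalso
    haveI : Fact (Nat.Prime 2) := ⟨Nat.prime_two⟩
    obtain ⟨n, hn2⟩ := IsPGroup.iff_card.1 hp2
    rw [h, Subgroup.card_top, card_A6] at hn2
    have h5 : 5 ∣ 2 ^ n := hn2 ▸ by norm_num
    have := Nat.Prime.dvd_of_dvd_pow (by norm_num) h5
    norm_num at this

theorem eightC_conj (D : Data z Q) {x : Q} {m : G} (hm : m ∈ eightN D x) {c : G} (hc : c ∈ eightC D x) :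
    m * c * m⁻¹ ∈ eightC D x := by
  rw [Subgroup.mem_centralizer_iff] at hc ⊢
  intro v hv
  have h1 : m⁻¹ * v * m ∈ eight D x := by
    have := (Subgroup.mem_normalizer_iff.1 ((eightN D x).inv_mem hm) v).1 hv
    rwa [inv_inv] at this
  have h2 := hc _ h1
  calc v * (m * c * m⁻¹) = m * ((m⁻¹ * v * m) * c) * m⁻¹ := by group
    _ = m * (c * (m⁻¹ * v * m)) * m⁻¹ := by rw [h2]
    _ = m * c * m⁻¹ * v := by group

include hgx hx in
theorem eightR_conj {m : G} (hm : m ∈ eightN D x) {r : G} (hr : r ∈ eightR D g x) :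
    m * r * m⁻¹ ∈ eightR D g x := by
  have hle : ∀ c ∈ eightC D x, ∀ r ∈ eightR D g x, c * r * c⁻¹ ∈ eightR D g x := fun c hc r hr => by
    obtain ⟨χ, -, hk⟩ := exists_chi D hgx hx
    have h1 := (hk ⟨r, eightR_le D g x hr⟩).2 hr
    exact (hk (⟨c, hc⟩ * ⟨r, eightR_le D g x hr⟩ * ⟨c, hc⟩⁻¹)).1 (by
      rw [map_mul, map_mul, h1, mul_one, map_inv, mul_inv_cancel])
  refine le_eightR D hgx hx (P := (eightR D g x).map (MulAut.conj m).toMonoidHom)
    ((isPGroup_eightR D hgx hx).map _) ?_ ?_ ⟨r, hr, rfl⟩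
  · rintro _ ⟨a, ha, rfl⟩
    exact eightC_conj D hm (eightR_le D g x ha)
  · rintro c hc _ ⟨a, ha, rfl⟩
    have hc' : m⁻¹ * c * m ∈ eightC D x := by
      have := eightC_conj D ((eightN D x).inv_mem hm) hc
      rwa [inv_inv] at this
    refine ⟨m⁻¹ * c * m * a * (m⁻¹ * c * m)⁻¹, hle _ hc' _ ha, ?_⟩
    simp only [MulEquiv.coe_toMonoidHom, MulAut.conj_apply]
    group

include hgx hx in
/-- The normalizer induces the full automorphism group. -/
theorem range_top : (Subgroup.normalizerMonoidHom (eight D x)).range = ⊤ := by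
  classical
  obtain ⟨hc, h2⟩ := eight_elementary D hgx hx
  obtain ⟨h168, hsimp, -⟩ := mulAut_eight (V := eight D x) (fun a b => hc.is_comm.comm a b)
    (fun a => Subtype.ext (by rw [SubgroupClass.coe_pow]; exact h2 a a.2)) (card_eight D hx)
  haveI := hsimp
  set φ := Subgroup.normalizerMonoidHom (eight D x) with hφ
  -- the image of `Q` has order four
  let j : inG Q →* MulAut (eight D x) := φ.comp (Subgroup.inclusion (inG_le_eightN D hx))
  have hker : ∀ a : inG Q, j a = 1 ↔ (a : G) ∈ eightC D x := fun a => by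
    have h := (Subgroup.normalizerMonoidHom_ker (H := eight D x))
    rw [← MonoidHom.mem_ker]
    show Subgroup.inclusion (inG_le_eightN D hx) a ∈ φ.ker ↔ _
    rw [hφ, h]
    exact Iff.rfl
  have h4 : Nat.card j.range = 4 := by
    have h1 := j.ker.card_mul_index
    have hk : Nat.card j.ker = 2048 := by
      rw [← card_C_Q D hgx hx]
      exact Nat.card_congr ⟨fun a => ⟨a.1.1, (hker a.1).1 a.2, a.1.2⟩,
        fun a => ⟨⟨a.1, a.2.2⟩, (hker _).2 a.2.1⟩, fun _ => rfl, fun _ => rfl⟩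
    have hQc : Nat.card (inG Q) = 8192 := by
      rw [Subgroup.card_map_of_injective (Cz z).subtype_injective, D.hS.2.2.2.1]; norm_num
    rw [Subgroup.index_ker, hk, hQc] at h1
    omega
  have hd4 : 4 ∣ Nat.card φ.range := h4 ▸ Subgroup.card_dvd_of_le (by
    rw [MonoidHom.range_comp]; exact Subgroup.map_le_range _ _)
  have h7 := seven_dvd D hgx hx
  have h3 := three_dvd D hx
  have hd : 84 ∣ Nat.card φ.range := by
    have := Nat.Coprime.mul_dvd_of_dvd_of_dvd (show Nat.Coprime 4 21 by norm_num) hd4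
      (Nat.Coprime.mul_dvd_of_dvd_of_dvd (show Nat.Coprime 3 7 by norm_num) h3 h7)
    simpa using this
  have hm := φ.range.card_mul_index
  rw [h168] at hm
  obtain ⟨k, hk⟩ := hd
  rw [hk] at hm
  have hidx : φ.range.index = 1 ∨ φ.range.index = 2 := by
    have : φ.range.index ∣ 2 := ⟨k, Nat.eq_of_mul_eq_mul_left (by norm_num : 0 < 84) (by
      rw [show 84 * 2 = 168 by norm_num, ← hm]; ring)⟩
    exact (Nat.dvd_prime Nat.prime_two).1 this
  rcases hidx with h | h
  · exact Subgroup.index_eq_one.1 h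
  · exfalso
    rcases (Subgroup.normal_of_index_eq_two h).eq_bot_or_eq_top with e | e <;> rw [e] at h
    · rw [Subgroup.index_bot, h168] at h; norm_num at h
    · rw [Subgroup.index_top] at h; norm_num at h

end CfsgLib.LargeFischer
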