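import Cfsg.Agent.LargeFischer.SplitGeom

/-!
# Coordinate facts for the eight-group: singular subspaces stable under scalar and coordinate permutations
-/

set_option autoImplicit false
set_option linter.unusedSectionVars false

namespace CfsgLib.LargeFischer.EightGeom

open SplitGeom

theorem triple : ∀ a b c : W, nz (a + b) + nz (b + c) + nz (c + a) = 0 →
    nz (a + b + rW (b + c)) + nz (b + c + rW (c + a)) + nz (c + a + rW (a + b)) = 0 → a = b ∧ b = c := by
  decide

/-- Such a subspace consists of constant vectors. -/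
theorem const_of_stable (T : AddSubgroup Vec) (hpar : ∀ v ∈ T, par v = 0)
    (hperm : ∀ π ∈ alternatingGroup (Fin 6), ∀ v ∈ T, (fun i => v (π i)) ∈ T)
    (hscal : ∀ v ∈ T, scal v ∈ T) : ∀ v ∈ T, ∀ i, v i = v 0 := by
  have hc : cyc1 ∈ alternatingGroup (Fin 6) := Equiv.Perm.mem_alternatingGroup.2 (by decide)
  have first : ∀ v ∈ T, v 0 = v 1 ∧ v 1 = v 2 := by
    intro v hv
    have hd : v + rot1 v ∈ T := T.add_mem hv (hperm cyc1 hc v hv)
    have hd' : v + rot1 v + scal (rot1 (v + rot1 v)) ∈ T := T.add_mem hd (hscal _ (hperm cyc1 hc _ hd))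
    obtain ⟨a, b, c, d, e, f⟩ := cyc1_apply
    have h1 := hpar _ hd
    have h2 := hpar _ hd'
    simp only [par, scal, rot1, Pi.add_apply, a, b, c, d, e, f, add_self_W] at h1 h2
    simp only [show nz (0 : W) = 0 from rfl, show rW (0 : W) = 0 from rfl, add_zero] at h1 h2
    exact triple _ _ _ h1 h2
  intro v hv
  have h := first v hv
  have h3 := first _ (hperm (Equiv.swap 0 3 * Equiv.swap 1 4) (Equiv.Perm.mem_alternatingGroup.2 (by decide)) v hv)
  have h5 := first _ (hperm (Equiv.swap 0 5 * Equiv.swap 1 4) (Equiv.Perm.mem_alternatingGroup.2 (by decide)) v hv)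
  have e3 : v 3 = v 4 ∧ v 4 = v 2 := h3
  have e5 : v 5 = v 4 ∧ v 4 = v 2 := h5
  intro i
  fin_cases i
  · rfl
  · exact h.1.symm
  · exact (h.1.trans h.2).symm
  · exact e3.1.trans (e3.2.trans (h.1.trans h.2).symm)
  · exact e3.2.trans (h.1.trans h.2).symm
  · exact e5.1.trans (e5.2.trans (h.1.trans h.2).symm)

end CfsgLib.LargeFischer.EightGeom
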