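import Cfsg.Agent.LargeFischer.EightLine
import Cfsg.Agent.LargeFischer.EightAut

/-!
# The eight-group of a conjugate pair, its centralizer and its normalizer
-/

set_option autoImplicit false
set_option linter.unusedSectionVars false
set_option linter.style.haveILetI false
set_option maxHeartbeats 1000000

namespace CfsgLib.LargeFischer

open Cfsg
open scoped commutatorElement

variable {G : Type*} [Group G] [Finite G] {z : G} {Q : Subgroup (Cz z)} [Q.Normal]

/-- The inclusion of `Q`. -/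
def qIncl (Q : Subgroup (Cz z)) : Q →* G := (Cz z).subtype.comp Q.subtype

theorem qIncl_injective (Q : Subgroup (Cz z)) : Function.Injective (qIncl Q) :=
  (Cz z).subtype_injective.comp Q.subtype_injective

/-- The preimage of the scalar line, in `G`. -/
def eight (D : Data z Q) (x : Q) : Subgroup G := (lineSub D x).map (qIncl Q)

/-- Its normalizer. -/
abbrev eightN (D : Data z Q) (x : Q) : Subgroup G := Subgroup.normalizer (eight D x : Set G)

/-- Its centralizer. -/
abbrev eightC (D : Data z Q) (x : Q) : Subgroup G := Subgroup.centralizer (eight D x : Set G)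

theorem mem_eight {D : Data z Q} {x : Q} {v : G} : v ∈ eight D x ↔ ∃ a : Q, OnLine D x a ∧ toG a = v := Iff.rfl

theorem toG_mem_eight {D : Data z Q} {x a : Q} : toG a ∈ eight D x ↔ OnLine D x a := by
  constructor
  · rintro ⟨b, hb, e⟩
    rwa [← qIncl_injective Q (show qIncl Q b = qIncl Q a from e)]
  · exact fun h => ⟨a, h, rfl⟩

theorem z_mem_eight (D : Data z Q) (x : Q) : z ∈ eight D x :=
  toG_mem_eight (a := zin D.hS).2 (center_le_lineSub D x ((mem_center_cases D.hS).2 (Or.inr rfl)))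

theorem x_mem_eight (D : Data z Q) (x : Q) : toG x ∈ eight D x := toG_mem_eight.2 (Or.inr (Or.inl rfl))

theorem conjIn_toG (k : Cz z) (a : Q) : toG (conjIn k a) = (k : G) * toG a * (k : G)⁻¹ := by
  rw [toG, conjIn_coe]; rfl

theorem mem_normalizer_of_le {V : Subgroup G} {m : G} (h : ∀ v ∈ V, m * v * m⁻¹ ∈ V) :
    m ∈ Subgroup.normalizer (V : Set G) := by
  rw [Subgroup.mem_normalizer_iff]
  intro v
  refine ⟨h v, fun hv => ?_⟩
  let f : V → V := fun u => ⟨m * u * m⁻¹, h u u.2⟩
  have hf : Function.Injective f := fun a b e => Subtype.ext (by simpa [f] using congrArg Subtype.val e)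
  obtain ⟨u, hu⟩ := (Finite.injective_iff_surjective.1 hf) ⟨_, hv⟩
  have : (u : G) = v := by simpa [f] using congrArg Subtype.val hu
  exact this ▸ u.2

theorem onLine_trans (D : Data z Q) {x y a : Q} (hy : OnLine D x y) (hne : vec y ≠ 0) (ha : OnLine D y a) :
    OnLine D x a := by
  rcases hy with h | h | h | h
  · exact absurd h hne
  · rwa [OnLine, h] at ha
  · rw [OnLine, h] at ha
    rcases ha with e | e | e | e
    · exact Or.inl e
    · exact Or.inr (Or.inr (Or.inl e))
    · exact Or.inr (Or.inr (Or.inr e))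
    · exact Or.inr (Or.inl (e.trans (x_cube D _)))
  · rw [OnLine, h, x_cube D] at ha
    rcases ha with e | e | e | e
    · exact Or.inl e
    · exact Or.inr (Or.inr (Or.inr e))
    · exact Or.inr (Or.inl e)
    · exact Or.inr (Or.inr (Or.inl e))

/-- Elements of `H` keeping the class of `x` on the line normalise. -/
theorem mem_eightN_of (D : Data z Q) {x : Q} (hx : x ∉ Subgroup.center Q) (h : Cz z)
    (hh : OnLine D x (conjIn h x)) : (h : G) ∈ eightN D x := by
  refine mem_normalizer_of_le ?_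
  rintro _ ⟨a, ha, rfl⟩
  rw [show (h : G) * qIncl Q a * (h : G)⁻¹ = toG (conjIn h a) from (conjIn_toG h a).symm, toG_mem_eight]
  refine onLine_trans D hh (fun e => hx ?_) (onLine_conj D h ha)
  have h1 : act (QuotientGroup.mk h : Cz z ⧸ Q) (vec x) = 0 := by rw [act_mk D.hS, actC_vec, e]
  exact (vec_eq_zero D.hS).1 ((act _).injective (h1.trans (map_zero _).symm))

theorem vec_conjIn_Q (D : Data z Q) (q : Q) (a : Q) : vec (conjIn (q : Cz z) a) = vec a := by
  rw [← actC_vec, ← act_mk D.hS, (QuotientGroup.eq_one_iff _).2 q.2, act_one_vec D]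

theorem inG_le_eightN (D : Data z Q) {x : Q} (hx : x ∉ Subgroup.center Q) : inG Q ≤ eightN D x := by
  rintro _ ⟨q, hq, rfl⟩
  exact mem_eightN_of D hx q (Or.inr (Or.inl (vec_conjIn_Q D ⟨q, hq⟩ x)))

theorem mem_eightC_iff (D : Data z Q) {x t : Q} (ht : vec t = act (D.x : Cz z ⧸ Q) (vec x)) {k : G} :
    k ∈ eightC D x ↔ Commute k z ∧ Commute k (toG x) ∧ Commute k (toG t) := by
  constructor
  · intro hk
    have hc := Subgroup.mem_centralizer_iff.1 hk
    exact ⟨(hc _ (z_mem_eight D x)).symm, (hc _ (x_mem_eight D x)).symm,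
      (hc _ (toG_mem_eight.2 (Or.inr (Or.inr (Or.inl ht))))).symm⟩
  · rintro ⟨h1, h2, h3⟩
    rw [Subgroup.mem_centralizer_iff]
    rintro _ ⟨a, ha, rfl⟩
    obtain ⟨b, hb, hbk⟩ : ∃ b : Q, vec a = vec b ∧ Commute k (toG b) := by
      rcases ha with e | e | e | e
      · exact ⟨1, e.trans vec_one.symm, Commute.one_right k⟩
      · exact ⟨x, e, h2⟩
      · exact ⟨t, e.trans ht.symm, h3⟩
      · exact ⟨x * t, by rw [e, xx_sum D, vec_mul, ht], h2.mul_right h3⟩
    show qIncl Q a * k = k * qIncl Q a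
    rcases (mem_center_cases D.hS).1 ((vec_eq_iff D.hS).1 hb.symm) with e | e
    · rw [← inv_mul_eq_one.1 e]; exact hbk.eq.symm
    · rw [inv_mul_eq_iff_eq_mul.1 e]
      exact (hbk.mul_right h1).eq.symm

variable (D : Data z Q) {g : G} {x : Q} (hgx : g * z * g⁻¹ = toG x) (hx : x ∉ Subgroup.center Q)

include hgx hx in
theorem eight_le_meet : eight D x ≤ inG Q ⊓ conjQ Q g := by
  rintro _ ⟨a, ha, rfl⟩
  exact ⟨mem_inG.2 ⟨a, rfl⟩, line_mem D hgx hx ha⟩

include hgx hx in
theorem eight_elementary : Cfsg.IsElementaryAbelian 2 (eight D x) := by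
  obtain ⟨hc, h2⟩ := (meet_facts D hgx hx).1
  have hle := eight_le_meet D hgx hx
  refine ⟨⟨⟨fun a b => Subtype.ext ?_⟩⟩, fun a ha => h2 a (hle ha)⟩
  have h := congrArg Subtype.val (hc.is_comm.comm ⟨a.1, hle a.2⟩ ⟨b.1, hle b.2⟩)
  simpa using h

include hx in
theorem card_lineSub : Nat.card (lineSub D x) = 8 := by
  classical
  set u := vec x with hu
  set X := act (D.x : Cz z ⧸ Q) with hX
  have hu0 : u ≠ 0 := fun e => hx ((vec_eq_zero D.hS).1 e)
  have hXu : X u ≠ u := fun e => hu0 (x_fix_zero D e)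
  have hXu0 : X u ≠ 0 := fun e => hu0 (X.injective (e.trans (map_zero X).symm))
  let f : lineSub D x →* Multiplicative (QV Q) :=
    MonoidHom.mk' (fun a => Multiplicative.ofAdd (vec a.1)) fun a b => congrArg Multiplicative.ofAdd (vec_mul a.1 b.1)
  have hker : Nat.card f.ker = 2 := by
    rw [← D.hS.2.2.1.2]
    refine Nat.card_congr ⟨fun a => ⟨a.1.1, (vec_eq_zero D.hS).1 (Multiplicative.ofAdd.injective a.2)⟩,
      fun c => ⟨⟨c.1, center_le_lineSub D x c.2⟩, ?_⟩, fun a => rfl, fun c => rfl⟩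
    exact congrArg Multiplicative.ofAdd ((vec_eq_zero D.hS).2 c.2)
  have hrange : (f.range : Set (Multiplicative (QV Q))) = Multiplicative.ofAdd '' {0, u, X u, X (X u)} := by
    ext v
    constructor
    · rintro ⟨⟨a, ha⟩, rfl⟩
      exact ⟨vec a, ha, rfl⟩
    · rintro ⟨w, hw, rfl⟩
      obtain ⟨a, rfl⟩ := vec_surjective w
      exact ⟨⟨a, hw⟩, rfl⟩
  have h4 : Nat.card f.range = 4 := by
    rw [← SetLike.coe_sort_coe, Nat.card_coe_set_eq, hrange, Set.ncard_image_of_injective _ Multiplicative.ofAdd.injective]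
    have hXX : X (X u) = u + X u := xx_sum D u
    have e1 : X (X u) ≠ u := fun e => hXu0 (add_eq_left.1 (hXX.symm.trans e))
    have e2 : X (X u) ≠ X u := fun e => hu0 (add_eq_right.1 (hXX.symm.trans e))
    have e3 : X (X u) ≠ 0 := fun e => hXu0 (X.injective (e.trans (map_zero X).symm))
    rw [Set.ncard_insert_of_notMem (by simp [hu0.symm, hXu0.symm, e3.symm]),
      Set.ncard_insert_of_notMem (by simp [hXu.symm, e1.symm]),
      Set.ncard_insert_of_notMem (by simp [e2.symm]), Set.ncard_singleton]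
  have h := f.ker.card_mul_index
  rw [Subgroup.index_ker, hker, h4] at h
  omega

include hx in
theorem card_eight : Nat.card (eight D x) = 8 := by
  rw [eight, Subgroup.card_map_of_injective (qIncl_injective Q), card_lineSub D hx]

include hgx hx in
/-- Some element of the normalizer moves `z` to `x`. -/
theorem exists_move : ∃ k : Cz z, g * (k : G) ∈ eightN D x ∧ g * k * z * (g * k)⁻¹ = toG x := by
  obtain ⟨C⟩ := D.exists_coords
  obtain ⟨y, hy⟩ := mem_inG.1 (mem_conjQ.1 (z_mem_conjQ D hgx hx))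
  have hgy : g⁻¹ * z * g⁻¹⁻¹ = toG y := by rw [inv_inv, hy]
  have hne : toG y ≠ z := by
    intro e
    refine (toG_x_ne D hx).1 ?_
    rw [← hgx]
    calc g * z * g⁻¹ = g * toG y * g⁻¹ := by rw [e]
      _ = z := by rw [hy]; group
  have hyc : y ∉ Subgroup.center Q := conj_not_center D hgy hne
  obtain ⟨hBx, -⟩ := image_main D hgx hx C
  obtain ⟨hBy, -⟩ := image_main D hgy hyc C
  obtain ⟨k, hk⟩ := Coords.conj_of_orbit (D := D) hyc ((C.orbB _ _ hBx).2 hBy)
  have hkx : conjIn k x = y := Subtype.ext (by rw [conjIn_coe]; exact hk)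
  have hkz : Commute (k : G) z := Subgroup.mem_centralizer_singleton_iff.1 k.2
  refine ⟨k, mem_normalizer_of_le ?_, ?_⟩
  · rintro _ ⟨a, ha, rfl⟩
    set b := conjIn k a with hb
    have hbl : OnLine D y b := hkx ▸ onLine_conj D k ha
    have h1 := line_mem D hgy hyc hbl
    rw [mem_conjQ, inv_inv] at h1
    obtain ⟨c, hc⟩ := mem_inG.1 h1
    have e : g * (k : G) * qIncl Q a * (g * (k : G))⁻¹ = toG c := by
      rw [hc, hb, conjIn_toG, show qIncl Q a = toG a from rfl]; group
    rw [e, toG_mem_eight]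
    refine line_of D hgx hx ?_ ?_
    · rw [mem_conjQ, hc]
      refine mem_inG.2 ⟨b, ?_⟩
      group
    · intro j hjz hjx hj
      let φ := (MulAut.conj g⁻¹).toMonoidHom
      have hφ : ∀ u : G, φ u = g⁻¹ * u * g := fun u => by
        show g⁻¹ * u * g⁻¹⁻¹ = _
        rw [inv_inv]
      have hjz' : Commute (φ j) z := by
        have := hjx.map φ
        rwa [hφ (toG x), ← hgx, show g⁻¹ * (g * z * g⁻¹) * g = z by group] at this
      have hjy' : Commute (φ j) (toG y) := by
        have := hjz.map φ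
        rwa [hφ z, ← hy] at this
      have hjo : Odd (orderOf (φ j)) := by
        rwa [show φ j = (MulAut.conj g⁻¹) j from rfl, MulEquiv.orderOf_eq]
      have h2 := (line_commute D hyc hbl hjz' hjy' hjo).map (MulAut.conj g).toMonoidHom
      simp only [MulEquiv.coe_toMonoidHom, MulAut.conj_apply] at h2
      rw [hφ, show g * (g⁻¹ * j * g) * g⁻¹ = j by group] at h2
      rwa [← hc] at h2
  · rw [mul_inv_rev]
    calc g * (k : G) * z * ((k : G)⁻¹ * g⁻¹) = g * ((k : G) * z * (k : G)⁻¹) * g⁻¹ := by group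
      _ = g * z * g⁻¹ := by rw [hkz.eq, mul_inv_cancel_right]
      _ = toG x := hgx

include hx in
/-- A lift of the scalar normalises and moves the class of `x` to its multiple. -/
theorem exists_scalar : ∃ k : Cz z, (k : G) ∈ eightN D x ∧ (QuotientGroup.mk k : Cz z ⧸ Q) = D.x := by
  obtain ⟨k, hk⟩ := QuotientGroup.mk_surjective (D.x : Cz z ⧸ Q)
  refine ⟨k, mem_eightN_of D hx k (Or.inr (Or.inr (Or.inl ?_))), hk⟩
  rw [← hk, act_mk D.hS, actC_vec]

include hgx hx in
/-- The normalizer is transitive on the non-trivial elements. -/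
theorem conj_z {v : G} (hv : v ∈ eight D x) (hv1 : v ≠ 1) : ∃ m ∈ eightN D x, m * z * m⁻¹ = v := by
  obtain ⟨k₀, hn, hnz⟩ := exists_move D hgx hx
  obtain ⟨k, hk, hkx⟩ := exists_scalar D hx
  obtain ⟨a, ha, rfl⟩ := mem_eight.1 hv
  by_cases hc : a ∈ Subgroup.center Q
  · rcases (mem_center_cases D.hS).1 hc with rfl | rfl
    · exact absurd rfl hv1
    · exact ⟨1, one_mem _, by rw [inv_one, mul_one, one_mul]; rfl⟩
  obtain ⟨j, hj⟩ : ∃ j : ℕ, vec a = vec (conjIn (k ^ j) x) := by
    have e : ∀ b : Q, vec (conjIn k b) = act (D.x : Cz z ⧸ Q) (vec b) := fun b => by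
      rw [← hkx, act_mk D.hS, actC_vec]
    rcases ha with h | h | h | h
    · exact absurd ((vec_eq_zero D.hS).1 h) hc
    · exact ⟨0, by rw [pow_zero, show conjIn (1 : Cz z) x = x from Subtype.ext (by rw [conjIn_coe]; group), h]⟩
    · exact ⟨1, by rw [pow_one, e, h]⟩
    · exact ⟨2, by rw [pow_two, conjIn_mul, e, e, h]⟩
  have hxj : conjIn (k ^ j) x ∉ Subgroup.center Q := fun h => hc ((vec_eq_zero D.hS).1 (by
    rw [hj]; exact (vec_eq_zero D.hS).2 h))
  obtain ⟨b, hb⟩ := conj_of_vec_eq D.hS hxj hj.symm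
  refine ⟨toG b * (((k ^ j : Cz z) : G) * (g * k₀)), mul_mem (inG_le_eightN D hx (mem_inG.2 ⟨b, rfl⟩))
    (mul_mem (by rw [SubgroupClass.coe_pow]; exact pow_mem hk j) hn), ?_⟩
  have hb' := congrArg toG hb
  simp only [toG, Subgroup.coe_mul, Subgroup.coe_inv, conjIn_coe] at hb'
  show _ = toG a
  rw [toG, toG, ← hb', ← show toG x = ((x : Cz z) : G) from rfl, ← hnz]
  group

include hgx hx in
/-- The image on the eight-group has seven dividing its order. -/
theorem seven_dvd : 7 ∣ Nat.card (Subgroup.normalizerMonoidHom (eight D x)).range := by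
  classical
  set V := eight D x with hV
  set A := (Subgroup.normalizerMonoidHom V).range
  let z' : V := ⟨z, z_mem_eight D x⟩
  have horb : Nat.card (MulAction.orbit A z') = 7 := by
    have e : MulAction.orbit A z' = ({1} : Set V)ᶜ := by
      ext v
      constructor
      · rintro ⟨a, rfl⟩ h
        have h' : (a : MulAut V) z' = 1 := h
        rw [MulEquiv.map_eq_one_iff] at h'
        have h1 : z = 1 := congrArg Subtype.val h'
        exact zin_ne_one D.hS (Subtype.ext (Subtype.ext h1))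
      · intro hv
        obtain ⟨m, hm, e⟩ := conj_z D hgx hx v.2 (fun h => hv (Subtype.ext h))
        exact ⟨⟨_, ⟨m, hm⟩, rfl⟩, Subtype.ext e⟩
    rw [e, Nat.card_coe_set_eq, Set.ncard_compl, Set.ncard_singleton, card_eight D hx]
  have h1 := Nat.card_congr (MulAction.orbitEquivQuotientStabilizer A z')
  have h2 := (MulAction.stabilizer A z').card_mul_index
  rw [Subgroup.index, ← h1, horb] at h2
  exact ⟨_, by rw [← h2, mul_comm]⟩

include hx in
theorem three_dvd : 3 ∣ Nat.card (Subgroup.normalizerMonoidHom (eight D x)).range := by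
  obtain ⟨k, hk, hkx⟩ := exists_scalar D hx
  set φ := Subgroup.normalizerMonoidHom (eight D x)
  set a : φ.range := ⟨φ ⟨k, hk⟩, ⟨k, hk⟩, rfl⟩
  refine Dvd.dvd.trans ?_ (orderOf_dvd_natCard a)
  have h := pow_orderOf_eq_one a
  set j := orderOf a
  have h1 : φ (⟨k, hk⟩ ^ j) = 1 := by rw [map_pow]; exact congrArg Subtype.val h
  have h2 := congrArg (fun f : MulAut (eight D x) => ((f ⟨toG x, x_mem_eight D x⟩ : eight D x) : G)) h1
  have h3 : conjIn (k ^ j) x = x := Subtype.ext (Subtype.ext (by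
    rw [conjIn_coe]
    show ((k ^ j : Cz z) : G) * toG x * ((k ^ j : Cz z) : G)⁻¹ = toG x
    rw [SubgroupClass.coe_pow]
    exact h2))
  have h4 : act ((D.x : Cz z ⧸ Q) ^ j) (vec x) = vec x := by
    rw [← hkx, ← QuotientGroup.mk_pow, act_mk D.hS, actC_vec, h3]
  have hx3 : (D.x : Cz z ⧸ Q) ^ 3 = 1 := by rw [← SubgroupClass.coe_pow, D.x3]; rfl
  have hj : j = j % 3 + 3 * (j / 3) := (Nat.mod_add_div j 3).symm
  rw [hj, pow_add, pow_mul, hx3, one_pow, mul_one] at h4
  have hlt : j % 3 < 3 := Nat.mod_lt _ (by norm_num)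
  have hu0 : vec x ≠ 0 := fun e => hx ((vec_eq_zero D.hS).1 e)
  by_contra hnd
  have hcases : j % 3 = 1 ∨ j % 3 = 2 := by omega
  rcases hcases with e | e <;> rw [e] at h4
  · rw [pow_one] at h4
    exact hu0 (x_fix_zero D h4)
  · rw [pow_two, act_mul D.hS] at h4
    have := congrArg (act (D.x : Cz z ⧸ Q)) h4
    rw [x_cube D] at this
    exact hu0 (x_fix_zero D this.symm)

end CfsgLib.LargeFischer
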