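import Cfsg.Agent.LargeFischer.Outer
import Cfsg.Agent.LargeFischer.Conjugates
import Cfsg.Agent.LargeFischer.EightGeom

/-!
# The scalar line of a conjugate of `z` lies in the meet of `Q` with the conjugate of `Q`

For a conjugate `x` of `z` in `Q` by `g`, the preimage of the scalar line of the class of `x` is the set of
elements of `Q ∩ gQg⁻¹` commuting with every element of odd order commuting with `z` and `x`; this is
symmetric in the two conjugates.
-/

set_option autoImplicit false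
set_option linter.unusedSectionVars false
set_option linter.style.haveILetI false
set_option maxHeartbeats 1000000

namespace CfsgLib.LargeFischer

open Cfsg
open scoped commutatorElement

variable {G : Type*} [Group G] [Finite G] {z : G} {Q : Subgroup (Cz z)} [Q.Normal]

theorem act_one_vec (D : Data z Q) (v : QV Q) : act (1 : Cz z ⧸ Q) v = v := by
  have h := act_mul D.hS 1 1 v
  rw [one_mul] at h
  exact (act 1).injective h.symm

theorem xx_sum (D : Data z Q) (v : QV Q) :
    act (D.x : Cz z ⧸ Q) (act (D.x : Cz z ⧸ Q) v) = v + act (D.x : Cz z ⧸ Q) v := by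
  obtain ⟨F⟩ := D.exists_frame
  refine F.coord.injective (funext fun i => ?_)
  rw [map_add, Pi.add_apply]
  show F.coord (D.setting.φ D.setting.x (D.setting.φ D.setting.x v)) i =
    F.coord v i + F.coord (D.setting.φ D.setting.x v) i
  rw [F.coord_x, F.coord_x]
  exact (by decide : ∀ w : W, rW (rW w) = w + rW w) _

theorem x_cube (D : Data z Q) (v : QV Q) :
    act (D.x : Cz z ⧸ Q) (act (D.x : Cz z ⧸ Q) (act (D.x : Cz z ⧸ Q) v)) = v := by
  rw [xx_sum D, xx_sum D, add_left_comm, QV_two D.hS, add_zero]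

theorem x_fix_zero (D : Data z Q) {v : QV Q} (h : act (D.x : Cz z ⧸ Q) v = v) : v = 0 := by
  have := xx_sum D v
  rw [h, h, QV_two D.hS] at this
  exact this

/-- The class lies on the scalar line of the class of `x`. -/
def OnLine (D : Data z Q) (x a : Q) : Prop :=
  vec a = 0 ∨ vec a = vec x ∨ vec a = act (D.x : Cz z ⧸ Q) (vec x) ∨
    vec a = act (D.x : Cz z ⧸ Q) (act (D.x : Cz z ⧸ Q) (vec x))

theorem onLine_conj (D : Data z Q) {x a : Q} (h : Cz z) (ha : OnLine D x a) :
    OnLine D (conjIn h x) (conjIn h a) := by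
  set hb : Cz z ⧸ Q := QuotientGroup.mk h with hhb
  have e : ∀ b : Q, vec (conjIn h b) = act hb (vec b) := fun b => by rw [act_mk D.hS, actC_vec]
  have hx : ∀ v, act hb (act (D.x : Cz z ⧸ Q) v) = act (D.x : Cz z ⧸ Q) (act hb v) ∨
      act hb (act (D.x : Cz z ⧸ Q) v) = act (D.x : Cz z ⧸ Q) (act (D.x : Cz z ⧸ Q) (act hb v)) := by
    intro v
    rcases D.x_normal hb with h' | h'
    · left
      rw [← act_mul D.hS, mul_inv_eq_iff_eq_mul.1 h', act_mul D.hS]
    · right
      have h3 : (D.x : Cz z ⧸ Q)⁻¹ = D.x * D.x := by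
        refine inv_eq_of_mul_eq_one_right ?_
        have := congrArg Subtype.val D.x3
        rw [SubgroupClass.coe_pow, pow_succ, pow_two, mul_assoc] at this
        exact this
      rw [← act_mul D.hS, mul_inv_eq_iff_eq_mul.1 h', h3, act_mul D.hS, act_mul D.hS]
  rcases ha with ha | ha | ha | ha
  · exact Or.inl (by rw [e, ha, map_zero])
  · exact Or.inr (Or.inl (by rw [e, e, ha]))
  · rcases hx (vec x) with h' | h'
    · exact Or.inr (Or.inr (Or.inl (by rw [e, e, ha, h'])))
    · exact Or.inr (Or.inr (Or.inr (by rw [e, e, ha, h'])))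
  · rcases hx (act (D.x : Cz z ⧸ Q) (vec x)) with h1 | h1 <;> rcases hx (vec x) with h2 | h2 <;>
      rw [OnLine, e, e, ha, h1, h2]
    · exact Or.inr (Or.inr (Or.inr rfl))
    · rw [x_cube D]; exact Or.inr (Or.inl rfl)
    · rw [x_cube D]; exact Or.inr (Or.inl rfl)
    · rw [x_cube D]; exact Or.inr (Or.inr (Or.inl rfl))

/-- The scalar line, as a subgroup. -/
def lineSub (D : Data z Q) (x : Q) : Subgroup Q where
  carrier := {a | OnLine D x a}
  one_mem' := Or.inl vec_one
  mul_mem' := by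
    intro a b ha hb
    show OnLine D x (a * b)
    have ha' : OnLine D x a := ha
    have hb' : OnLine D x b := hb
    rw [OnLine, xx_sum D] at ha' hb' ⊢
    rw [vec_mul]
    have h2 : ∀ v w : QV Q, v + (v + w) = w := fun v w => by rw [← add_assoc, QV_two D.hS, zero_add]
    generalize vec x = u, act (D.x : Cz z ⧸ Q) (vec x) = w at ha' hb' ⊢
    rcases ha' with ha | ha | ha | ha <;> rcases hb' with hb | hb | hb | hb <;> rw [ha, hb] <;>
      simp [QV_two D.hS, h2, add_comm, add_left_comm]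
  inv_mem' := by
    intro a ha
    have h : vec a⁻¹ = vec a := by
      have h1 : vec a⁻¹ + vec a = 0 := by rw [← vec_mul, inv_mul_cancel, vec_one]
      calc vec a⁻¹ = vec a⁻¹ + (vec a + vec a) := by rw [QV_two D.hS, add_zero]
        _ = vec a := by rw [← add_assoc, h1, zero_add]
    show OnLine D x a⁻¹
    rw [OnLine, h]
    exact ha

theorem mem_lineSub {D : Data z Q} {x a : Q} : a ∈ lineSub D x ↔ OnLine D x a := Iff.rfl

theorem center_le_lineSub (D : Data z Q) (x : Q) : Subgroup.center Q ≤ lineSub D x :=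
  fun _ h => Or.inl ((vec_eq_zero D.hS).2 h)

/-- An element outside `L` moves the other vectors of the line. -/
theorem mem_L_of_fix (D : Data z Q) {h : Cz z ⧸ Q} {v : QV Q} (hv : v ≠ 0) (h1 : act h v = v)
    (h2 : act h (act (D.x : Cz z ⧸ Q) v) = act (D.x : Cz z ⧸ Q) v) : h ∈ D.L := by
  by_contra hh
  have e := mul_inv_eq_iff_eq_mul.1 (D.outer_inverts hh)
  rw [← act_mul D.hS, e, act_mul D.hS, h1] at h2
  have h3 := congrArg (act (D.x : Cz z ⧸ Q)) h2
  rw [← act_mul D.hS, mul_inv_cancel, act_one_vec D, xx_sum D] at h3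
  exact hv ((act (D.x : Cz z ⧸ Q)).injective ((left_eq_add.1 h3).trans (map_zero _).symm))

theorem odd_mem_L (D : Data z Q) {k : Cz z} (hk : Odd (orderOf (k : G))) :
    (QuotientGroup.mk k : Cz z ⧸ Q) ∈ D.L := by
  obtain ⟨n, hn⟩ := hk
  have h2 : ∀ u : Cz z ⧸ Q, u ^ 2 ∈ D.L := fun u => Subgroup.sq_mem_of_index_two D.L_index u
  have h1 : k ^ (2 * n + 1) = 1 := Subtype.ext (by rw [SubgroupClass.coe_pow, ← hn, pow_orderOf_eq_one]; rfl)
  have h3 : (QuotientGroup.mk k : Cz z ⧸ Q) ^ (2 * n + 1) = 1 := by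
    rw [← QuotientGroup.mk_pow, h1]; rfl
  rw [pow_succ, pow_mul] at h3
  rw [eq_inv_of_mul_eq_one_right h3]
  exact D.L.inv_mem (D.L.pow_mem (h2 _) n)

/-- An element of odd order fixing a class fixes the element. -/
theorem commute_of_odd (D : Data z Q) {k : Cz z} {a : Q} (hk : Odd (orderOf (k : G)))
    (h : vec (conjIn k a) = vec a) : Commute (k : G) (toG a) := by
  rcases (mem_center_cases D.hS).1 ((vec_eq_iff D.hS).1 h) with e | e
  · have := congrArg toG (inv_mul_eq_one.1 e)
    simp only [toG, conjIn_coe, Subgroup.coe_mul, Subgroup.coe_inv] at this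
    exact mul_inv_eq_iff_eq_mul.1 this
  · exfalso
    have e1 : conjIn k a = a * zin D.hS := by
      nth_rewrite 2 [inv_mul_eq_iff_eq_mul.1 e]
      rw [mul_assoc, zin_sq D.hS, mul_one]
    have e2 : conjIn k (zin D.hS) = zin D.hS := Subtype.ext (Subtype.ext (by
      rw [conjIn_coe]
      show (k : G) * z * (k : G)⁻¹ = z
      rw [Subgroup.mem_centralizer_singleton_iff.1 k.2, mul_inv_cancel_right]))
    have key : ∀ n : ℕ, conjIn (k ^ (2 * n + 1)) a = a * zin D.hS := by
      intro n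
      induction n with
      | zero => simpa using e1
      | succ n ih =>
        rw [show 2 * (n + 1) + 1 = (2 * n + 1) + 1 + 1 by ring, pow_succ', pow_succ', conjIn_mul, conjIn_mul, ih,
          map_mul, e2, e1, map_mul, map_mul, e2, e1, mul_assoc (a * zin D.hS), zin_sq D.hS, mul_one]
    obtain ⟨n, hn⟩ := hk
    have h1 := key n
    rw [show k ^ (2 * n + 1) = 1 from Subtype.ext (by
      rw [SubgroupClass.coe_pow, ← hn, pow_orderOf_eq_one]; rfl)] at h1
    have h4 : conjIn (1 : Cz z) a = a := Subtype.ext (by rw [conjIn_coe]; group)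
    exact zin_ne_one D.hS (mul_eq_left.1 (h4.symm.trans h1).symm)

section meet

variable (D : Data z Q) {g : G} {x : Q} (hgx : g * z * g⁻¹ = toG x) (hx : x ∉ Subgroup.center Q)

/-- The classes of the meet. -/
def meetV (g : G) (hD : Data z Q) : AddSubgroup (QV Q) where
  carrier := {v | ∃ a : Q, toG a ∈ conjQ Q g ∧ vec a = v}
  zero_mem' := ⟨1, (conjQ Q g).one_mem, vec_one⟩
  add_mem' := by
    rintro _ _ ⟨a, ha, rfl⟩ ⟨b, hb, rfl⟩
    exact ⟨a * b, (conjQ Q g).mul_mem ha hb, vec_mul a b⟩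
  neg_mem' := by
    rintro _ ⟨a, ha, rfl⟩
    refine ⟨a, ha, ?_⟩
    exact eq_neg_of_add_eq_zero_left (QV_two hD.hS _)

include hgx hx in
theorem qf_meet {v : QV Q} (hv : v ∈ meetV g D) : qf D.hS v = 0 := by
  obtain ⟨a, ha, rfl⟩ := hv
  refine (qf_eq_zero_iff D.hS a).2 (Subtype.ext (Subtype.ext ?_))
  have h := (meet_facts D hgx hx).1.2 _ (Subgroup.mem_inf.2 ⟨mem_inG.2 ⟨a, rfl⟩, ha⟩)
  rw [pow_two] at h
  exact h

include hgx hx in
theorem meet_of_vec {a : Q} (h : vec a ∈ meetV g D) : toG a ∈ conjQ Q g := by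
  obtain ⟨b, hb, e⟩ := h
  rcases (mem_center_cases D.hS).1 ((vec_eq_iff D.hS).1 e) with e' | e'
  · rwa [← inv_mul_eq_one.1 e']
  · rw [inv_mul_eq_iff_eq_mul.1 e']
    exact (conjQ Q g).mul_mem hb (z_mem_conjQ D hgx hx)

include hgx hx in
theorem meet_stable (C : Coords D) {h : Cz z ⧸ Q} (hh : h ∈ C.stab (vec x)) {v : QV Q} (hv : v ∈ meetV g D) :
    act h v ∈ meetV g D := by
  obtain ⟨k, rfl, hk⟩ := exists_commuting D hx C hh
  obtain ⟨a, ha, rfl⟩ := hv
  refine ⟨conjIn k a, ?_, by rw [act_mk D.hS, actC_vec]⟩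
  show ((conjIn k a : Cz z) : G) ∈ conjQ Q g
  rw [conjIn_coe]
  exact conjQ_conj hgx hk ha

include hgx hx in
theorem vec_x_mem : vec x ∈ meetV g D := ⟨x, x_mem_conjQ D hgx, rfl⟩

include hgx hx in
theorem card_meetV : 64 ≤ Nat.card (meetV g D) := by
  obtain ⟨C⟩ := D.exists_coords
  obtain ⟨-, -, hM, -⟩ := image_main D hgx hx C
  let K : Subgroup Q := (conjQ Q g).comap ((Cz z).subtype.comp Q.subtype)
  have hK : Nat.card K = 128 := by
    rw [← hM]
    refine Nat.card_congr (Equiv.ofBijective (fun a => ⟨toG a.1, mem_inG.2 ⟨a.1, rfl⟩, a.2⟩)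
      ⟨fun a b h => Subtype.ext (Subtype.ext (Subtype.ext (by simpa using congrArg Subtype.val h))), ?_⟩)
    rintro ⟨a, ha, hb⟩
    obtain ⟨q, rfl⟩ := mem_inG.1 ha
    exact ⟨⟨q, hb⟩, rfl⟩
  let f : K →* Multiplicative (meetV g D) :=
    MonoidHom.mk' (fun a => Multiplicative.ofAdd ⟨vec a.1, a.1, a.2, rfl⟩) fun a b =>
      congrArg Multiplicative.ofAdd (Subtype.ext (vec_mul a.1 b.1))
  have hker : Nat.card f.ker ≤ 2 := by
    rw [← D.hS.2.2.1.2]
    refine Nat.card_le_card_of_injective (fun a => ⟨a.1.1, (vec_eq_zero D.hS).1 ?_⟩)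
      (fun a b h => Subtype.ext (Subtype.ext (congrArg Subtype.val h :)))
    exact congrArg (fun m => (Multiplicative.toAdd m).1) (MonoidHom.mem_ker.1 a.2)
  have h1 := f.ker.card_mul_index
  rw [Subgroup.index_ker, hK] at h1
  have h2 : Nat.card f.range ≤ Nat.card (meetV g D) :=
    Subgroup.card_le_card_group f.range
  have h3 := Nat.mul_le_mul hker h2
  rw [h1] at h3
  omega

theorem bf_act (h : Cz z ⧸ Q) (u v : QV Q) : bf D.hS (act h u) (act h v) = bf D.hS u v := by
  unfold bf
  rw [← map_add, qf_act, qf_act, qf_act]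

theorem bf_comm (u v : QV Q) : bf D.hS u v = bf D.hS v u := by
  unfold bf
  rw [add_comm u v]; ring

theorem bf_add_left (u v w : QV Q) : bf D.hS (u + v) w = bf D.hS u w + bf D.hS v w := by
  rw [bf_comm D, bf_add D.hS, bf_comm D w u, bf_comm D w v]

include hgx hx in
theorem bf_meet {u v : QV Q} (hu : u ∈ meetV g D) (hv : v ∈ meetV g D) : bf D.hS u v = 0 := by
  unfold bf
  rw [qf_meet D hgx hx ((meetV g D).add_mem hu hv), qf_meet D hgx hx hu, qf_meet D hgx hx hv]
  rfl

include hgx hx in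
theorem eImage_moves {e : Cz z ⧸ Q} (he : e ∈ eImage Q g) {v : QV Q} (hv : v ∈ meetV g D) :
    act e v = v ∨ act e v = v + vec x := by
  obtain ⟨k, hk, rfl⟩ := he
  obtain ⟨a, ha, rfl⟩ := hv
  rw [QuotientGroup.mk'_apply, act_mk D.hS, actC_vec]
  have hc := comm_conjQ D hgx (a := (k : G)) (b := toG a) hk.1 ha
  have e1 : toG (conjIn k a) = ⁅(k : G), toG a⁆ * toG a := by
    rw [toG, conjIn_coe, commutatorElement_def]
    show (k : G) * toG a * (k : G)⁻¹ = _
    group
  rcases hc with h | h <;> rw [h] at e1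
  · left
    rw [one_mul] at e1
    rw [show conjIn k a = a from Subtype.ext (Subtype.ext e1)]
  · right
    rw [show conjIn k a = x * a from Subtype.ext (Subtype.ext e1), vec_mul, add_comm]

include hgx hx in
/-- The part of the meet stable under the scalar lies on the line. -/
theorem meet_inter {v : QV Q} (h1 : v ∈ meetV g D) (h2 : act (D.x : Cz z ⧸ Q) v ∈ meetV g D) :
    v = 0 ∨ v = vec x ∨ v = act (D.x : Cz z ⧸ Q) (vec x) ∨
      v = act (D.x : Cz z ⧸ Q) (act (D.x : Cz z ⧸ Q) (vec x)) := by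
  classical
  obtain ⟨C, hones, -⟩ := D.exists_coords_at hgx hx
  have hperm : ∀ (π : alternatingGroup (Fin 6)) v, v ∈ meetV g D →
      act ((C.F.permHom π : D.L) : Cz z ⧸ Q) v ∈ meetV g D := fun π v hv =>
    meet_stable D hgx hx C (show _ ∈ C.stab (vec x) from C.F.permHom_fix hones π) hv
  let I : AddSubgroup (QV Q) := meetV g D ⊓ (meetV g D).comap (act (D.x : Cz z ⧸ Q)).toAddMonoidHom
  let T : AddSubgroup SplitGeom.Vec := I.map C.F.coord.toAddMonoidHom
  have hc := EightGeom.const_of_stable T ?_ ?_ ?_ (C.F.coord v) ⟨v, ⟨h1, h2⟩, rfl⟩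
  · have hv0 : C.F.coord v = fun _ => C.F.coord v 0 := funext hc
    rcases SplitGeom.mul_cases (C.F.coord v 0) with h | h | h | h <;> rw [h] at hv0
    · exact Or.inl ((C.F.coord.map_eq_zero_iff).1 hv0)
    · exact Or.inr (Or.inl (C.F.coord.injective (hv0.trans hones.symm)))
    · refine Or.inr (Or.inr (Or.inl (C.F.coord.injective (funext fun i => ?_))))
      rw [hv0]; show _ = C.F.coord (D.setting.φ D.setting.x (vec x)) i
      rw [C.F.coord_x, hones]; rfl
    · refine Or.inr (Or.inr (Or.inr (C.F.coord.injective (funext fun i => ?_))))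
      rw [hv0]; show _ = C.F.coord (D.setting.φ D.setting.x (D.setting.φ D.setting.x (vec x))) i
      rw [C.F.coord_x, C.F.coord_x, hones]; rfl
  · rintro _ ⟨w, hw, rfl⟩
    show SplitGeom.par (C.F.coord w) = 0
    rw [SplitGeom.par_eq, ← C.F.q_coord]
    exact qf_meet D hgx hx hw.1
  · rintro π hπ _ ⟨w, hw, rfl⟩
    let p : alternatingGroup (Fin 6) := (⟨π, hπ⟩ : alternatingGroup (Fin 6))⁻¹
    refine ⟨act ((C.F.permHom p : D.L) : Cz z ⧸ Q) w, ⟨hperm _ _ hw.1, ?_⟩, funext fun i => ?_⟩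
    · show act (D.x : Cz z ⧸ Q) _ ∈ meetV g D
      rw [← act_mul D.hS, show (D.x : Cz z ⧸ Q) * (C.F.permHom p : D.L) = (C.F.permHom p : D.L) * D.x from
        (congrArg Subtype.val (Subgroup.mem_center_iff.1 D.x_center (C.F.permHom p))).symm, act_mul D.hS]
      exact hperm _ _ hw.2
    · show C.F.coord (D.setting.φ (C.F.permHom p) w) i = C.F.coord w (π i)
      have := C.F.permHom_coord p w (π i)
      rwa [show p.1 (π i) = i from π.symm_apply_apply i] at this
  · rintro _ ⟨w, hw, rfl⟩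
    refine ⟨act (D.x : Cz z ⧸ Q) w, ⟨hw.2, ?_⟩, funext fun i => C.F.coord_x w i⟩
    show act (D.x : Cz z ⧸ Q) (act (D.x : Cz z ⧸ Q) w) ∈ meetV g D
    rw [xx_sum D]
    exact (meetV g D).add_mem hw.1 hw.2

include hgx hx in
/-- The meet is stable under the scalar at the class of `x`. -/
theorem xu_mem : act (D.x : Cz z ⧸ Q) (vec x) ∈ meetV g D := by
  classical
  by_contra hxu
  obtain ⟨C, hones, -⟩ := D.exists_coords_at hgx hx
  obtain ⟨-, hE32, -, -⟩ := image_main D hgx hx C
  set X : QV Q ≃+ QV Q := act (D.x : Cz z ⧸ Q) with hX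
  set u := vec x with hu
  have hperm : ∀ (π : alternatingGroup (Fin 6)) v, v ∈ meetV g D →
      act ((C.F.permHom π : D.L) : Cz z ⧸ Q) v ∈ meetV g D := fun π v hv =>
    meet_stable D hgx hx C (show _ ∈ C.stab (vec x) from C.F.permHom_fix hones π) hv
  have hxcomm : ∀ (l : D.L) v, X (act (l : Cz z ⧸ Q) v) = act (l : Cz z ⧸ Q) (X v) := fun l v => by
    rw [hX, ← act_mul D.hS, ← act_mul D.hS]
    congr 2
    exact (congrArg Subtype.val (Subgroup.mem_center_iff.1 D.x_center l)).symm
  -- the part stable under the scalar is trivial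
  let I : AddSubgroup (QV Q) := meetV g D ⊓ (meetV g D).comap X.toAddMonoidHom
  have hI : ∀ v ∈ I, v = 0 := fun v hv => by
    rcases meet_inter D hgx hx hv.1 hv.2 with h | h | h | h
    · exact h
    · exact absurd (show X u ∈ meetV g D from (h.trans hu.symm) ▸ (show X v ∈ meetV g D from hv.2)) hxu
    · refine absurd ?_ hxu
      have := hv.1
      rwa [h, ← hX, ← hu] at this
    · refine absurd ?_ hxu
      have h1 : u + X u ∈ meetV g D := by
        have := hv.1
        rwa [h, xx_sum D, ← hX, ← hu] at this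
      have := (meetV g D).add_mem (vec_x_mem D hgx hx) h1
      rwa [← hu, ← add_assoc, QV_two D.hS, zero_add] at this
  -- so the meet and its translate span
  let M := meetV g D
  have hinj : Function.Injective (fun p : M × M => (p.1 : QV Q) + X p.2) := by
    rintro ⟨a, b⟩ ⟨a', b'⟩ h
    simp only at h
    have h1 : X ((b : QV Q) - b') = (a' : QV Q) - a := by
      rw [map_sub]; linear_combination (norm := abel) h
    have h2 : (b : QV Q) - b' = 0 := hI _ ⟨M.sub_mem b.2 b'.2, by
      show X _ ∈ meetV g D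
      rw [h1]; exact M.sub_mem a'.2 a.2⟩
    have hb : b = b' := Subtype.ext (sub_eq_zero.1 h2)
    subst hb
    exact Prod.ext (Subtype.ext (add_right_cancel h)) rfl
  have hspan : ∀ v : QV Q, ∃ a b : M, (a : QV Q) + X b = v := by
    have hb := (Nat.bijective_iff_injective_and_card _).2 ⟨hinj, le_antisymm ?_ ?_⟩
    · exact fun v => let ⟨p, hp⟩ := hb.2 v; ⟨p.1, p.2, hp⟩
    · exact Nat.card_le_card_of_injective _ hinj
    · rw [Nat.card_prod, card_QV D.hS]
      exact le_trans (by norm_num) (Nat.mul_le_mul (card_meetV D hgx hx) (card_meetV D hgx hx))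
  have hbu : bf D.hS u (X u) = 0 := by
    have h1 : qf D.hS (u + X u) = 0 := by
      rw [hX, ← xx_sum D, qf_act, qf_act]; exact qf_meet D hgx hx (vec_x_mem D hgx hx)
    unfold bf
    rw [h1, hX, qf_act, qf_meet D hgx hx (vec_x_mem D hgx hx)]
    rfl
  have hbflip : ∀ m : M, bf D.hS u (X m) = bf D.hS (m : QV Q) (X u) := fun m => by
    rw [← bf_act D (D.x : Cz z ⧸ Q) u, ← bf_act D (D.x : Cz z ⧸ Q) (X u), ← hX, hX, x_cube D, xx_sum D,
      bf_add_left D, bf_meet D hgx hx (vec_x_mem D hgx hx) m.2, zero_add, bf_comm D]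
  -- moved vectors
  have hE1 : ∀ e ∈ eImage Q g ⊓ D.L, e ≠ 1 → ∀ m : M,
      (act e (m : QV Q) = m + u ↔ bf D.hS (m : QV Q) (X u) = 1) := by
    intro e he hne
    have hfu : act e u = u := eImage_le_stab D hgx C he.1
    have heX : ∀ v, act e (X v) = X (act e v) := fun v => (hxcomm ⟨e, he.2⟩ v).symm
    have hmv := fun m : M => eImage_moves D hgx hx he.1 m.2
    have hpair : ∀ m m' : M, act e (m : QV Q) = m + u →
        (act e (m' : QV Q) = m' → bf D.hS (m' : QV Q) (X u) = 0) ∧
        (act e (m' : QV Q) = m' + u → bf D.hS (m : QV Q) (X u) = bf D.hS (m' : QV Q) (X u)) := by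
      intro m m' hm
      have h0 := bf_act D e (m : QV Q) (X m')
      rw [heX, hm] at h0
      constructor
      · intro hm'
        rw [hm', bf_add_left D, add_eq_left, hbflip] at h0
        exact h0
      · intro hm'
        rw [hm', map_add, bf_add D.hS, bf_add_left D, bf_add_left D, hbu, hbflip, add_zero, add_assoc,
          add_eq_left, CharTwo.add_eq_zero] at h0
        exact h0.symm
    obtain ⟨m₀, hm₀⟩ : ∃ m : M, act e (m : QV Q) = m + u := by
      by_contra hall
      push Not at hall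
      refine hne (act_faithful D.hS e fun v => ?_)
      obtain ⟨a, b, rfl⟩ := hspan v
      rw [map_add, heX, (hmv a).resolve_right (hall a), (hmv b).resolve_right (hall b)]
    have hβ : ∀ w : ZMod 2, w = 0 ∨ w = 1 := by decide
    rcases hβ (bf D.hS (m₀ : QV Q) (X u)) with h0 | h1
    · exfalso
      have hall : ∀ m : M, bf D.hS (m : QV Q) (X u) = 0 := fun m => by
        rcases hmv m with h | h
        · exact (hpair m₀ m hm₀).1 h
        · rw [← (hpair m₀ m hm₀).2 h, h0]
      have hz : X u = 0 := by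
        by_contra hne'
        obtain ⟨v, hv⟩ := bf_nondeg D.hS (X u) hne'
        obtain ⟨a, b, rfl⟩ := hspan v
        refine hv ?_
        rw [bf_comm D, bf_add_left D, hall a, bf_act D, bf_meet D hgx hx b.2 (vec_x_mem D hgx hx), add_zero]
      exact hxu (hz ▸ (meetV g D).zero_mem)
    · intro m
      refine ⟨fun h => by rw [← (hpair m₀ m hm₀).2 h, h1], fun h => (hmv m).resolve_left fun h' => ?_⟩
      rw [(hpair m₀ m hm₀).1 h'] at h
      exact absurd h (by decide)
  have h16 : 16 ≤ Nat.card (eImage Q g ⊓ D.L : Subgroup (Cz z ⧸ Q)) := by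
    haveI := D.L_normal
    have h1 := (D.L.subgroupOf (eImage Q g)).card_mul_index
    have h2 : (D.L.subgroupOf (eImage Q g)).index ≤ 2 := by
      rw [← D.L_index]
      exact Nat.le_of_dvd (by rw [D.L_index]; norm_num) (Subgroup.relIndex_dvd_index_of_normal D.L (eImage Q g))
    have h3 : Nat.card (D.L.subgroupOf (eImage Q g)) = Nat.card (eImage Q g ⊓ D.L : Subgroup (Cz z ⧸ Q)) :=
      Nat.card_congr ⟨fun a => ⟨a.1.1, a.1.2, a.2⟩, fun a => ⟨⟨a.1, a.2.1⟩, a.2.2⟩, fun _ => rfl, fun _ => rfl⟩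
    rw [hE32, h3] at h1
    have := Nat.mul_le_mul_left (Nat.card (eImage Q g ⊓ D.L : Subgroup (Cz z ⧸ Q))) h2
    omega
  haveI : Subsingleton {e : (eImage Q g ⊓ D.L : Subgroup (Cz z ⧸ Q)) // e ≠ 1} := by
    refine ⟨fun e e' => Subtype.ext (Subtype.ext ?_)⟩
    have he := hE1 e.1.1 e.1.2 (fun h => e.2 (Subtype.ext h))
    have he' := hE1 e'.1.1 e'.1.2 (fun h => e'.2 (Subtype.ext h))
    have hagree : ∀ m : M, act e.1.1 (m : QV Q) = act e'.1.1 (m : QV Q) := fun m => by
      rcases eImage_moves D hgx hx e.1.2.1 m.2 with h | h <;>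
        rcases eImage_moves D hgx hx e'.1.2.1 m.2 with h' | h' <;> rw [h, h']
      · have := (he m).2 ((he' m).1 h'); rw [h] at this; exact this
      · have := (he' m).2 ((he m).1 h); rw [h'] at this; exact this.symm
    have h : ∀ v, act e.1.1 v = act e'.1.1 v := by
      intro v
      obtain ⟨a, b, rfl⟩ := hspan v
      rw [map_add, map_add, hagree a, show act e.1.1 (X b) = X (act e.1.1 b) from
        (hxcomm ⟨e.1.1, e.1.2.2⟩ b).symm, hagree b, hxcomm ⟨e'.1.1, e'.1.2.2⟩ b]
    refine inv_mul_eq_one.1 (act_faithful D.hS _ fun v => ?_)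
    rw [act_mul D.hS, ← h, ← act_mul D.hS, inv_mul_cancel, act_one_vec D]
  have h5 : Nat.card (eImage Q g ⊓ D.L : Subgroup (Cz z ⧸ Q)) ≤ 2 := by
    haveI := Fintype.ofFinite (eImage Q g ⊓ D.L : Subgroup (Cz z ⧸ Q))
    rw [Nat.card_eq_fintype_card]
    have h6 : Fintype.card {e : (eImage Q g ⊓ D.L : Subgroup (Cz z ⧸ Q)) // e ≠ 1} ≤ 1 := Fintype.card_le_one_iff_subsingleton.2 ‹_›
    rw [Fintype.card_subtype_compl, Fintype.card_subtype_eq] at h6
    omega
  omega

include hgx hx in
theorem line_mem {a : Q} (ha : OnLine D x a) : toG a ∈ conjQ Q g := by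
  refine meet_of_vec D hgx hx ?_
  have h1 := vec_x_mem D hgx hx
  have h2 := xu_mem D hgx hx
  rcases ha with h | h | h | h <;> rw [h]
  · exact (meetV g D).zero_mem
  · exact h1
  · exact h2
  · rw [xx_sum D]; exact (meetV g D).add_mem h1 h2

/-- Elements of odd order commuting with `z` and `x` fix the line. -/
theorem line_commute {a : Q} (hx' : x ∉ Subgroup.center Q) (ha : OnLine D x a) {k : G} (hkz : Commute k z)
    (hkx : Commute k (toG x)) (hk : Odd (orderOf k)) : Commute k (toG a) := by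
  let k' : Cz z := ⟨k, Subgroup.mem_centralizer_singleton_iff.2 hkz.eq⟩
  have hL := odd_mem_L D (k := k') hk
  have hfx : conjIn k' x = x := Subtype.ext (Subtype.ext (by
    rw [conjIn_coe]; show k * toG x * k⁻¹ = toG x; rw [hkx.eq, mul_inv_cancel_right]))
  have h1 : act (QuotientGroup.mk k' : Cz z ⧸ Q) (vec x) = vec x := by rw [act_mk D.hS, actC_vec, hfx]
  have h2 : ∀ v, act (QuotientGroup.mk k' : Cz z ⧸ Q) (act (D.x : Cz z ⧸ Q) v) =
      act (D.x : Cz z ⧸ Q) (act (QuotientGroup.mk k' : Cz z ⧸ Q) v) := fun v => by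
    rw [← act_mul D.hS, ← act_mul D.hS]
    congr 2
    exact congrArg Subtype.val (Subgroup.mem_center_iff.1 D.x_center ⟨_, hL⟩)
  refine commute_of_odd D (k := k') hk ?_
  rw [← actC_vec, ← act_mk D.hS]
  rcases ha with h | h | h | h <;> rw [h]
  · exact map_zero _
  · exact h1
  · rw [h2, h1]
  · rw [h2, h2, h1]

include hgx hx in
/-- An element of the meet fixed by all of these lies on the line. -/
theorem line_of {a : Q} (ha : toG a ∈ conjQ Q g)
    (hfix : ∀ k : G, Commute k z → Commute k (toG x) → Odd (orderOf k) → Commute k (toG a)) :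
    OnLine D x a := by
  classical
  obtain ⟨C, hones, -⟩ := D.exists_coords_at hgx hx
  have hfive : ∀ π : alternatingGroup (Fin 6), π ^ 5 = 1 → ∀ i, C.F.coord (vec a) (π.1 i) = C.F.coord (vec a) i := by
    intro π hπ i
    set P : Cz z ⧸ Q := ((C.F.permHom π : D.L) : Cz z ⧸ Q) with hP
    obtain ⟨k, hkP, hkx⟩ := exists_commuting D hx C (show P ∈ C.stab (vec x) from C.F.permHom_fix hones π)
    obtain ⟨e, m, hm, hord⟩ := Nat.exists_eq_two_pow_mul_odd (orderOf_pos k).ne'
    have hk' : Odd (orderOf ((k : G) ^ 2 ^ e)) := by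
      rw [orderOf_pow_of_dvd (by positivity) ⟨m, by rw [Subgroup.orderOf_coe, hord]⟩, Subgroup.orderOf_coe,
        hord, Nat.mul_div_cancel_left _ (by positivity)]
      exact hm
    have hc := hfix _ ((show Commute (k : G) z from Subgroup.mem_centralizer_singleton_iff.1 k.2).pow_left _)
      (hkx.pow_left _) hk'
    have hP5 : P ^ 5 = 1 := by rw [hP, ← SubgroupClass.coe_pow, ← map_pow, hπ, map_one]; rfl
    have h1 : act (P ^ 2 ^ e) (vec a) = vec a := by
      rw [← hkP, ← QuotientGroup.mk_pow, act_mk D.hS, actC_vec]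
      congr 1
      refine Subtype.ext (Subtype.ext ?_)
      rw [conjIn_coe]
      show ((k ^ 2 ^ e : Cz z) : G) * toG a * ((k ^ 2 ^ e : Cz z) : G)⁻¹ = toG a
      rw [SubgroupClass.coe_pow, hc.eq, mul_inv_cancel_right]
    have h2 : P ∈ Subgroup.zpowers (P ^ 2 ^ e) := by
      have hc5 : Nat.Coprime (2 ^ e) 5 := Nat.Coprime.pow_left e (by norm_num)
      obtain ⟨s, t, hst⟩ := (Nat.Coprime.isCoprime hc5)
      refine ⟨s, ?_⟩
      show (P ^ 2 ^ e) ^ s = P
      rw [← zpow_natCast, ← zpow_mul]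
      conv_rhs => rw [← zpow_one P, ← hst, zpow_add, mul_comm t, zpow_mul P ((5 : ℕ) : ℤ), zpow_natCast, hP5,
        one_zpow, mul_one, mul_comm]
    have h3 : P ∈ C.stab (vec a) := (Subgroup.zpowers_le.2 (show P ^ 2 ^ e ∈ C.stab (vec a) from h1)) h2
    calc C.F.coord (vec a) (π.1 i) = C.F.coord (act P (vec a)) (π.1 i) := by rw [C.mem_stab.1 h3]
      _ = C.F.coord (vec a) i := C.F.permHom_coord π (vec a) i
  let p1 : Equiv.Perm (Fin 6) := Equiv.swap 0 1 * Equiv.swap 1 2 * Equiv.swap 2 3 * Equiv.swap 3 4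
  let p2 : Equiv.Perm (Fin 6) := Equiv.swap 1 2 * Equiv.swap 2 3 * Equiv.swap 3 4 * Equiv.swap 4 5
  have h1 := hfive ⟨p1, Equiv.Perm.mem_alternatingGroup.2 (by decide)⟩ (Subtype.ext (Equiv.ext (by decide)))
  have h2 := hfive ⟨p2, Equiv.Perm.mem_alternatingGroup.2 (by decide)⟩ (Subtype.ext (Equiv.ext (by decide)))
  set w := C.F.coord (vec a) with hw
  have hconst : ∀ i, w i = w 0 := by
    have a0 : w 1 = w 0 := h1 0
    have a1 : w 2 = w 1 := h1 1
    have a2 : w 3 = w 2 := h1 2
    have a3 : w 4 = w 3 := h1 3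
    have a4 : w 5 = w 4 := h2 4
    intro i
    fin_cases i
    · rfl
    · exact a0
    · exact a1.trans a0
    · exact a2.trans (a1.trans a0)
    · exact a3.trans (a2.trans (a1.trans a0))
    · exact a4.trans (a3.trans (a2.trans (a1.trans a0)))
  have hw0 : w = fun _ => w 0 := funext hconst
  rcases SplitGeom.mul_cases (w 0) with h | h | h | h <;> rw [h, hw] at hw0
  · exact Or.inl ((C.F.coord.map_eq_zero_iff).1 hw0)
  · exact Or.inr (Or.inl (C.F.coord.injective (hw0.trans hones.symm)))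
  · refine Or.inr (Or.inr (Or.inl (C.F.coord.injective (funext fun i => ?_))))
    rw [hw0]; show _ = C.F.coord (D.setting.φ D.setting.x (vec x)) i
    rw [C.F.coord_x, hones]; rfl
  · refine Or.inr (Or.inr (Or.inr (C.F.coord.injective (funext fun i => ?_))))
    rw [hw0]; show _ = C.F.coord (D.setting.φ D.setting.x (D.setting.φ D.setting.x (vec x))) i
    rw [C.F.coord_x, C.F.coord_x, hones]; rfl

end meet

end CfsgLib.LargeFischer
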