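import Cfsg.Agent.LargeFischer.EightSpecial
import Cfsg.Agent.Solvable.Fitting

/-!
# The normalizer of the eight-group modulo its radical is `L3(2) × A6`
-/

set_option autoImplicit false
set_option linter.unusedSectionVars false
set_option linter.style.haveILetI false
set_option maxHeartbeats 1000000

namespace CfsgLib.LargeFischer

open Cfsg
open scoped commutatorElement

variable {G : Type*} [Group G] [Finite G] {z : G} {Q : Subgroup (Cz z)} [Q.Normal]
variable (D : Data z Q) {g : G} {x : Q} (hgx : g * z * g⁻¹ = toG x) (hx : x ∉ Subgroup.center Q)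

theorem ker_normalizerHom (D : Data z Q) (x : Q) (n : eightN D x) :
    Subgroup.normalizerMonoidHom (eight D x) n = 1 ↔ (n : G) ∈ eightC D x := by
  rw [← MonoidHom.mem_ker, Subgroup.normalizerMonoidHom_ker]
  exact Iff.rfl

include hgx hx in
theorem eightR_le_eightN : eightR D g x ≤ eightN D x :=
  (eightR_le D g x).trans (eightC_le_eightN D x)

include hgx hx in
/-- The radical is the largest normal 2-subgroup of the normalizer. -/
theorem eightR_eq_pCore :
    eightR D g x = (Cfsg.pCore 2 (eightN D x)).map (eightN D x).subtype := by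
  classical
  obtain ⟨hc, h2⟩ := eight_elementary D hgx hx
  obtain ⟨h168, hsimp, -⟩ := mulAut_eight (V := eight D x) (fun a b => hc.is_comm.comm a b)
    (fun a => Subtype.ext (by rw [SubgroupClass.coe_pow]; exact h2 a a.2)) (card_eight D hx)
  haveI := hsimp
  haveI : Fact (Nat.Prime 2) := ⟨Nat.prime_two⟩
  set φ := Subgroup.normalizerMonoidHom (eight D x) with hφ
  have hRN := eightR_le_eightN D hgx hx
  refine le_antisymm (fun r hr => ?_) ?_
  · have hn : ((eightR D g x).subgroupOf (eightN D x)).Normal :=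
      ⟨fun a ha b => eightR_conj D hgx hx b.2 ha⟩
    have hp : IsPGroup 2 ((eightR D g x).subgroupOf (eightN D x)) :=
      (isPGroup_eightR D hgx hx).of_equiv (Subgroup.subgroupOfEquivOfLe hRN).symm
    have hle : (eightR D g x).subgroupOf (eightN D x) ≤ Cfsg.pCore 2 (eightN D x) := le_sSup ⟨hn, hp⟩
    exact ⟨⟨r, hRN hr⟩, hle hr, rfl⟩
  · set P := Cfsg.pCore 2 (eightN D x) with hP
    have hPp : IsPGroup 2 P := CfsgLib.Solvable.isPGroup_pCore 2
    have hPn : P.Normal := CfsgLib.Solvable.pCore_normal 2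
    have hsurj : Function.Surjective φ := MonoidHom.range_eq_top.1 (range_top D hgx hx)
    have hker : P ≤ φ.ker := by
      rcases (hPn.map φ hsurj).eq_bot_or_eq_top with h | h
      · exact (Subgroup.map_eq_bot_iff P).1 h
      · exfalso
        obtain ⟨n, hn⟩ := IsPGroup.iff_card.1 (hPp.map φ)
        rw [h, Subgroup.card_top, h168] at hn
        have h7 : 7 ∣ 2 ^ n := hn ▸ by norm_num
        have := Nat.Prime.dvd_of_dvd_pow (by norm_num) h7
        norm_num at this
    refine le_eightR D hgx hx (hPp.map _) ?_ ?_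
    · rintro _ ⟨a, ha, rfl⟩
      exact (ker_normalizerHom D x a).1 (hker ha)
    · rintro c hc' _ ⟨a, ha, rfl⟩
      exact ⟨_, hPn.conj_mem a ha ⟨c, eightC_le_eightN D x hc'⟩, rfl⟩

include hgx hx in
/-- The quotient of the normalizer by the radical. -/
theorem eightN_quot : ∃ _ : ((eightR D g x).subgroupOf (eightN D x)).Normal,
    Nonempty (↥(eightN D x) ⧸ (eightR D g x).subgroupOf (eightN D x) ≃*
      Matrix.SpecialLinearGroup (Fin 3) (ZMod 2) × alternatingGroup (Fin 6)) := by
  classical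
  obtain ⟨hc, h2⟩ := eight_elementary D hgx hx
  obtain ⟨h168, hsimp, ⟨eS⟩⟩ := mulAut_eight (V := eight D x) (fun a b => hc.is_comm.comm a b)
    (fun a => Subtype.ext (by rw [SubgroupClass.coe_pow]; exact h2 a a.2)) (card_eight D hx)
  haveI := hsimp
  set N := eightN D x with hN
  set R' := (eightR D g x).subgroupOf N with hR'
  haveI hn : R'.Normal := ⟨fun a ha b => eightR_conj D hgx hx b.2 ha⟩
  refine ⟨hn, ?_⟩
  set φ := Subgroup.normalizerMonoidHom (eight D x) with hφ
  have hker : ∀ n : N, φ n = 1 ↔ (n : G) ∈ eightC D x := ker_normalizerHom D x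
  let ψ : N ⧸ R' →* MulAut (eight D x) :=
    QuotientGroup.lift R' φ fun r hr => (hker r).2 (eightR_le D g x hr)
  have hψmk : ∀ n : N, ψ (QuotientGroup.mk n) = φ n := fun n => rfl
  have hψs : Function.Surjective ψ := fun a => by
    obtain ⟨n, hn⟩ := MonoidHom.range_eq_top.1 (range_top D hgx hx) a
    exact ⟨QuotientGroup.mk n, hn⟩
  set C' := (eightC D x).subgroupOf N with hC'
  let π := QuotientGroup.mk' R'
  set Cb := C'.map π with hCb
  have hCbker : ∀ q, q ∈ Cb ↔ ψ q = 1 := by
    intro q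
    constructor
    · rintro ⟨n, hn, rfl⟩; exact (hker n).2 hn
    · intro hq
      obtain ⟨n, rfl⟩ := QuotientGroup.mk_surjective q
      exact ⟨n, (hker n).1 hq, rfl⟩
  haveI hCbn : Cb.Normal := by
    rw [show Cb = ψ.ker from Subgroup.ext hCbker]; exact MonoidHom.normal_ker ψ
  -- the alternating factor
  obtain ⟨χ, hχs, hχk⟩ := exists_chi D hgx hx
  let α : C' →* alternatingGroup (Fin 6) :=
    χ.comp (Subgroup.subgroupOfEquivOfLe (eightC_le_eightN D x)).toMonoidHom
  have hαs : Function.Surjective α := hχs.comp (Subgroup.subgroupOfEquivOfLe (eightC_le_eightN D x)).surjective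
  let β : C' →* Cb := π.subgroupMap C'
  have hβs : Function.Surjective β := π.subgroupMap_surjective C'
  have hkeq : β.ker = α.ker := by
    ext c
    rw [MonoidHom.mem_ker, MonoidHom.mem_ker]
    constructor
    · intro h
      exact (hχk _).2 ((QuotientGroup.eq_one_iff (c : N)).1 (congrArg Subtype.val h))
    · intro h
      exact Subtype.ext ((QuotientGroup.eq_one_iff (c : N)).2 ((hχk _).1 h))
  obtain ⟨eC⟩ : Nonempty (Cb ≃* alternatingGroup (Fin 6)) :=
    ⟨(QuotientGroup.quotientKerEquivOfSurjective β hβs).symm.trans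
      ((QuotientGroup.quotientMulEquivOfEq hkeq).trans (QuotientGroup.quotientKerEquivOfSurjective α hαs))⟩
  -- its centralizer
  set Zc := Subgroup.centralizer (Cb : Set (N ⧸ R')) with hZc
  haveI : Zc.Normal := hZc ▸ inferInstance
  have hdisj : ∀ a, a ∈ Cb → a ∈ Zc → a = 1 := by
    intro a ha hz
    have h1 : (⟨a, ha⟩ : Cb) ∈ Subgroup.center Cb := Subgroup.mem_center_iff.2 fun b =>
      Subtype.ext (Subgroup.mem_centralizer_iff.1 hz b b.2)
    have h2 : eC ⟨a, ha⟩ ∈ Subgroup.center (alternatingGroup (Fin 6)) := Subgroup.mem_center_iff.2 fun p => by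
      obtain ⟨b, rfl⟩ := eC.surjective p
      rw [← map_mul, ← map_mul, Subgroup.mem_center_iff.1 h1 b]
    rw [alternatingGroup.center_eq_bot (by simp), Subgroup.mem_bot, MulEquiv.map_eq_one_iff] at h2
    exact congrArg Subtype.val h2
  have htop : Zc.map ψ = ⊤ := by
    refine ((Subgroup.Normal.map (inferInstance : Zc.Normal) ψ hψs).eq_bot_or_eq_top).resolve_left fun h => ?_
    obtain ⟨q, hq⟩ : ∃ q : Q, ¬ Commute q x := by
      by_contra h'
      push Not at h'
      exact hx (Subgroup.mem_center_iff.2 fun b => (h' b).eq)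
    set n : N := ⟨toG q, inG_le_eightN D hx (mem_inG.2 ⟨q, rfl⟩)⟩ with hn'
    have hnZ : π n ∈ Zc := by
      rw [hZc, Subgroup.mem_centralizer_iff]
      rintro _ ⟨c, hc, rfl⟩
      show π c * π n = π n * π c
      rw [← commutatorElement_eq_one_iff_mul_comm, ← map_commutatorElement]
      refine (QuotientGroup.eq_one_iff ⁅c, n⁆).2 ?_
      refine C_Q_le_eightR D g x ⟨?_, ?_⟩
      · show (c : G) * (n : G) * (c : G)⁻¹ * (n : G)⁻¹ ∈ eightC D x
        rw [mul_assoc, mul_assoc, ← mul_assoc (n : G)]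
        exact (eightC D x).mul_mem hc (eightC_conj D n.2 ((eightC D x).inv_mem hc))
      · show (c : G) * toG q * (c : G)⁻¹ * (toG q)⁻¹ ∈ inG Q
        exact mul_mem (inG_conj (eightC_le D x hc) (mem_inG.2 ⟨q, rfl⟩)) (inv_mem (mem_inG.2 ⟨q, rfl⟩))
    have h1 : ψ (π n) ∈ Zc.map ψ := ⟨_, hnZ, rfl⟩
    rw [h, Subgroup.mem_bot] at h1
    have h2 := Subgroup.mem_centralizer_iff.1 ((hker n).1 h1) (toG x) (x_mem_eight D x)
    exact hq (Subtype.ext (Subtype.ext h2.symm))
  let θ : Zc →* MulAut (eight D x) := ψ.comp Zc.subtype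
  have hθ : Function.Bijective θ := by
    refine ⟨(injective_iff_map_eq_one θ).2 fun a ha =>
      Subtype.ext (hdisj a.1 ((hCbker _).2 ha) a.2), fun m => ?_⟩
    obtain ⟨a, ha, e⟩ : m ∈ Zc.map ψ := htop ▸ Subgroup.mem_top m
    exact ⟨⟨a, ha⟩, e⟩
  let μ : Zc × Cb →* N ⧸ R' := MonoidHom.noncommCoprod Zc.subtype Cb.subtype fun a b =>
    ((Subgroup.mem_centralizer_iff.1 a.2 b.1 b.2).symm :)
  have hμ : Function.Bijective μ := by
    refine ⟨(injective_iff_map_eq_one μ).2 fun p hp => ?_, fun q => ?_⟩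
    · have hp' : (p.1 : N ⧸ R') * (p.2 : N ⧸ R') = 1 := hp
      have h1 : (p.1 : N ⧸ R') ∈ Cb := by
        rw [eq_inv_of_mul_eq_one_left hp']; exact Cb.inv_mem p.2.2
      have h2 := hdisj _ h1 p.1.2
      rw [h2, one_mul] at hp'
      exact Prod.ext (Subtype.ext h2) (Subtype.ext hp')
    · obtain ⟨a, ha⟩ := hθ.2 (ψ q)
      refine ⟨⟨a, ⟨(a : N ⧸ R')⁻¹ * q, (hCbker _).2 ?_⟩⟩, ?_⟩
      · rw [map_mul, map_inv, show ψ (a : N ⧸ R') = ψ q from ha, inv_mul_cancel]
      · show (a : N ⧸ R') * ((a : N ⧸ R')⁻¹ * q) = q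
        rw [mul_inv_cancel_left]
  exact ⟨(MulEquiv.ofBijective μ hμ).symm.trans
    (MulEquiv.prodCongr ((MulEquiv.ofBijective θ hθ).trans eS) eC)⟩

end CfsgLib.LargeFischer
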