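import Cfsg.Agent.LargeFischer.EightCent
import Cfsg.Agent.Solvable.Frattini

/-!
# The radical of the normalizer of the eight-group is special
-/

set_option autoImplicit false
set_option linter.unusedSectionVars false
set_option linter.style.haveILetI false
set_option maxHeartbeats 1000000

namespace CfsgLib.LargeFischer

open Cfsg
open scoped commutatorElement

variable {G : Type*} [Group G] [Finite G] {z : G} {Q : Subgroup (Cz z)} [Q.Normal]

/-- The part of `Q` in the centralizer. -/
abbrev eightP (D : Data z Q) (x : Q) : Subgroup G := eightC D x ⊓ inG Q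

theorem eightP_conj (D : Data z Q) {x : Q} {m : G} (hmN : m ∈ eightN D x) (hmz : m ∈ Cz z) {a : G}
    (ha : a ∈ eightP D x) : m * a * m⁻¹ ∈ eightP D x :=
  ⟨eightC_conj D hmN ha.1, inG_conj hmz ha.2⟩

theorem eightC_le_eightN (D : Data z Q) (x : Q) : eightC D x ≤ eightN D x := fun c hc => by
  refine mem_normalizer_of_le fun v hv => ?_
  have h := Subgroup.mem_centralizer_iff.1 hc v hv
  rw [← h, mul_inv_cancel_right]
  exact hv

theorem eight_le_eightP (D : Data z Q) {g : G} {x : Q} (hgx : g * z * g⁻¹ = toG x)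
    (hx : x ∉ Subgroup.center Q) : eight D x ≤ eightP D x := fun v hv => by
  refine ⟨Subgroup.mem_centralizer_iff.2 fun u hu => ?_, (eight_le_meet D hgx hx hv).1⟩
  exact congrArg Subtype.val ((eight_elementary D hgx hx).1.is_comm.comm ⟨u, hu⟩ ⟨v, hv⟩)

variable (D : Data z Q) {g : G} {x : Q} (hgx : g * z * g⁻¹ = toG x) (hx : x ∉ Subgroup.center Q)

/-- The data of the two generating subgroups. -/
structure EightGen (D : Data z Q) (g : G) (x : Q) where
  P1 : Subgroup G
  P1_le : P1 ≤ eightR D g x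
  P1_conjQ : P1 ≤ conjQ Q g
  sup_eq : eightP D x ⊔ P1 = eightR D g x
  P1_normal : ∀ r ∈ eightR D g x, ∀ b ∈ P1, r * b * r⁻¹ ∈ P1

include hgx hx in
theorem exists_gen : Nonempty (EightGen D g x) := by
  obtain ⟨k₀, hn, -⟩ := exists_move D hgx hx
  set n := g * (k₀ : G) with hndef
  let P1 := (eightP D x).map (MulAut.conj n).toMonoidHom
  have hP1R : P1 ≤ eightR D g x := by
    rintro _ ⟨a, ha, rfl⟩
    exact eightR_conj D hgx hx hn (C_Q_le_eightR D g x ha)
  have hP1Q : P1 ≤ conjQ Q g := by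
    rintro _ ⟨a, ha, rfl⟩
    refine ⟨(k₀ : G) * a * (k₀ : G)⁻¹, inG_conj k₀.2 ha.2, ?_⟩
    simp only [MulEquiv.coe_toMonoidHom, MulAut.conj_apply, hndef]
    group
  have hnorm : ∀ r ∈ eightR D g x, ∀ b ∈ P1, r * b * r⁻¹ ∈ P1 := by
    rintro r hr _ ⟨a, ha, rfl⟩
    have h1 : n⁻¹ * r * n ∈ eightR D g x := by
      have := eightR_conj D hgx hx ((eightN D x).inv_mem hn) hr
      rwa [inv_inv] at this
    have hC := eightR_le D g x h1
    refine ⟨n⁻¹ * r * n * a * (n⁻¹ * r * n)⁻¹,
      eightP_conj D (eightC_le_eightN D x hC) (eightC_le D x hC) ha, ?_⟩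
    simp only [MulEquiv.coe_toMonoidHom, MulAut.conj_apply]
    group
  -- the images in `H/Q`
  let incR : eightR D g x →* Cz z ⧸ Q := (eightImg D x).comp (Subgroup.inclusion (eightR_le D g x))
  let inc1 : P1 →* Cz z ⧸ Q := incR.comp (Subgroup.inclusion hP1R)
  have hmem : ∀ r : eightR D g x, incR r = 1 ↔ (r : G) ∈ inG Q := fun r => by
    show (QuotientGroup.mk (Subgroup.inclusion (eightC_le D x) ⟨r, eightR_le D g x r.2⟩) : Cz z ⧸ Q) = 1 ↔ _
    rw [QuotientGroup.eq_one_iff]
    constructor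
    · intro h; exact mem_inG.2 ⟨⟨_, h⟩, rfl⟩
    · intro h
      obtain ⟨q, hq⟩ := mem_inG.1 h
      rw [show Subgroup.inclusion (eightC_le D x) ⟨r, eightR_le D g x r.2⟩ = q.1 from Subtype.ext hq.symm]
      exact q.2
  have hR16 : Nat.card incR.range = 16 := by
    have h1 := incR.ker.card_mul_index
    have hk : Nat.card incR.ker = 2048 := by
      rw [← card_C_Q D hgx hx]
      exact Nat.card_congr ⟨fun a => ⟨a.1.1, eightR_le D g x a.1.2, (hmem a.1).1 a.2⟩,
        fun a => ⟨⟨a.1, C_Q_le_eightR D g x a.2⟩, (hmem _).2 a.2.2⟩, fun _ => rfl, fun _ => rfl⟩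
    rw [Subgroup.index_ker, hk, card_eightR D hgx hx] at h1
    exact Nat.eq_of_mul_eq_mul_left (by norm_num : 0 < 2048) (h1.trans (by norm_num))
  have hsub : inc1.range ≤ incR.range := by
    rintro _ ⟨b, rfl⟩; exact ⟨_, rfl⟩
  have hP116 : 16 ≤ Nat.card inc1.range := by
    have h1 := inc1.ker.card_mul_index
    rw [Subgroup.index_ker, Subgroup.card_map_of_injective (MulAut.conj n).injective, card_C_Q D hgx hx] at h1
    obtain ⟨C⟩ := D.exists_coords
    obtain ⟨-, -, hM, -⟩ := image_main D hgx hx C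
    have hk : Nat.card inc1.ker ≤ 128 := by
      rw [← hM]
      refine Nat.card_le_card_of_injective
        (fun a => ⟨a.1.1, (hmem _).1 a.2, hP1Q a.1.2⟩) fun a b h => ?_
      exact Subtype.ext (Subtype.ext (congrArg Subtype.val h :))
    have := Nat.mul_le_mul_right (Nat.card inc1.range) hk
    rw [h1] at this
    omega
  have hrange : inc1.range = incR.range := Subgroup.eq_of_le_of_card_ge hsub (by omega)
  refine ⟨⟨P1, hP1R, hP1Q, le_antisymm (sup_le (C_Q_le_eightR D g x) hP1R) fun r hr => ?_, hnorm⟩⟩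
  obtain ⟨b, hb⟩ : incR ⟨r, hr⟩ ∈ inc1.range := hrange ▸ ⟨_, rfl⟩
  have hp : r * (b : G)⁻¹ ∈ eightP D x := by
    refine ⟨(eightC D x).mul_mem (eightR_le D g x hr) ((eightC D x).inv_mem (eightR_le D g x (hP1R b.2))),
      (hmem (⟨r, hr⟩ * (Subgroup.inclusion hP1R b)⁻¹)).1 ?_⟩
    rw [map_mul, map_inv, show incR (Subgroup.inclusion hP1R b) = incR ⟨r, hr⟩ from hb, mul_inv_cancel]
  have := Subgroup.mul_mem_sup hp b.2
  rwa [inv_mul_cancel_right] at this

include hgx hx in
theorem sq_mem_eight_P {a : G} (ha : a ∈ inG Q) : a * a ∈ eight D x := by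
  rcases sq_inG D ha with h | h <;> rw [h]
  · exact one_mem _
  · exact z_mem_eight D x

include hgx hx in
theorem commutator_mem_eight (T : EightGen D g x) {a b : G} (ha : a ∈ eightP D x) (hb : b ∈ T.P1) :
    ⁅a, b⁆ ∈ eight D x := by
  obtain ⟨k, hk, hkx⟩ := exists_scalar D hx
  obtain ⟨C⟩ := D.exists_coords
  have hbC := eightR_le D g x (T.P1_le hb)
  have hkey : ∀ a ∈ eightP D x, ⁅a, b⁆ ∈ inG Q ∧ ⁅a, b⁆ ∈ conjQ Q g := by
    intro a ha
    rw [commutatorElement_def]
    constructor
    · rw [mul_assoc, mul_assoc, ← mul_assoc b]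
      exact mul_mem ha.2 (inG_conj (eightC_le D x hbC) (inv_mem ha.2))
    · exact T.P1_conjQ (mul_mem (T.P1_normal a (C_Q_le_eightR D g x ha) b hb) (inv_mem hb))
  -- the translate by the scalar
  set b' := (k : G) * b * (k : G)⁻¹ with hb'
  have ha' : b⁻¹ * b' ∈ eightP D x := by
    have hb'C := eightC_conj D hk hbC
    refine ⟨(eightC D x).mul_mem ((eightC D x).inv_mem hbC) hb'C, ?_⟩
    let bb : Cz z := ⟨b, eightC_le D x hbC⟩
    have hbL : (QuotientGroup.mk bb : Cz z ⧸ Q) ∈ D.L := by
      have : eightImg D x ⟨b, hbC⟩ ∈ C.stab (vec x) ⊓ D.L := by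
        rw [← eightImg_range D hx C]; exact ⟨_, rfl⟩
      exact this.2
    have hq : bb⁻¹ * (k * bb * k⁻¹) ∈ Q := by
      rw [← QuotientGroup.eq_one_iff]
      simp only [QuotientGroup.mk_mul, QuotientGroup.mk_inv]
      rw [hkx, show (D.x : Cz z ⧸ Q) * QuotientGroup.mk bb = QuotientGroup.mk bb * (D.x : Cz z ⧸ Q) from
        (congrArg Subtype.val (Subgroup.mem_center_iff.1 D.x_center ⟨_, hbL⟩)).symm, mul_inv_cancel_right,
        inv_mul_cancel]
    exact mem_inG.2 ⟨⟨_, hq⟩, rfl⟩
  -- the commutator of the translate is the translate of a commutator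
  set a'' := (k : G)⁻¹ * a * (k : G) with ha''
  have ha''P : a'' ∈ eightP D x := by
    have := eightP_conj D ((eightN D x).inv_mem hk) ((Cz z).inv_mem k.2) ha
    rwa [inv_inv] at this
  have e1 : ⁅a, b'⁆ = (k : G) * ⁅a'', b⁆ * (k : G)⁻¹ := by
    simp only [hb', ha'', commutatorElement_def]; group
  have e2 : ⁅a, b'⁆ = ⁅a, b⁆ * (b * ⁅a, b⁻¹ * b'⁆ * b⁻¹) := by
    simp only [commutatorElement_def]; group
  have hbz : Commute b z := Subgroup.mem_centralizer_singleton_iff.1 (eightC_le D x hbC)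
  have e3 : b * ⁅a, b⁻¹ * b'⁆ * b⁻¹ ∈ eight D x := by
    rcases comm_inG D ha.2 ha'.2 with h | h <;> rw [h]
    · rw [mul_one, mul_inv_cancel]; exact one_mem _
    · rw [hbz.eq, mul_inv_cancel_right]; exact z_mem_eight D x
  -- the class of the inner commutator lies on the line
  obtain ⟨c, hc⟩ := mem_inG.1 (hkey a'' ha''P).1
  have hcl : OnLine D x c := by
    refine meet_inter D hgx hx ⟨c, by rw [hc]; exact (hkey a'' ha''P).2, rfl⟩ ?_
    obtain ⟨d, hd⟩ := mem_inG.1 (hkey a ha).1
    obtain ⟨f, hf, hf'⟩ := mem_eight.1 e3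
    refine ⟨d * f, ?_, ?_⟩
    · show toG (d * f) ∈ conjQ Q g
      rw [show toG (d * f) = toG d * toG f from rfl, hd]
      exact mul_mem (hkey a ha).2 (line_mem D hgx hx hf)
    · have e4 : d * f = conjIn k c := Subtype.ext (Subtype.ext (by
        show toG d * toG f = toG (conjIn k c)
        rw [conjIn_toG, hd, hc, hf', ← e2, e1]))
      rw [e4, ← hkx, act_mk D.hS, actC_vec]
  have h5 : ⁅a, b'⁆ ∈ eight D x := by
    rw [e1, ← hc]
    exact (Subgroup.mem_normalizer_iff.1 hk _).1 (toG_mem_eight.2 hcl)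
  rw [e2] at h5
  exact (Subgroup.mul_mem_cancel_right _ e3).1 h5

include hgx hx in
/-- A central element of the radical lies in the eight-group. -/
theorem center_eightR {r : G} (hr : r ∈ eightR D g x) (hc : ∀ s ∈ eightR D g x, Commute r s) :
    r ∈ eight D x := by
  classical
  obtain ⟨C, hones, hc0⟩ := D.exists_coords_at hgx hx
  have hrC := eightR_le D g x hr
  set k : Cz z := ⟨r, eightC_le D x hrC⟩ with hk
  set a : Cz z ⧸ Q := QuotientGroup.mk k with ha
  have haE : a ∈ eImage Q g := (mem_eightR.1 hr).2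
  have haL : a ∈ C.stab (vec x) ⊓ D.L := by rw [← eightImg_range D hx C]; exact ⟨⟨r, hrC⟩, rfl⟩
  have hmemP : ∀ q : Q, q ∈ Subgroup.centralizer ((lineSub D x : Subgroup Q) : Set Q) → toG q ∈ eightP D x := by
    intro q hq
    refine ⟨Subgroup.mem_centralizer_iff.2 ?_, mem_inG.2 ⟨q, rfl⟩⟩
    rintro _ ⟨b, hb, rfl⟩
    exact congrArg (qIncl Q) (Subgroup.mem_centralizer_iff.1 hq b hb)
  have hfix : ∀ q : Q, q ∈ Subgroup.centralizer ((lineSub D x : Subgroup Q) : Set Q) → act a (vec q) = vec q := by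
    intro q hq
    rw [ha, act_mk D.hS, actC_vec]
    congr 1
    refine Subtype.ext (Subtype.ext ?_)
    show toG (conjIn k q) = toG q
    rw [conjIn_toG, show (k : G) * toG q = toG q * (k : G) from (hc _ (C_Q_le_eightR D g x (hmemP q hq))).eq,
      mul_inv_cancel_right]
  haveI : Fact (Nat.Prime 2) := ⟨Nat.prime_two⟩
  have hdouble := CfsgLib.ExtraspecialBasic.centralizer_centralizer D.hS.2.2.1 (center_le_lineSub D x)
  have hline : ∀ v, ∃ c : Q, OnLine D x c ∧ act a v + v = vec c := by
    intro v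
    obtain ⟨c, hcv⟩ := vec_surjective (act a v + v)
    refine ⟨c, ?_, hcv.symm⟩
    rw [← mem_lineSub, ← hdouble, Subgroup.mem_centralizer_iff]
    intro q hq
    refine ((bf_eq_zero_iff D.hS c q).1 ?_).eq.symm
    rw [hcv, bf_add_left D]
    conv_lhs => arg 1; rw [← hfix q hq, bf_act D]
    exact CharTwo.add_self_eq_zero _
  by_cases ha1 : a = 1
  · -- the element is in `Q`
    have hq : k ∈ Q := (QuotientGroup.eq_one_iff k).1 ha1
    refine (toG_mem_eight (a := ⟨k, hq⟩)).2 ?_
    rw [← mem_lineSub, ← hdouble, Subgroup.mem_centralizer_iff]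
    intro q hq'
    exact Subtype.ext (Subtype.ext (hc _ (C_Q_le_eightR D g x (hmemP q hq'))).eq.symm)
  exfalso
  have hcomm : ∀ (π : alternatingGroup (Fin 6)) v,
      act a (act ((C.F.permHom π : D.L) : Cz z ⧸ Q) v) = act ((C.F.permHom π : D.L) : Cz z ⧸ Q) (act a v) := by
    intro π v
    set P : Cz z ⧸ Q := ((C.F.permHom π : D.L) : Cz z ⧸ Q) with hP
    have hPx : act P (vec x) = vec x := C.F.permHom_fix hones π
    have hPline : ∀ b : Q, OnLine D x b → act P (vec b) = vec b := by
      intro b hb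
      have hX : ∀ v, act P (act (D.x : Cz z ⧸ Q) v) = act (D.x : Cz z ⧸ Q) (act P v) := fun v => by
        rw [← act_mul D.hS, ← act_mul D.hS]
        congr 2
        exact congrArg Subtype.val (Subgroup.mem_center_iff.1 D.x_center (C.F.permHom π))
      rcases hb with e | e | e | e <;> rw [e]
      · exact map_zero _
      · exact hPx
      · rw [hX, hPx]
      · rw [hX, hX, hPx]
    obtain ⟨q, hq⟩ := vec_surjective (act P v + v)
    have hqc : act a (vec q) = vec q := hfix q (Subgroup.mem_centralizer_iff.2 fun b hb => by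
      refine ((bf_eq_zero_iff D.hS q b).1 ?_).eq.symm
      rw [hq, bf_add_left D]
      conv_lhs => arg 1; rw [← hPline b hb, bf_act D]
      exact CharTwo.add_self_eq_zero _)
    obtain ⟨c, hcl, hcv⟩ := hline v
    have e1 : act P v = vec q + v := by rw [hq, add_assoc, QV_two D.hS, add_zero]
    have e2 : act a v = vec c + v := by rw [← hcv, add_assoc, QV_two D.hS, add_zero]
    rw [e2, map_add, hPline c hcl, e1, map_add, hqc, e2]
    abel
  let dd : SplitGeom.Vec ≃+ SplitGeom.Vec := C.F.coord.symm.trans ((act a).trans C.F.coord)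
  have hdd : ∀ v, dd (C.F.coord v) = C.F.coord (act a v) := fun v => by simp [dd]
  have hsq : a * a = 1 := by
    rw [← pow_two]
    exact (eImage_elementary D hgx hx).2 a haE
  rcases SplitGeom.transvection dd
    (fun w => by
      obtain ⟨v, rfl⟩ := C.F.coord.surjective w
      have hx' : ∀ v, C.F.coord (act (D.x : Cz z ⧸ Q) v) = SplitGeom.scal (C.F.coord v) :=
        fun v => funext fun i => C.F.coord_x v i
      rw [← hx', hdd, hdd, ← hx', ← act_mul D.hS, ← act_mul D.hS,
        show a * (D.x : Cz z ⧸ Q) = (D.x : Cz z ⧸ Q) * a from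
          congrArg Subtype.val (Subgroup.mem_center_iff.1 D.x_center ⟨a, haL.2⟩)])
    (fun w => by
      obtain ⟨v, rfl⟩ := C.F.coord.surjective w
      rw [← C.F.cycle1_coord, hdd, hdd, ← C.F.cycle1_coord]
      exact congrArg C.F.coord (hcomm Frame.cycle1 v))
    (fun w => by
      obtain ⟨v, rfl⟩ := C.F.coord.surjective w
      rw [← C.F.cycle2_coord, hdd, hdd, ← C.F.cycle2_coord]
      exact congrArg C.F.coord (hcomm Frame.cycle2 v))
    (fun w => by
      obtain ⟨v, rfl⟩ := C.F.coord.surjective w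
      rw [hdd, SplitGeom.par_eq, SplitGeom.par_eq, ← C.F.q_coord, ← C.F.q_coord]
      exact qf_act D.hS a v)
    (by rw [← hones, hdd, C.mem_stab.1 haL.1])
    (fun w => by
      obtain ⟨v, rfl⟩ := C.F.coord.surjective w
      rw [hdd, hdd, ← act_mul D.hS, hsq, act_one_vec D]) with h1 | ⟨h6, h0⟩
  · exact ha1 (act_faithful D.hS a fun v => C.F.coord.injective (by rw [← hdd]; exact h1 _))
  · set v := C.F.coord.symm (SplitGeom.in1 ((1, 0), (0, 1), (0, 0))) with hv
    have hA : C.F.InA C.c v := Or.inl (by rw [hv, AddEquiv.apply_symm_apply]; rfl)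
    refine C.F.inA_not_inB C.c (C.act_inA a hA) (Or.inr ?_)
    rw [← hdd, hv, AddEquiv.apply_symm_apply, h0]
    exact ⟨h6, Ne.symm hc0⟩

include hgx hx in
/-- The radical is special with centre the eight-group. -/
theorem eightR_special : Cfsg.IsSpecial 2 (eightR D g x) ∧
    (Subgroup.center (eightR D g x)).map (eightR D g x).subtype = eight D x := by
  haveI : Fact (Nat.Prime 2) := ⟨Nat.prime_two⟩
  obtain ⟨T⟩ := exists_gen D hgx hx
  set R := eightR D g x with hR
  set V := eight D x with hV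
  have hVR : V ≤ R := (eight_le_eightP D hgx hx).trans (C_Q_le_eightR D g x)
  set V' := V.subgroupOf R with hV'
  have hcen : Subgroup.center R = V' := by
    ext r
    constructor
    · intro hr
      exact center_eightR D hgx hx r.2 fun s hs =>
        (congrArg Subtype.val (Subgroup.mem_center_iff.1 hr ⟨s, hs⟩)).symm
    · intro hr
      refine Subgroup.mem_center_iff.2 fun s => Subtype.ext ?_
      exact (Subgroup.mem_centralizer_iff.1 (eightR_le D g x s.2) r hr).symm
  haveI : V'.Normal := hcen ▸ inferInstance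
  set A := (eightP D x).subgroupOf R with hA
  set B := T.P1.subgroupOf R with hB
  have hAB : A ⊔ B = ⊤ := by
    rw [hA, hB, ← Subgroup.subgroupOf_sup (C_Q_le_eightR D g x) T.P1_le, T.sup_eq, Subgroup.subgroupOf_self]
  let π := QuotientGroup.mk' V'
  have hkill : ∀ a b : R, ⁅(a : G), (b : G)⁆ ∈ V → π a * π b = π b * π a := fun a b h => by
    have h' : π ⁅a, b⁆ = 1 := (QuotientGroup.eq_one_iff ⁅a, b⁆).2 h
    rw [map_commutatorElement, commutatorElement_eq_one_iff_mul_comm] at h'
    exact h'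
  have hxV : ∀ u : G, u = 1 ∨ u = toG x → u ∈ V := by
    rintro u (rfl | rfl)
    · exact one_mem _
    · exact x_mem_eight D x
  set W0 := A.map π
  set W1 := B.map π
  have h00 : W0 ≤ Subgroup.centralizer (W0 : Set (R ⧸ V')) := by
    rintro _ ⟨a, ha, rfl⟩
    rw [Subgroup.mem_centralizer_iff]
    rintro _ ⟨b, hb, rfl⟩
    refine hkill b a ?_
    rcases comm_inG D (a := (b : G)) (b := (a : G)) hb.2 ha.2 with h | h <;> rw [h]
    · exact one_mem _
    · exact z_mem_eight D x
  have h11 : W1 ≤ Subgroup.centralizer (W1 : Set (R ⧸ V')) := by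
    rintro _ ⟨a, ha, rfl⟩
    rw [Subgroup.mem_centralizer_iff]
    rintro _ ⟨b, hb, rfl⟩
    exact hkill b a (hxV _ (comm_conjQ D hgx (T.P1_conjQ hb) (T.P1_conjQ ha)))
  have h10 : W1 ≤ Subgroup.centralizer (W0 : Set (R ⧸ V')) := by
    rintro _ ⟨a, ha, rfl⟩
    rw [Subgroup.mem_centralizer_iff]
    rintro _ ⟨b, hb, rfl⟩
    exact hkill b a (commutator_mem_eight D hgx hx T hb ha)
  have htop : W0 ⊔ W1 = ⊤ := by
    rw [← Subgroup.map_sup, hAB, Subgroup.map_top_of_surjective _ (QuotientGroup.mk'_surjective _)]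
  have hW : ∀ u v : R ⧸ V', u * v = v * u := by
    have h0 : ⊤ ≤ Subgroup.centralizer (W0 : Set (R ⧸ V')) := htop ▸ sup_le h00 h10
    have h1 : ⊤ ≤ Subgroup.centralizer (W1 : Set (R ⧸ V')) :=
      htop ▸ sup_le (Subgroup.le_centralizer_iff.1 h10) h11
    have h2 : W0 ⊔ W1 ≤ Subgroup.centralizer ((⊤ : Subgroup (R ⧸ V')) : Set (R ⧸ V')) :=
      sup_le (Subgroup.le_centralizer_iff.1 h0) (Subgroup.le_centralizer_iff.1 h1)
    intro u v
    exact Subgroup.mem_centralizer_iff.1 (h2 (htop ▸ Subgroup.mem_top v)) u (Subgroup.mem_top u)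
  have hcommle : commutator R ≤ V' := by
    rw [commutator_def, Subgroup.commutator_le]
    intro a _ b _
    rw [← QuotientGroup.eq_one_iff]
    show π ⁅a, b⁆ = 1
    rw [map_commutatorElement, commutatorElement_eq_one_iff_mul_comm]
    exact hW _ _
  have hsq : ∀ r : R, r ^ 2 ∈ V' := by
    let S : Subgroup R :=
      { carrier := {r | π r * π r = 1}
        one_mem' := by simp
        mul_mem' := by
          intro a b (ha : π a * π a = 1) (hb : π b * π b = 1)
          show π (a * b) * π (a * b) = 1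
          rw [map_mul, mul_assoc, ← mul_assoc (π b), hW (π b) (π a), mul_assoc, hb, mul_one, ha]
        inv_mem' := by
          intro a (ha : π a * π a = 1)
          show π a⁻¹ * π a⁻¹ = 1
          rw [map_inv, ← mul_inv_rev, ha, inv_one] }
    have hS : (⊤ : Subgroup R) ≤ S := by
      rw [← hAB]
      refine sup_le (fun a ha => ?_) fun b hb => ?_
      · show π a * π a = 1
        rw [← map_mul]
        exact (QuotientGroup.eq_one_iff (a * a)).2 (sq_mem_eight_P D hgx hx ha.2)
      · show π b * π b = 1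
        rw [← map_mul]
        exact (QuotientGroup.eq_one_iff (b * b)).2 (hxV _ (sq_conjQ D hgx (T.P1_conjQ hb)))
    intro r
    rw [← QuotientGroup.eq_one_iff, pow_two]
    exact (map_mul π r r).trans (hS (Subgroup.mem_top r))
  have hp : IsPGroup 2 R := isPGroup_eightR D hgx hx
  have hge : V' ≤ commutator R := by
    obtain ⟨v₀, hv₀, hne⟩ : ∃ v₀ ∈ commutator R, v₀ ≠ 1 := by
      by_contra h
      push Not at h
      have hab : Subgroup.center R = ⊤ := by
        rw [eq_top_iff]
        intro r _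
        refine Subgroup.mem_center_iff.2 fun s => ?_
        rw [← commutatorElement_eq_one_iff_mul_comm]
        exact h _ (Subgroup.commutator_mem_commutator (Subgroup.mem_top s) (Subgroup.mem_top r))
      have h1 : Nat.card V' = Nat.card R := by rw [← hcen, hab, Subgroup.card_top]
      rw [Nat.card_congr (Subgroup.subgroupOfEquivOfLe hVR).toEquiv, card_eight D hx, card_eightR D hgx hx] at h1
      norm_num at h1
    obtain ⟨m₀, hm₀, e₀⟩ := conj_z D hgx hx (v := (v₀ : G)) (hcommle hv₀) (fun e => hne (Subtype.ext e))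
    intro v hv
    by_cases hv1 : v = 1
    · rw [hv1]; exact one_mem _
    obtain ⟨m, hm, e⟩ := conj_z D hgx hx (v := (v : G)) hv (fun e => hv1 (Subtype.ext e))
    set n := m * m₀⁻¹
    have hn : n ∈ eightN D x := mul_mem hm (inv_mem hm₀)
    let τ : R →* R := MonoidHom.mk' (fun r => ⟨n * r * n⁻¹, eightR_conj D hgx hx hn r.2⟩)
      fun a b => Subtype.ext (by simp)
    have hτ : τ v₀ ∈ commutator R := by
      have h1 : (commutator R).map τ ≤ commutator R := by
        rw [commutator_def, Subgroup.map_commutator]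
        exact Subgroup.commutator_mono le_top le_top
      exact h1 ⟨v₀, hv₀, rfl⟩
    have : τ v₀ = v := Subtype.ext (by
      show n * (v₀ : G) * n⁻¹ = (v : G)
      rw [← e₀, ← e]; simp only [n]; group)
    exact this ▸ hτ
  have hcomm : commutator R = V' := le_antisymm hcommle hge
  refine ⟨⟨hp, le_antisymm ?_ ?_, hcomm.trans hcen.symm⟩, ?_⟩
  · rw [hcen]
    exact CfsgLib.Solvable.frattini_le_of_elementary (p := 2) hcommle hsq
  · rw [hcen, ← hcomm]
    exact CfsgLib.Solvable.commutator_le_frattini hp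
  · rw [hcen, hV', Subgroup.subgroupOf_map_subtype, inf_eq_left.2 hVR]

end CfsgLib.LargeFischer
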