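import Cfsg.Agent.LargeFischer.MaxElem

/-!
# An elementary abelian subgroup of order `2^11`

The lifts to the centralizer of the scalar of the elements fixing a matching space are commuting involutions,
since enough of them lie in conjugates of `Q`; they centralize the preimage of that space.
-/

set_option autoImplicit false
set_option linter.unusedSectionVars false
set_option linter.style.haveILetI false
set_option maxHeartbeats 1000000

namespace CfsgLib.LargeFischer

open Cfsg

theorem bil_mult {v : SplitGeom.Vec} (hv : RootGeom.sumW v = 0) (k : W) :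
    SplitGeom.bil v (RootGeom.mult k) = 0 := by
  have key : ∀ a b e : W, SplitGeom.nz (a + e) + SplitGeom.nz a + SplitGeom.nz e +
      (SplitGeom.nz (b + e) + SplitGeom.nz b + SplitGeom.nz e) =
      SplitGeom.nz (a + b + e) + SplitGeom.nz (a + b) + SplitGeom.nz e := by decide
  have h0 : SplitGeom.nz (RootGeom.sumW v + k) + SplitGeom.nz (RootGeom.sumW v) + SplitGeom.nz k = 0 := by
    rw [hv, zero_add, show SplitGeom.nz 0 = 0 from rfl, add_zero]
    exact (by decide : ∀ t : ZMod 2, t + t = 0) _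
  simp only [RootGeom.sumW] at h0
  simp only [SplitGeom.bil, SplitGeom.par, RootGeom.mult, Pi.add_apply]
  linear_combination h0 + key (v 0) (v 1) k + key (v 0 + v 1) (v 2) k + key (v 0 + v 1 + v 2) (v 3) k +
    key (v 0 + v 1 + v 2 + v 3) (v 4) k + key (v 0 + v 1 + v 2 + v 3 + v 4) (v 5) k

theorem pairV_sum : ∀ i j : Fin 6, i ≠ j → RootGeom.sumW (RootGeom.pairV i j (1, 0)) = 0 ∧
    (suppW (RootGeom.pairV i j (1, 0))).card = 2 := by decide +kernel

theorem scal_ones : SplitGeom.scal SplitGeom.ones = RootGeom.mult (0, 1) := by decide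

theorem block_facts : (∀ i, RootGeom.su i = i ∨ RootGeom.su i = RootGeom.matching 0 i) ∧
    (∀ i, RootGeom.sv i = i ∨ RootGeom.sv i = RootGeom.matching 0 i) ∧ RootGeom.sv * RootGeom.su = RootGeom.sw := by
  decide +kernel

variable {G : Type*} [Group G] [Finite G] {z : G} {Q : Subgroup (Cz z)} [Q.Normal] {D : Data z Q}

theorem toG_mem_central {e : Cz z} (h : e = 1 ∨ (e : G) = z) (a : Cz z) : Commute e a := by
  rcases h with rfl | h
  · exact Commute.one_left a
  · refine Subtype.ext ?_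
    show (e : G) * (a : G) = (a : G) * (e : G)
    rw [h]
    exact (Subgroup.mem_centralizer_singleton_iff.1 a.2).symm

namespace Coords

variable (C : Coords D)

theorem bil_coord (u v : QV Q) : SplitGeom.bil (C.F.coord u) (C.F.coord v) = bf D.hS u v := by
  have hp : ∀ u, SplitGeom.par (C.F.coord u) = qf D.hS u := fun u => by
    rw [SplitGeom.par_eq, ← C.F.q_coord]; rfl
  rw [SplitGeom.bil, ← map_add, hp, hp, hp, bf]
  exact (by decide : ∀ a b c : ZMod 2, a + b + c = a - b - c) _ _ _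

theorem coord_x_scal (v : QV Q) : C.F.coord (act (D.x : Cz z ⧸ Q) v) = SplitGeom.scal (C.F.coord v) :=
  funext fun i => C.F.coord_x v i

theorem moves_transfer (C' : Coords D) {l : Cz z ⧸ Q} {w : QV Q}
    (h : RootGeom.MovesLine (C.cact l) (C.F.coord w)) : RootGeom.MovesLine (C'.cact l) (C'.F.coord w) := by
  intro v hv1 hv2
  obtain ⟨u, rfl⟩ := C'.F.coord.surjective v
  rw [C'.bil_coord, ← C.bil_coord] at hv1
  rw [← C'.coord_x_scal, C'.bil_coord, ← C.bil_coord, C.coord_x_scal] at hv2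
  have hkey := h (C.F.coord u) hv1 hv2
  simp only [cact_coord, ← coord_x_scal, ← map_add] at hkey ⊢
  rcases hkey with h | h | h | h
  · left
    rw [← map_zero C.F.coord] at h
    rw [C.F.coord.injective h, map_zero]
  · exact Or.inr (Or.inl (congrArg _ (C.F.coord.injective h)))
  · exact Or.inr (Or.inr (Or.inl (congrArg _ (C.F.coord.injective h))))
  · exact Or.inr (Or.inr (Or.inr (congrArg _ (C.F.coord.injective h))))

variable {g : G} {x : Q} (hgx : g * z * g⁻¹ = toG x) (hx : x ∉ Subgroup.center Q)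
  (hones : C.F.coord (vec x) = SplitGeom.ones) (hc : C.c ≠ 0)

include hgx hx hones hc in
/-- An element moving the orthogonal of the class along its line lies in the image of the conjugate. -/
theorem mem_EL_of_moves {l : Cz z ⧸ Q} (hl : l ∈ C.stab (vec x) ⊓ D.L)
    (hm : RootGeom.MovesLine (C.cact l) SplitGeom.ones) : l ∈ EL D g := by
  obtain ⟨e, he, π, rfl⟩ := C.exists_decomp hgx hx hones hc hl
  have hfix : ∀ i j : Fin 6, i ≠ j → π.1⁻¹ i = i ∨ π.1⁻¹ i = j := by
    intro i j hij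
    set v := RootGeom.pairV i j (1, 0) with hvdef
    obtain ⟨hsum, hcard⟩ := pairV_sum i j hij
    have hline : ∃ k, C.cact (e * (C.F.permHom π).1) v + v = RootGeom.mult k := by
      rcases hm v (bil_mult hsum _) (by rw [scal_ones]; exact bil_mult hsum _) with h | h | h | h
      exacts [⟨0, h⟩, ⟨(1, 0), h⟩, ⟨(0, 1), h.trans scal_ones⟩, ⟨(1, 1), h.trans (by decide)⟩]
    obtain ⟨k, hk⟩ := hline
    rw [C.cact_mul, C.cact_perm] at hk
    set w := RootGeom.pm π.1⁻¹ v with hw
    have hws : RootGeom.sumW w = 0 := by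
      rw [← hsum, RootGeom.sumW_eq, RootGeom.sumW_eq, hw]
      exact Equiv.sum_comp π.1⁻¹ v
    obtain ⟨k', hk'⟩ := C.EL_line hgx hx hones he hws
    have hwv : w = v + RootGeom.mult (k + k') := by
      have h : RootGeom.mult (k + k') = (C.cact e w + v) + (C.cact e w + w) := by rw [hk, hk']; rfl
      rw [h]
      calc w = (C.cact e w + C.cact e w) + (v + v) + w := by
            rw [SplitGeom.add_self_vec, SplitGeom.add_self_vec, zero_add, zero_add]
        _ = _ := by abel
    have h0 : k + k' = 0 := pair_mult i j hij _ (by rw [← hvdef, ← hwv, hw, suppW_comp]; exact hcard)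
    rw [h0] at hwv
    have h2 := congrFun hwv i
    simp only [hw, RootGeom.pm, hvdef, RootGeom.pairV, Pi.add_apply, RootGeom.mult, true_or, if_true, add_zero] at h2
    by_contra hcon
    rw [if_neg hcon] at h2
    exact absurd h2 (by decide)
  have hπ : π = 1 := by
    refine Subtype.ext (inv_injective (Equiv.ext fun i => ?_))
    obtain ⟨s, t, hst, hsi, -, hti, -, -⟩ := exists_three i i
    rw [Subgroup.coe_one, inv_one, Equiv.Perm.one_apply]
    rcases hfix i s hsi.symm with h | h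
    · exact h
    rcases hfix i t hti.symm with h' | h'
    · exact h'
    · exact absurd (h.symm.trans h') hst
  rwa [hπ, map_one, Subgroup.coe_one, mul_one]

end Coords

namespace Gen

variable (Y : Gen D)

theorem fix_vec {n : Cz z} (hn : Commute n Y.y) {q : Q}
    (hst : act (QuotientGroup.mk n : Cz z ⧸ Q) (vec q) = vec q) : conjIn n q = q := by
  rw [act_mk D.hS, actC_vec] at hst
  rcases (mem_center_cases D.hS).1 ((vec_eq_iff D.hS).1 hst) with h | h
  · exact inv_mul_eq_one.1 h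
  exfalso
  have e : conjIn n q = q * zin D.hS := by
    have h' : q = conjIn n q * zin D.hS := by rw [← h, mul_inv_cancel_left]
    conv_rhs => rw [h', mul_assoc, zin_sq, mul_one]
  have hcomm : ∀ w, conjIn n (conjIn Y.y w) = conjIn Y.y (conjIn n w) := fun w => by
    rw [← conjIn_mul (Q := Q), hn.eq, conjIn_mul]
  have hc : ∀ w, w * zin D.hS = zin D.hS * w := fun w =>
    Subgroup.mem_center_iff.1 ((mem_center_cases D.hS).2 (Or.inr rfl)) w
  have hy : ∀ w, conjIn Y.y (w * zin D.hS) = conjIn Y.y w * zin D.hS := fun w => by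
    rw [map_mul, ← zp_one D.hS, conjIn_zp]
  obtain ⟨t, ht⟩ : ∃ t, Y.norm3 q = zp D.hS t := by
    rcases (mem_center_cases D.hS).1 (Y.norm3_mem q) with h | h
    exacts [⟨0, h.trans (zp_zero D.hS).symm⟩, ⟨1, h.trans (zp_one D.hS).symm⟩]
  have h1 : Y.norm3 (conjIn n q) = Y.norm3 q := by
    rw [norm3, ← hcomm, ← hcomm, ← map_mul, ← map_mul]
    show conjIn n (Y.norm3 q) = Y.norm3 q
    rw [ht, conjIn_zp]
  rw [e, norm3, norm3, hy, hy] at h1
  refine zin_ne_one D.hS ?_
  have hcc : zin D.hS * zin D.hS = 1 := zin_sq D.hS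
  generalize zin D.hS = c at h1 hc hcc ⊢
  generalize conjIn Y.y q = a, conjIn Y.y (conjIn Y.y q) = b at h1
  have h3 : q * a * b * (c * c) * c = q * a * b := by
    conv_rhs => rw [← h1]
    calc q * a * b * (c * c) * c = q * a * (b * c) * (c * c) := by group
      _ = q * a * (c * b) * (c * c) := by rw [← hc b]
      _ = q * (a * c) * (b * c) * c := by group
      _ = q * (c * a) * (b * c) * c := by rw [← hc a]
      _ = q * c * a * (b * c) * c := by group
      _ = q * c * a * (c * (b * c)) := by rw [← hc (b * c)]; group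
      _ = q * c * (a * c) * (b * c) := by group
  rw [hcc, mul_one] at h3
  exact mul_eq_left.1 h3

theorem commute_of_fix {n : Cz z} (hn : Commute n Y.y) {q : Q}
    (hst : act (QuotientGroup.mk n : Cz z ⧸ Q) (vec q) = vec q) : Commute n (q : Cz z) := by
  have h := congrArg (fun a : Q => (a : Cz z)) (Y.fix_vec hn hst)
  simp only [conjIn_coe] at h
  exact mul_inv_eq_iff_eq_mul.1 h

theorem fix_cases {n : Cz z} (hn : Commute n Y.y) (h : (QuotientGroup.mk n : Cz z ⧸ Q) = 1) :
    n = 1 ∨ (n : G) = z := by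
  have hq : n ∈ Q := (QuotientGroup.eq_one_iff n).1 h
  rcases (mem_center_cases D.hS).1 (Y.center_of_fix (a := ⟨n, hq⟩) hn.symm) with e | e
  · exact Or.inl (congrArg Subtype.val e :)
  · exact Or.inr (congrArg toG e :)

variable (C : Coords D)

/-- The conjugate of `z` over a vector of weight four. -/
theorem exists_point {g : G} {x : Q} (hgx : g * z * g⁻¹ = toG x) (hx : x ∉ Subgroup.center Q)
    (hnorm : Y.norm3 x = 1) {w : SplitGeom.Vec} (hw : (suppW w).card = 4) :
    ∃ (g' : G) (x' : Q), g' * z * g'⁻¹ = toG x' ∧ x' ∉ Subgroup.center Q ∧ Y.norm3 x' = 1 ∧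
      C.F.coord (vec x') = w := by
  obtain ⟨hB, -⟩ := image_main D hgx hx C
  obtain ⟨k, hk⟩ := (C.orbB (vec x) (C.F.coord.symm w) hB).2 (Or.inl (by rw [AddEquiv.apply_symm_apply]; exact hw))
  obtain ⟨n, hn, hny⟩ := Y.exists_lift k.2
  refine ⟨(n : G) * g, conjIn n x, ?_, fun h => hx ?_, ?_, ?_⟩
  · show (n : G) * g * z * ((n : G) * g)⁻¹ = _
    rw [show toG (conjIn n x) = (n : G) * toG x * (n : G)⁻¹ from congrArg Subtype.val (conjIn_coe n x), ← hgx]
    group
  · have h' := (vec_eq_zero D.hS).2 h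
    rw [← actC_vec] at h'
    exact (vec_eq_zero D.hS).1 ((actC n).injective (h'.trans (map_zero _).symm))
  · have hcomm : ∀ w, conjIn n (conjIn Y.y w) = conjIn Y.y (conjIn n w) := fun w => by
      rw [← conjIn_mul (Q := Q), hny.eq, conjIn_mul]
    rw [norm3, ← hcomm, ← hcomm, ← map_mul, ← map_mul]
    rw [show x * conjIn Y.y x * conjIn Y.y (conjIn Y.y x) = 1 from hnorm, map_one]
  · rw [← actC_vec, ← act_mk D.hS, hn, show act k.1 (vec x) = C.F.coord.symm w from hk, AddEquiv.apply_symm_apply]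

/-- The lifts of elements moving a line are commuting involutions. -/
theorem line_lifts {g : G} {x : Q} (hgx : g * z * g⁻¹ = toG x) (hx : x ∉ Subgroup.center Q)
    (hnorm : Y.norm3 x = 1) {w : SplitGeom.Vec} (hw : C.F.coord (vec x) = w) {n n' : Cz z} (hn : Commute n Y.y)
    (hn' : Commute n' Y.y) (hf : C.cact (QuotientGroup.mk n) w = w) (hf' : C.cact (QuotientGroup.mk n') w = w)
    (hm : RootGeom.MovesLine (C.cact (QuotientGroup.mk n)) w)
    (hm' : RootGeom.MovesLine (C.cact (QuotientGroup.mk n')) w) : n * n = 1 ∧ n * n' = n' * n := by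
  obtain ⟨C', hones', hc'⟩ := D.exists_coords_at hgx hx
  obtain ⟨hxz, -⟩ := toG_x_ne D hx
  have hmem : ∀ {n : Cz z}, Commute n Y.y → C.cact (QuotientGroup.mk n) w = w →
      RootGeom.MovesLine (C.cact (QuotientGroup.mk n)) w → (n : G) ∈ conjQ Q g ∧ (QuotientGroup.mk n : Cz z ⧸ Q) ∈ EL D g := by
    intro n hn hf hm
    have hst : (QuotientGroup.mk n : Cz z ⧸ Q) ∈ C'.stab (vec x) := by
      rw [← hw, C.cact_coord] at hf
      exact C.F.coord.injective hf
    have hE := C'.mem_EL_of_moves hgx hx hones' hc' ⟨hst, Y.mk_mem hn⟩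
      (hones' ▸ C.moves_transfer C' (hw.symm ▸ hm))
    exact ⟨Y.lift_mem hgx hx hnorm hn hE.1, hE⟩
  obtain ⟨hq, hE⟩ := hmem hn hf hm
  obtain ⟨hq', hE'⟩ := hmem hn' hf' hm'
  obtain ⟨-, hx1⟩ := toG_x_ne D hx
  constructor
  · have h1 : (QuotientGroup.mk (n * n) : Cz z ⧸ Q) = 1 := by
      rw [QuotientGroup.mk_mul, ← pow_two]
      exact (eImage_elementary D hgx hx).2 _ hE.1
    rcases Y.fix_cases (hn.mul_left hn) h1 with e | e
    · exact e
    · rcases sq_conjQ D hgx hq with h | h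
      · exact Subtype.ext h
      · exact absurd (h.symm.trans e) hxz
  · have h1 : (QuotientGroup.mk (n * n' * n⁻¹ * n'⁻¹) : Cz z ⧸ Q) = 1 := by
      have hab : (QuotientGroup.mk n : Cz z ⧸ Q) * QuotientGroup.mk n' = QuotientGroup.mk n' * QuotientGroup.mk n :=
        congrArg Subtype.val ((eImage_elementary D hgx hx).1.is_comm.comm ⟨_, hE.1⟩ ⟨_, hE'.1⟩)
      rw [QuotientGroup.mk_mul, QuotientGroup.mk_mul, QuotientGroup.mk_mul, hab, QuotientGroup.mk_inv,
        QuotientGroup.mk_inv]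
      group
    have hcy : Commute (n * n' * n⁻¹ * n'⁻¹) Y.y :=
      ((hn.mul_left hn').mul_left hn.inv_left).mul_left hn'.inv_left
    rcases Y.fix_cases hcy h1 with e | e
    · rwa [mul_inv_eq_one, mul_inv_eq_iff_eq_mul] at e
    · rcases comm_conjQ D hgx hq hq' with h | h
      · exact Subtype.ext (commutatorElement_eq_one_iff_mul_comm.1 h)
      · refine absurd (h.symm.trans ?_) hxz
        rw [commutatorElement_def]; exact e

/-- An elementary abelian subgroup of order `2^11`. -/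
theorem exists_elem {g : G} {x : Q} (hgx : g * z * g⁻¹ = toG x) (hx : x ∉ Subgroup.center Q)
    (hnorm : Y.norm3 x = 1) (hones : C.F.coord (vec x) = SplitGeom.ones) (hc : C.c ≠ 0) :
    ∃ A : Subgroup (Cz z), (∀ a ∈ A, ∀ b ∈ A, a * b = b * a) ∧ (∀ a ∈ A, a ^ 2 = 1) ∧ Nat.card A = 2048 := by
  classical
  let πu : alternatingGroup (Fin 6) := ⟨RootGeom.su, RootGeom.swap_swap_mem (by decide) (by decide)⟩
  let πv : alternatingGroup (Fin 6) := ⟨RootGeom.sv, RootGeom.swap_swap_mem (by decide) (by decide)⟩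
  set lu := (C.F.permHom πu).1 with hlu
  set lv := (C.F.permHom πv).1 with hlv
  have hcu : ∀ v, C.cact lu v = RootGeom.pm RootGeom.su v := fun v => by
    rw [hlu, show πu = πu⁻¹ from Subtype.ext (by decide +kernel), C.cact_perm_inv]
  have hcv : ∀ v, C.cact lv v = RootGeom.pm RootGeom.sv v := fun v => by
    rw [hlv, show πv = πv⁻¹ from Subtype.ext (by decide +kernel), C.cact_perm_inv]
  obtain ⟨la, ha, -, hca⟩ := C.root_exists hgx hx hones hc (show (0 : Fin 6) < 1 by decide)
  obtain ⟨lb, hb, -, hcb⟩ := C.root_exists hgx hx hones hc (show (2 : Fin 6) < 3 by decide)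
  obtain ⟨lc, hc', -, hcc⟩ := C.root_exists hgx hx hones hc (show (4 : Fin 6) < 5 by decide)
  -- membership
  have hpmW : ∀ σ : Equiv.Perm (Fin 6), (∀ i, σ i = i ∨ σ i = RootGeom.matching 0 i) →
      ∀ v ∈ WM 0, RootGeom.pm σ v = v := fun σ h v hv => funext fun i => by
    rcases h i with e | e <;> simp only [RootGeom.pm, e]
    exact hv i
  have hu : lu ∈ C.CS x 0 := ⟨⟨C.F.permHom_fix hones _, (C.F.permHom _).2⟩,
    fun v hv => by rw [hcu, hpmW _ block_facts.1 v hv]⟩
  have hv : lv ∈ C.CS x 0 := ⟨⟨C.F.permHom_fix hones _, (C.F.permHom _).2⟩,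
    fun v hv => by rw [hcv, hpmW _ block_facts.2.1 v hv]⟩
  have hroot : ∀ {l : Cz z ⧸ Q}, l ∈ EL D g → ∀ {p q : Fin 6}, p ≠ q → RootGeom.matching 0 p = q →
      (∀ v, C.cact l v = RootGeom.root C.c p q v) → l ∈ C.CS x 0 := fun {l} hl {p q} hne hm hr =>
    ⟨⟨eImage_le_stab D hgx C hl.1, hl.2⟩, fun v hv => by
      rw [hr]; exact (RootGeom.root_fix_iff hne v).2 ⟨sumW_WM hv, by rw [← hm]; exact (hv p).symm⟩⟩
  have haS := hroot ha (by decide) (by decide) hca
  have hbS := hroot hb (by decide) (by decide) hcb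
  have hcS := hroot hc' (by decide) (by decide) hcc
  obtain ⟨nu, hnu, hyu⟩ := Y.exists_lift hu.1.2
  obtain ⟨nv, hnv, hyv⟩ := Y.exists_lift hv.1.2
  obtain ⟨na, hna, hya⟩ := Y.exists_lift haS.1.2
  obtain ⟨nb, hnb, hyb⟩ := Y.exists_lift hbS.1.2
  obtain ⟨nc, hnc, hyc⟩ := Y.exists_lift hcS.1.2
  -- pairs in a common conjugate
  have hpair : ∀ (w : SplitGeom.Vec), (suppW w).card = 4 → w ∈ WM 0 → ∀ (n n' : Cz z), Commute n Y.y →
      Commute n' Y.y → (QuotientGroup.mk n : Cz z ⧸ Q) ∈ C.CS x 0 → (QuotientGroup.mk n' : Cz z ⧸ Q) ∈ C.CS x 0 →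
      ∀ (f f' : SplitGeom.Vec → SplitGeom.Vec), (∀ v, C.cact (QuotientGroup.mk n) v = f v) →
      (∀ v, C.cact (QuotientGroup.mk n') v = f' v) → RootGeom.MovesLine f w → RootGeom.MovesLine f' w →
      n * n = 1 ∧ n' * n' = 1 ∧ Commute n n' := by
    intro w hw hwW n n' hn hn' hl hl' f f' hf hf' hm hm'
    obtain ⟨g', x', hgx', hx', hnorm', hco⟩ := Y.exists_point C hgx hx hnorm hw
    have h1 : RootGeom.MovesLine (C.cact (QuotientGroup.mk n)) w := fun v a b => by rw [hf]; exact hm v a b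
    have h2 : RootGeom.MovesLine (C.cact (QuotientGroup.mk n')) w := fun v a b => by rw [hf']; exact hm' v a b
    obtain ⟨e1, e2⟩ := Y.line_lifts C hgx' hx' hnorm' hco hn hn' (hl.2 w hwW) (hl'.2 w hwW) h1 h2
    obtain ⟨e3, -⟩ := Y.line_lifts C hgx' hx' hnorm' hco hn' hn (hl'.2 w hwW) (hl.2 w hwW) h2 h1
    exact ⟨e1, e3, e2⟩
  obtain ⟨⟨m1, m1'⟩, ⟨m2, m2'⟩, ⟨m3, m3'⟩, ⟨m4, m4'⟩, ⟨m5, m5'⟩⟩ := RootGeom.lines C.c hc
  obtain ⟨w1, w2, w3, w4, w5, v1, v2, v3, v4, v5⟩ : ((suppW ![((1, 0) : W), (1, 0), (1, 0), (1, 0), 0, 0]).card = 4 ∧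
      (suppW ![((1, 0) : W), (1, 0), 0, 0, (1, 0), (1, 0)]).card = 4 ∧
      (suppW ![(0 : W), 0, (1, 0), (1, 0), (1, 0), (1, 0)]).card = 4 ∧
      (suppW ![rk C.c (1, 0), rk C.c (1, 0), ((1, 0) : W), (1, 0), 0, 0]).card = 4 ∧
      (suppW ![rk C.c (1, 0), rk C.c (1, 0), (0 : W), 0, (1, 0), (1, 0)]).card = 4 ∧
      ![((1, 0) : W), (1, 0), (1, 0), (1, 0), 0, 0] ∈ WM 0 ∧
      ![((1, 0) : W), (1, 0), 0, 0, (1, 0), (1, 0)] ∈ WM 0 ∧
      ![(0 : W), 0, (1, 0), (1, 0), (1, 0), (1, 0)] ∈ WM 0 ∧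
      ![rk C.c (1, 0), rk C.c (1, 0), ((1, 0) : W), (1, 0), 0, 0] ∈ WM 0 ∧
      ![rk C.c (1, 0), rk C.c (1, 0), (0 : W), 0, (1, 0), (1, 0)] ∈ WM 0) := by
    simp only [mem_WM]
    generalize C.c = c
    revert c
    decide +kernel
  have cu : ∀ v, C.cact (QuotientGroup.mk nu) v = RootGeom.pm RootGeom.su v := fun v => by rw [hnu, hcu]
  have cv : ∀ v, C.cact (QuotientGroup.mk nv) v = RootGeom.pm RootGeom.sv v := fun v => by rw [hnv, hcv]
  have ca : ∀ v, C.cact (QuotientGroup.mk na) v = RootGeom.root C.c 0 1 v := fun v => by rw [hna, hca]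
  have cb : ∀ v, C.cact (QuotientGroup.mk nb) v = RootGeom.root C.c 2 3 v := fun v => by rw [hnb, hcb]
  have cc : ∀ v, C.cact (QuotientGroup.mk nc) v = RootGeom.root C.c 4 5 v := fun v => by rw [hnc, hcc]
  have Su : (QuotientGroup.mk nu : Cz z ⧸ Q) ∈ C.CS x 0 := hnu ▸ hu
  have Sv : (QuotientGroup.mk nv : Cz z ⧸ Q) ∈ C.CS x 0 := hnv ▸ hv
  have Sa : (QuotientGroup.mk na : Cz z ⧸ Q) ∈ C.CS x 0 := hna ▸ haS
  have Sb : (QuotientGroup.mk nb : Cz z ⧸ Q) ∈ C.CS x 0 := hnb ▸ hbS
  have Sc : (QuotientGroup.mk nc : Cz z ⧸ Q) ∈ C.CS x 0 := hnc ▸ hcS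
  have Smul : ∀ {n n' : Cz z}, (QuotientGroup.mk n : Cz z ⧸ Q) ∈ C.CS x 0 → (QuotientGroup.mk n' : Cz z ⧸ Q) ∈ C.CS x 0 →
      (QuotientGroup.mk (n * n') : Cz z ⧸ Q) ∈ C.CS x 0 := fun {n n'} h h' => by
    rw [QuotientGroup.mk_mul]; exact mul_mem h h'
  have cmul : ∀ (n n' : Cz z) v, C.cact (QuotientGroup.mk (n * n')) v =
      C.cact (QuotientGroup.mk n) (C.cact (QuotientGroup.mk n') v) := fun n n' v => by
    rw [QuotientGroup.mk_mul, C.cact_mul]
  obtain ⟨huu, -, huc⟩ := hpair _ w1 v1 nu nc hyu hyc Su Sc _ _ cu cc m1 m1'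
  obtain ⟨hvv, hbb, hvb⟩ := hpair _ w2 v2 nv nb hyv hyb Sv Sb _ _ cv cb m2 m2'
  obtain ⟨huvuv, haa, huva⟩ := hpair _ w3 v3 (nu * nv) na (hyu.mul_left hyv) hya (Smul Su Sv) Sa _ _
    (fun v => by
      rw [cmul, cu, cv]
      funext i
      simp only [RootGeom.pm]
      rw [← Equiv.Perm.mul_apply, block_facts.2.2])
    ca m3 m3'
  obtain ⟨-, -, hubv⟩ := hpair _ w4 v4 nu (nb * nv) hyu (hyb.mul_left hyv) Su (Smul Sb Sv) _ _ cu
    (fun v => by rw [cmul, cv, cb]) m4 m4'
  obtain ⟨-, -, hvcu⟩ := hpair _ w5 v5 nv (nc * nu) hyv (hyc.mul_left hyu) Sv (Smul Sc Su) _ _ cv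
    (fun v => by rw [cmul, cu, cc]) m5 m5'
  -- commutation
  have iu : nu⁻¹ = nu := inv_eq_of_mul_eq_one_right huu
  have iv : nv⁻¹ = nv := inv_eq_of_mul_eq_one_right hvv
  have huv : Commute nu nv := by
    show nu * nv = nv * nu
    calc nu * nv = (nu * nv)⁻¹ := (inv_eq_of_mul_eq_one_right huvuv).symm
      _ = nv * nu := by rw [mul_inv_rev, iu, iv]
  have hub : Commute nu nb := by simpa using hubv.mul_right huv.inv_right
  have hvc : Commute nv nc := by simpa using hvcu.mul_right huv.symm.inv_right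
  -- the relation of the three roots
  have habc : la * lb * lc = 1 := by
    by_contra hne
    obtain ⟨p, q, hpq, hr⟩ := C.EL_root hgx hx hones hc (mul_mem (mul_mem ha hb) hc') hne
    obtain ⟨i, j, hsum, hmove⟩ := root_fix_all C.c p q hpq
    refine hmove ?_
    rw [← hr, C.cact_mul, C.cact_mul, hca, hcb, hcc]
    generalize RootGeom.pairV i j (1, 0) = v at hsum ⊢
    have hr0 : ∀ u : SplitGeom.Vec, RootGeom.sumW u = 0 → ∀ p q : Fin 6,
        RootGeom.root C.c p q u = u + RootGeom.mult (rk (-C.c) (u p + u q)) := fun u hu p q => by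
      funext t
      simp [RootGeom.root, RootGeom.mult, hu, (by decide : ∀ k : ZMod 3, rk k 0 = 0)]
    have hm : ∀ k (p q : Fin 6), p ≠ q → RootGeom.root C.c p q (RootGeom.mult k) = RootGeom.mult k := fun k p q h =>
      (RootGeom.root_fix_iff h _).2 ⟨by simp [RootGeom.sumW, RootGeom.mult, SplitGeom.add_self_W], rfl⟩
    rw [hr0 v hsum, RootGeom.root_add, hm _ 2 3 (by decide), hr0 v hsum, RootGeom.root_add, RootGeom.root_add,
      hm _ 0 1 (by decide), hm _ 0 1 (by decide), hr0 v hsum]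
    funext t
    simp only [Pi.add_apply, RootGeom.mult]
    rw [add_assoc, add_assoc, ← add_assoc (rk (-C.c) (v 0 + v 1)), ← RootGeom.rk_map_add, ← RootGeom.rk_map_add,
      show v 0 + v 1 + (v 2 + v 3) + (v 4 + v 5) = RootGeom.sumW v by simp only [RootGeom.sumW]; abel, hsum,
      (by decide : ∀ k : ZMod 3, rk k 0 = 0) _, add_zero]
  have hlab : Commute lb lc := congrArg Subtype.val
    ((eImage_elementary D hgx hx).1.is_comm.comm ⟨lb, hb.1⟩ ⟨lc, hc'.1⟩)
  have hla : la = lc * lb := by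
    have h1 : la = (lb * lc)⁻¹ := eq_inv_of_mul_eq_one_left (by rw [← mul_assoc, habc])
    rw [h1, mul_inv_rev, inv_eq_of_mul_eq_one_right (C.EL_sq hgx hx hones hc hb),
      inv_eq_of_mul_eq_one_right (C.EL_sq hgx hx hones hc hc')]
  obtain ⟨d, hd, hdc⟩ : ∃ d, na = nc * nb * d ∧ ∀ n, Commute d n := by
    refine ⟨(nc * nb)⁻¹ * na, (mul_inv_cancel_left _ _).symm,
      toG_mem_central (Y.fix_cases ((hyc.mul_left hyb).inv_left.mul_left hya) ?_)⟩
    rw [QuotientGroup.mk_mul, QuotientGroup.mk_inv, QuotientGroup.mk_mul, hna, hnb, hnc, hla, inv_mul_cancel]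
  have hua : Commute nu na := hd ▸ (huc.mul_right hub).mul_right (hdc nu).symm
  have hva : Commute nv na := hd ▸ (hvc.mul_right hvb).mul_right (hdc nv).symm
  have hab : Commute na nb := by
    have hbc : Commute nb nc := by
      obtain ⟨-, hx1⟩ := toG_x_ne D hx
      obtain ⟨hxz, -⟩ := toG_x_ne D hx
      have hmq : ∀ {n : Cz z} {l : Cz z ⧸ Q}, Commute n Y.y → (QuotientGroup.mk n : Cz z ⧸ Q) = l → l ∈ EL D g →
          (n : G) ∈ conjQ Q g := fun {n l} hn e hl => Y.lift_mem hgx hx hnorm hn (e ▸ hl.1)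
      have h1 : (QuotientGroup.mk (nb * nc * nb⁻¹ * nc⁻¹) : Cz z ⧸ Q) = 1 := by
        rw [QuotientGroup.mk_mul, QuotientGroup.mk_mul, QuotientGroup.mk_mul, QuotientGroup.mk_inv,
          QuotientGroup.mk_inv, hnb, hnc, hlab.eq]
        group
      rcases Y.fix_cases (((hyb.mul_left hyc).mul_left hyb.inv_left).mul_left hyc.inv_left) h1 with e | e
      · rw [mul_inv_eq_one, mul_inv_eq_iff_eq_mul] at e
        exact e
      · rcases comm_conjQ D hgx (hmq hyb hnb hb) (hmq hyc hnc hc') with h | h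
        · exact Subtype.ext (commutatorElement_eq_one_iff_mul_comm.1 h)
        · refine absurd (h.symm.trans ?_) hxz
          rw [commutatorElement_def]; exact e
    exact hd ▸ ((hbc.symm.mul_left (Commute.refl nb)).mul_left (hdc nb))
  -- the subgroup
  let S : Set (Cz z) := (fun q : Q => (q : Cz z)) '' (C.PW 0 : Set Q) ∪ {nu, nv, na, nb}
  have hPcomm : ∀ p ∈ C.PW 0, ∀ q ∈ C.PW 0, Commute (p : Cz z) (q : Cz z) := by
    intro p hp q hq
    have h0 : bf D.hS (vec p) (vec q) = 0 := by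
      have hz : ∀ v ∈ WM 0, SplitGeom.par v = 0 := fun v hv => by
        have e1 : v 1 = v 0 := hv 0
        have e3 : v 3 = v 2 := hv 2
        have e5 : v 5 = v 4 := hv 4
        simp only [SplitGeom.par, e1, e3, e5]
        linear_combination (by decide : ∀ a b c : ZMod 2, a + a + b + b + c + c = 0) (SplitGeom.nz (v 0))
          (SplitGeom.nz (v 2)) (SplitGeom.nz (v 4))
      rw [← C.bil_coord, SplitGeom.bil, hz _ ((WM 0).add_mem hp hq), hz _ hp, hz _ hq]
      rfl
    exact congrArg (fun a : Q => (a : Cz z)) ((bf_eq_zero_iff D.hS p q).1 h0).eq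
  have hPsq : ∀ p ∈ C.PW 0, (p : Cz z) * p = 1 := by
    intro p hp
    have h0 : qf D.hS (vec p) = 0 := by
      show D.setting.q (vec p) = 0
      rw [C.F.q_coord, ← SplitGeom.par_eq]
      have e1 : C.F.coord (vec p) 1 = C.F.coord (vec p) 0 := hp 0
      have e3 : C.F.coord (vec p) 3 = C.F.coord (vec p) 2 := hp 2
      have e5 : C.F.coord (vec p) 5 = C.F.coord (vec p) 4 := hp 4
      simp only [SplitGeom.par, e1, e3, e5]
      exact (by decide : ∀ a b c : ZMod 2, a + a + b + b + c + c = 0) _ _ _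
    exact congrArg (fun a : Q => (a : Cz z)) ((qf_eq_zero_iff D.hS p).1 h0)
  have hnP : ∀ n : Cz z, Commute n Y.y → (QuotientGroup.mk n : Cz z ⧸ Q) ∈ C.CS x 0 →
      ∀ p ∈ C.PW 0, Commute n (p : Cz z) := fun n hn hl p hp =>
    Y.commute_of_fix hn (C.F.coord.injective (by rw [← C.cact_coord]; exact hl.2 _ hp))
  have hScomm : ∀ a ∈ S, ∀ b ∈ S, a * b = b * a := by
    have hg4 : ∀ a ∈ ({nu, nv, na, nb} : Set (Cz z)), Commute a Y.y ∧ (QuotientGroup.mk a : Cz z ⧸ Q) ∈ C.CS x 0 := by
      rintro a (rfl | rfl | rfl | rfl)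
      exacts [⟨hyu, Su⟩, ⟨hyv, Sv⟩, ⟨hya, Sa⟩, ⟨hyb, Sb⟩]
    rintro a (⟨p, hp, rfl⟩ | ha) b (⟨q, hq, rfl⟩ | hb)
    · exact (hPcomm p hp q hq).eq
    · exact (hnP b (hg4 b hb).1 (hg4 b hb).2 p hp).eq.symm
    · exact (hnP a (hg4 a ha).1 (hg4 a ha).2 q hq).eq
    · rcases ha with rfl | rfl | rfl | rfl <;> rcases hb with rfl | rfl | rfl | rfl <;>
        first
          | rfl
          | exact huv.eq | exact huv.eq.symm | exact hua.eq | exact hua.eq.symm | exact hub.eq
          | exact hub.eq.symm | exact hva.eq | exact hva.eq.symm | exact hvb.eq | exact hvb.eq.symm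
          | exact hab.eq | exact hab.eq.symm
  have hSsq : ∀ a ∈ S, a ^ 2 = 1 := by
    rintro a (⟨p, hp, rfl⟩ | rfl | rfl | rfl | rfl) <;> rw [pow_two]
    exacts [hPsq p hp, huu, hvv, haa, hbb]
  set A := Subgroup.closure S with hA
  have hAcomm : ∀ a ∈ A, ∀ b ∈ A, a * b = b * a := by
    have h1 : A ≤ Subgroup.centralizer S :=
      (Subgroup.closure_le _).2 fun a ha => Subgroup.mem_centralizer_iff.2 fun b hb => hScomm b hb a ha
    have h2 : A ≤ Subgroup.centralizer (A : Set (Cz z)) := by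
      rw [hA, Subgroup.centralizer_closure]; exact h1
    exact fun a ha b hb => (Subgroup.mem_centralizer_iff.1 (h2 ha) b hb).symm
  have hAsq : ∀ a ∈ A, a ^ 2 = 1 := by
    intro a ha
    induction ha using Subgroup.closure_induction with
    | mem a ha => exact hSsq a ha
    | one => exact one_pow 2
    | mul a b ha hb iha ihb => rw [Commute.mul_pow (hAcomm a ha b hb), iha, ihb, one_mul]
    | inv a _ iha => rw [inv_pow, iha, inv_one]
  have hAst : ∀ a ∈ A, (QuotientGroup.mk a : Cz z ⧸ Q) ∈ C.stab (vec x) := by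
    have h : A ≤ (C.stab (vec x)).comap (QuotientGroup.mk' Q) := by
      rw [hA, Subgroup.closure_le]
      rintro a (⟨p, -, rfl⟩ | rfl | rfl | rfl | rfl)
      · show (QuotientGroup.mk (p : Cz z) : Cz z ⧸ Q) ∈ C.stab (vec x)
        rw [(QuotientGroup.eq_one_iff _).2 p.2]; exact one_mem _
      exacts [Su.1.1, Sv.1.1, Sa.1.1, Sb.1.1]
    exact fun a ha => h ha
  refine ⟨A, hAcomm, hAsq, le_antisymm (C.elem_max hgx hx hones hc A hAcomm hAsq hAst).1 ?_⟩
  -- the order
  have hQ128 : 128 ≤ Nat.card (A.comap Q.subtype) := by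
    have h1 : Nat.card (C.PW 0) = 128 := by
      let f : C.PW 0 →* Multiplicative SplitGeom.Vec :=
        MonoidHom.mk' (fun q => Multiplicative.ofAdd (C.F.coord (vec q.1))) fun a b => by
          rw [← ofAdd_add, ← map_add, ← vec_mul]; rfl
      have h := f.ker.card_mul_index
      rw [Subgroup.index_ker] at h
      have hk : Nat.card f.ker = 2 := by
        have hP : ∀ a : Subgroup.center Q, a.1 ∈ C.PW 0 := fun a => by
          show C.F.coord (vec a.1) ∈ WM 0
          rw [(vec_eq_zero D.hS).2 a.2, map_zero]; exact (WM 0).zero_mem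
        have hK : ∀ a : Subgroup.center Q, (⟨a.1, hP a⟩ : C.PW 0) ∈ f.ker := fun a => by
          refine MonoidHom.mem_ker.2 ?_
          show Multiplicative.ofAdd (C.F.coord (vec a.1)) = 1
          rw [(vec_eq_zero D.hS).2 a.2, map_zero]; rfl
        have hC : ∀ a : f.ker, a.1.1 ∈ Subgroup.center Q := fun a => by
          refine (vec_eq_zero D.hS).1 (C.F.coord.injective ?_)
          rw [map_zero]; exact Multiplicative.ofAdd.injective (MonoidHom.mem_ker.1 a.2)
        exact (Nat.card_congr (β := Subgroup.center Q) ⟨fun a => ⟨a.1.1, hC a⟩,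
          fun a => ⟨⟨a.1, hP a⟩, hK a⟩, fun _ => rfl, fun _ => rfl⟩).trans D.hS.2.2.1.2
      let e : W × W × W → SplitGeom.Vec := fun t => ![t.1, t.1, t.2.1, t.2.1, t.2.2, t.2.2]
      have hr : Nat.card f.range = 64 := by
        have hb : ∀ t, e t ∈ WM 0 := fun t i => by fin_cases i <;> rfl
        have hmem : ∀ t, Multiplicative.ofAdd (e t) ∈ f.range := fun t => by
          obtain ⟨q, hq⟩ := vec_surjective (C.F.coord.symm (e t))
          exact ⟨⟨q, show C.F.coord (vec q) ∈ WM 0 by rw [hq, AddEquiv.apply_symm_apply]; exact hb t⟩, by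
            show Multiplicative.ofAdd (C.F.coord (vec q)) = _
            rw [hq, AddEquiv.apply_symm_apply]⟩
        have : Nat.card (W × W × W) = Nat.card f.range := by
          refine Nat.card_congr (Equiv.ofBijective (fun t => (⟨Multiplicative.ofAdd (e t), hmem t⟩ : f.range)) ⟨?_, ?_⟩)
          · intro t t' h
            have h' : e t = e t' := Multiplicative.ofAdd.injective (congrArg Subtype.val h :)
            exact Prod.ext (congrFun h' 0) (Prod.ext (congrFun h' 2) (congrFun h' 4))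
          · rintro ⟨u, q, rfl⟩
            refine ⟨(C.F.coord (vec q.1) 0, C.F.coord (vec q.1) 2, C.F.coord (vec q.1) 4), Subtype.ext ?_⟩
            show Multiplicative.ofAdd (e _) = Multiplicative.ofAdd (C.F.coord (vec q.1))
            congr 1
            funext i
            fin_cases i
            exacts [rfl, (q.2 0).symm, rfl, (q.2 2).symm, rfl, (q.2 4).symm]
        rw [← this]; simp
      rw [← h, hk, hr]
    refine h1.ge.trans (Subgroup.card_le_of_le fun q hq => Subgroup.subset_closure (Or.inl ⟨q, hq, rfl⟩))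
  -- sixteen classes modulo `Q`
  have hq16 : 16 ≤ Nat.card (A.map (QuotientGroup.mk' Q)) := by
    let pe : Bool × Bool → Cz z ⧸ Q := fun i =>
      (if i.1 then la else 1) * (if i.2 then lb else 1)
    let pp : Bool × Bool → alternatingGroup (Fin 6) := fun i =>
      (if i.1 then πu else 1) * (if i.2 then πv else 1)
    have hpp : Function.Injective pp := by decide +kernel
    have hpe : ∀ i, pe i ∈ EL D g := fun i =>
      mul_mem (by split_ifs; exacts [ha, one_mem _]) (by split_ifs; exacts [hb, one_mem _])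
    have hpeinj : Function.Injective pe := by
      have key : ∀ c : ZMod 3, Function.Injective fun i : Bool × Bool =>
          ((if i.1 then RootGeom.root c 0 1 else id) ((if i.2 then RootGeom.root c 2 3 else id)
              (RootGeom.pairV 0 4 (1, 0))),
            (if i.1 then RootGeom.root c 0 1 else id) ((if i.2 then RootGeom.root c 2 3 else id)
              (RootGeom.pairV 2 4 (1, 0)))) := by decide +kernel
      intro i j h
      refine key C.c ?_
      have hev : ∀ (i : Bool × Bool) v, C.cact (pe i) v =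
          (if i.1 then RootGeom.root C.c 0 1 else id) ((if i.2 then RootGeom.root C.c 2 3 else id) v) := fun i v => by
        rcases i with ⟨_ | _, _ | _⟩ <;> simp [pe, C.cact_mul, C.cact_one, hca, hcb]
      simp only [← hev, h]
    let f : (Bool × Bool) × (Bool × Bool) → A.map (QuotientGroup.mk' Q) := fun i =>
      ⟨pe i.1 * (C.F.permHom (pp i.2)).1, mul_mem
        (mul_mem (by split_ifs; exacts [⟨na, Subgroup.subset_closure (Or.inr (by simp)), hna⟩, one_mem _])
          (by split_ifs; exacts [⟨nb, Subgroup.subset_closure (Or.inr (by simp)), hnb⟩, one_mem _]))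
        (by
          rw [map_mul, Subgroup.coe_mul]
          refine mul_mem ?_ ?_ <;> split_ifs
          · exact ⟨nu, Subgroup.subset_closure (Or.inr (by simp)), hnu⟩
          · rw [map_one]; exact one_mem _
          · exact ⟨nv, Subgroup.subset_closure (Or.inr (by simp)), hnv⟩
          · rw [map_one]; exact one_mem _)⟩
    have hinj : Function.Injective f := by
      rintro ⟨i, k⟩ ⟨j, l⟩ h
      have h' : pe i * (C.F.permHom (pp k)).1 = pe j * (C.F.permHom (pp l)).1 := congrArg Subtype.val h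
      have hmem : (C.F.permHom (pp k * (pp l)⁻¹)).1 ∈ EL D g := by
        have e : (C.F.permHom (pp k * (pp l)⁻¹)).1 = (pe i)⁻¹ * pe j := by
          rw [map_mul, map_inv, Subgroup.coe_mul, Subgroup.coe_inv, eq_inv_mul_iff_mul_eq, ← mul_assoc, h',
            mul_inv_cancel_right]
        rw [e]; exact mul_mem (inv_mem (hpe i)) (hpe j)
      have hk := hpp (mul_inv_eq_one.1 (C.permHom_not_EL hgx hx hones hc hmem))
      subst hk
      exact Prod.ext (hpeinj (mul_right_cancel h')) rfl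
    simpa [Nat.card_eq_fintype_card] using Nat.card_le_card_of_injective f hinj
  have hcard : Nat.card A = Nat.card (A.comap Q.subtype) * Nat.card (A.map (QuotientGroup.mk' Q)) := by
    let φ := (QuotientGroup.mk' Q).comp A.subtype
    have h1 := φ.ker.card_mul_index
    rw [Subgroup.index_ker, MonoidHom.range_comp, Subgroup.range_subtype] at h1
    rw [← h1]
    congr 1
    exact Nat.card_congr ⟨fun a => ⟨⟨a.1.1, (QuotientGroup.eq_one_iff _).1 (MonoidHom.mem_ker.1 a.2)⟩, a.1.2⟩,
      fun a => ⟨⟨a.1.1, a.2⟩, MonoidHom.mem_ker.2 ((QuotientGroup.eq_one_iff _).2 a.1.2)⟩, fun _ => rfl,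
      fun _ => rfl⟩
  rw [hcard]
  exact Nat.mul_le_mul hQ128 hq16

end Gen

end CfsgLib.LargeFischer
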