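import Cfsg.Agent.LargeFischer.Scalar

/-!
# Monomial coordinates on the module of `3.U4(3)`
-/

set_option autoImplicit false
set_option linter.unusedSectionVars false
set_option linter.style.haveILetI false
set_option maxRecDepth 100000
set_option maxHeartbeats 800000

namespace CfsgLib.LargeFischer

theorem zmod2_cases : ∀ a : ZMod 2, a = 0 ∨ a = 1 := by decide

theorem suppW_rk : ∀ (k : ZMod 3) (w : W), rk k w = 0 ↔ w = 0 := by decide

theorem exists_rk : ∀ w : W, w ≠ 0 → w = rk (expW w) (1, 0) := by decide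

theorem rk_add : ∀ (a b : ZMod 3) (w : W), rk (a + b) w = rk a (rk b w) := by decide

theorem rk_neg : ∀ (a : ZMod 3) (w : W), rk (-a) (rk a w) = w := by decide

/-- The point of the line through `u` with given coordinates. -/
def emb {V : Type*} [AddCommGroup V] (R : V ≃+ V) (u : V) (w : W) : V :=
  (if w.1 = 0 then 0 else u) + if w.2 = 0 then 0 else R u

namespace Action

variable {U : Type*} [AddCommGroup U] (A : Action U) (u : U)

theorem emb_add (w w' : W) : emb A.R u (w + w') = emb A.R u w + emb A.R u w' := by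
  obtain ⟨a, b⟩ := w
  obtain ⟨a', b'⟩ := w'
  rcases zmod2_cases a with rfl | rfl <;> rcases zmod2_cases b with rfl | rfl <;>
    rcases zmod2_cases a' with rfl | rfl <;> rcases zmod2_cases b' with rfl | rfl <;>
    simp [emb, A.two, show (1 : ZMod 2) + 1 = 0 from rfl] <;> abel_nf <;>
    simp [two_smul, A.two]

theorem emb_rW (w : W) : emb A.R u (rW w) = A.R (emb A.R u w) := by
  obtain ⟨a, b⟩ := w
  rcases zmod2_cases a with rfl | rfl <;> rcases zmod2_cases b with rfl | rfl <;>
    simp [emb, rW, show (1 : ZMod 2) + 1 = 0 from rfl, A.R_sq]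
  rw [add_comm u, ← add_assoc, A.two, zero_add]

theorem emb_rk (k : ZMod 3) (w : W) : emb A.R u (rk k w) = A.rp k (emb A.R u w) := by
  rcases zmod3_cases k with rfl | rfl | rfl
  · rfl
  · exact A.emb_rW u w
  · show emb A.R u (rW (rW w)) = A.R (A.R _)
    rw [A.emb_rW, A.emb_rW]

theorem emb_one : emb A.R u (1, 0) = u := by simp [emb]

theorem isComp_emb {c : D5} {u : U} (hu : A.IsComp c u) (w : W) : A.IsComp c (emb A.R u w) := by
  unfold emb
  refine A.isComp_add ?_ ?_ <;> split_ifs
  exacts [A.isComp_zero c, hu, A.isComp_zero c, A.isComp_R hu]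

theorem emb_eq_zero {u : U} (hu : u ≠ 0) {w : W} (h : emb A.R u w = 0) : w = 0 := by
  by_contra hw
  rw [exists_rk w hw, A.emb_rk, A.emb_one] at h
  refine hu ?_
  calc u = A.rp (-expW w + expW w) u := by rw [neg_add_cancel, A.rp_zero]
    _ = 0 := by rw [A.rp_add, h, A.rp_map_zero]

end Action

variable {L V : Type*} [Group L] [AddCommGroup V] {S : Setting L V}

theorem Setting.b_self (v : V) : S.b v v = 0 := by
  have h := S.q_add v v
  have h0 := S.q_add 0 0
  have hb0 : S.b 0 0 = 0 := by
    have := S.b_add 0 0 0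
    rw [add_zero] at this
    exact left_eq_add.1 this
  rw [add_zero, hb0, add_zero] at h0
  rw [S.two, left_eq_add.1 h0, CharTwo.add_self_eq_zero, zero_add] at h
  exact h.symm

theorem Setting.q_zero (S : Setting L V) : S.q 0 = 0 := by
  have h0 := S.q_add 0 0
  have hb0 : S.b 0 0 = 0 := by
    have := S.b_add 0 0 0
    rw [add_zero] at this
    exact left_eq_add.1 this
  rw [add_zero, hb0, add_zero] at h0
  exact left_eq_add.1 h0

theorem Setting.b_comm (S : Setting L V) (u v : V) : S.b u v = S.b v u := by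
  have h1 := S.q_add u v
  have h2 := S.q_add v u
  rw [add_comm v u, h1] at h2
  linear_combination h2

theorem Setting.b_inv (S : Setting L V) (l : L) (u v : V) : S.b (S.φ l u) (S.φ l v) = S.b u v := by
  have h1 := S.q_add (S.φ l u) (S.φ l v)
  rw [← map_add, S.q_inv, S.q_inv, S.q_inv, S.q_add u v] at h1
  exact (add_left_cancel h1).symm

/-- The group of permutations of the coordinates induced by `L`, with offsets. -/
def Realised (S : Setting L V) (coord : V ≃+ (Fin 6 → W)) (π : Equiv.Perm (Fin 6))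
    (k : Fin 6 → ZMod 3) (l : L) : Prop :=
  ∀ v i, coord (S.φ l v) (π i) = rk (k i) (coord v i)

theorem realised_mul {coord : V ≃+ (Fin 6 → W)} {π π' : Equiv.Perm (Fin 6)}
    {k k' : Fin 6 → ZMod 3} {l l' : L} (h : Realised S coord π k l) (h' : Realised S coord π' k' l') :
    Realised S coord (π * π') (fun i => k (π' i) + k' i) (l * l') := by
  intro v i
  rw [S.φ_mul, Equiv.Perm.mul_apply, h, h', rk_add]

theorem realised_inv {coord : V ≃+ (Fin 6 → W)} {π : Equiv.Perm (Fin 6)}
    {k : Fin 6 → ZMod 3} {l : L} (h : Realised S coord π k l) :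
    Realised S coord π⁻¹ (fun i => -k (π⁻¹ i)) l⁻¹ := by
  intro v i
  have h1 := h (S.φ l⁻¹ v) (π⁻¹ i)
  rw [← S.φ_mul, mul_inv_cancel, S.φ_one, Equiv.Perm.inv_def, Equiv.apply_symm_apply] at h1
  rw [h1, Equiv.Perm.inv_def, rk_neg]

theorem realised_one (coord : V ≃+ (Fin 6 → W)) : Realised S coord 1 0 1 := fun v i => by
  rw [S.φ_one]; rfl

/-- Coordinates exist. -/
theorem Setting.Local.exists_frame (D : S.Local) : Nonempty (Frame S) := by
  classical
  haveI := S.finite_V
  let A := D.single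
  have hRx : ∀ v, A.R v = S.φ S.x v := fun v => rfl
  have hm1 : ∀ c ∈ A.supp, c.2 = 1 := by
    intro c hc
    obtain ⟨u, hu0, hu⟩ := A.mem_supp.1 hc
    have h := hu (0, 1)
    rw [show pair c (0, 1) = c.2 by simp [pair, dot]] at h
    change S.φ (D.d (0, 1)) u = _ at h
    rw [D.d_x, ← hRx] at h
    rcases Action.zmod3_cases c.2 with h' | h' | h' <;> rw [h'] at h
    · exact absurd (A.eq_zero_of_R_fix h) hu0
    · exact h'
    · refine absurd (A.eq_zero_of_R_fix ?_) hu0
      rw [A.rp_two] at h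
      exact (A.R.injective h).symm
  let S1 : Finset V4 := A.supp.image Prod.fst
  have hmem1 : ∀ m, m ∈ S1 ↔ (m, (1 : ZMod 3)) ∈ A.supp := by
    intro m
    rw [Finset.mem_image]
    refine ⟨fun ⟨c, h1, h3⟩ => ?_, fun h => ⟨_, h, rfl⟩⟩
    rwa [← h3, ← hm1 c h1]
  have hS1card : S1.card = A.supp.card := Finset.card_image_of_injOn fun a ha b hb e =>
    Prod.ext e ((hm1 a ha).trans (hm1 b hb).symm)
  have h6 : A.supp.card ≤ 6 := A.supp_card_le (by rw [S.card_V]; norm_num)
  have hfaith : ∀ e : D5, (∀ c ∈ A.supp, pair c e = 0) → e = 0 := fun e he =>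
    D.eq_zero_of_trivial fun v => A.act_trivial he v
  have hne : S1.Nonempty := by
    rw [Finset.image_nonempty, Finset.nonempty_iff_ne_empty]
    intro h0
    have := hfaith (0, 1) fun c hc => by simp [h0] at hc
    exact absurd (congrArg Prod.snd this) (by decide)
  let ψ : Fin 4 → (V ≃+ V) := fun k => S.φ (D.l k)⁻¹
  have hψR : ∀ k v, ψ k (A.R v) = A.R (ψ k v) := fun k v => by
    show S.φ _ (S.φ S.x v) = S.φ S.x (S.φ _ v)
    rw [← S.φ_mul, ← S.φ_mul, Subgroup.mem_center_iff.1 S.x_center]
  have hmap : ∀ k m, (m, (1 : ZMod 3)) ∈ A.supp → (aff D.c k m, (1 : ZMod 3)) ∈ A.supp ∧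
      ∀ u, A.IsComp (m, 1) u → A.IsComp (aff D.c k m, 1) (ψ k u) := fun k m hm =>
    A.mem_supp_of_map (ψ k) (hψR k) (fun p => (tv k p.1, p.2 + dot (D.c k) p.1))
      (fun p u => D.act_inv k p u) hm fun p => by
        rw [← pair_affine]
        simp only [one_mul]
        rfl
  obtain ⟨e, σ, he, hr, hσ, hA6⟩ := exists_hexad D.it0 D.it1 D.it2 D.it12 hne
    (fun k m hm => (hmem1 _).2 (hmap k m ((hmem1 m).1 hm)).1) (hS1card ▸ h6)
    (spans_of_faithful hfaith hne fun c hc => Or.inr (Or.inl
      ⟨hm1 c hc, Finset.mem_image_of_mem _ hc⟩)) D.aff_injective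
  have hcard6 : A.supp.card = 6 := by
    rw [← hS1card, ← Set.ncard_coe_finset, ← hr, ← Nat.card_coe_set_eq,
      Nat.card_range_of_injective he, Nat.card_fin]
  let χ : Fin 6 → D5 := fun i => (e i, 1)
  have hχ : ∀ i, χ i ∈ A.supp := fun i => (hmem1 _).1 (by
    rw [← Finset.mem_coe, ← hr]; exact ⟨i, rfl⟩)
  have hχinj : Function.Injective χ := fun i j h => he (congrArg Prod.fst h)
  have hχsurj : ∀ c ∈ A.supp, ∃ i, χ i = c := fun c hc => by
    have : c.1 ∈ (S1 : Set V4) := Finset.mem_image_of_mem _ hc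
    rw [← hr] at this
    obtain ⟨i, hi⟩ := this
    exact ⟨i, Prod.ext hi (hm1 c hc).symm⟩
  choose u hu0 hu using fun i => A.mem_supp.1 (hχ i)
  -- the coordinates
  let Φ : (Fin 6 → W) →+ V := AddMonoidHom.mk' (fun w => ∑ i, emb A.R (u i) (w i)) fun w w' => by
    simp only [Pi.add_apply, A.emb_add, Finset.sum_add_distrib]
  have hΦ : ∀ w, Φ w = ∑ i, emb A.R (u i) (w i) := fun w => rfl
  have hproj : ∀ w j, A.proj (χ j) (Φ w) = emb A.R (u j) (w j) := by
    intro w j
    have hadd : A.proj (χ j) (Φ w) = ∑ i, A.proj (χ j) (emb A.R (u i) (w i)) := by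
      rw [hΦ]
      refine map_sum (AddMonoidHom.mk' (A.proj (χ j)) fun a b => ?_) _ _
      simp only [Action.proj, map_add, A.rp_map_add, Finset.sum_add_distrib]
    rw [hadd, Finset.sum_eq_single j]
    · rw [A.proj_of_isComp (A.isComp_emb (hu j) _), if_pos rfl]
    · intro i _ hi
      rw [A.proj_of_isComp (A.isComp_emb (hu i) _), if_neg fun h => hi (hχinj h).symm]
    · simp
  have hΦinj : Function.Injective Φ := by
    rw [injective_iff_map_eq_zero]
    intro w hw
    funext j
    refine A.emb_eq_zero (hu0 j) ?_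
    rw [← hproj, hw]
    simp [Action.proj, A.rp_map_zero]
  have hΦbij : Function.Bijective Φ :=
    (Nat.bijective_iff_injective_and_card Φ).2 ⟨hΦinj, by simp [S.card_V]⟩
  let coord : V ≃+ (Fin 6 → W) := (AddEquiv.ofBijective Φ hΦbij).symm
  have hco : ∀ w, coord (Φ w) = w := fun w => (AddEquiv.ofBijective Φ hΦbij).symm_apply_apply w
  have hoc : ∀ v, Φ (coord v) = v := fun v => (AddEquiv.ofBijective Φ hΦbij).apply_symm_apply v
  have hcoord : ∀ v i, emb A.R (u i) (coord v i) = A.proj (χ i) v := fun v i => by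
    rw [← hproj, hoc]
  have hembinj : ∀ i w w', emb A.R (u i) w = emb A.R (u i) w' → w = w' := by
    intro i w w' h
    have h0 : emb A.R (u i) (w + w') = 0 := by rw [A.emb_add, h, A.two]
    have := A.emb_eq_zero (hu0 i) h0
    exact (by decide : ∀ a b : W, a + b = 0 → a = b) _ _ this
  have hprojR : ∀ c v, A.proj c (A.R v) = A.R (A.proj c v) := by
    intro c v
    simp only [Action.proj, map_sum]
    refine Finset.sum_congr rfl fun p _ => ?_
    rw [A.act_R, ← A.rp_one, ← A.rp_one (A.rp _ _), ← A.rp_add, ← A.rp_add, add_comm]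
  have hcx : ∀ v i, coord (S.φ S.x v) i = rW (coord v i) := by
    intro v i
    refine hembinj i _ _ ?_
    rw [hcoord, A.emb_rW, hcoord, ← hprojR]
    rfl
  have hcd : ∀ p v i, coord (S.φ (D.d p) v) i = rk (pair (χ i) p) (coord v i) := by
    intro p v i
    refine hembinj i _ _ ?_
    rw [hcoord, A.emb_rk, hcoord, show S.φ (D.d p) v = A.act p v from rfl, A.proj_act,
      A.isComp_proj]
  -- the diagonal
  have hcol : ∀ p, ∑ i, pair (χ i) p = 0 := by
    intro p
    let μ : V4 := ∑ i, e i
    have hμ : tt 0 μ = μ := by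
      have h1 : ∑ i, aff D.c 0 (e i) = ∑ i, e i := by
        simp only [hσ]
        exact Equiv.sum_comp (σ 0) e
      simp only [aff, Finset.sum_add_distrib, Finset.sum_const, Finset.card_univ, Fintype.card_fin] at h1
      have h60 : (6 : ℕ) • D.c 0 = 0 := by
        funext i
        exact (by decide : ∀ y : ZMod 3, (6 : ℕ) • y = 0) (D.c 0 i)
      rw [h60, add_zero] at h1
      show tt 0 (∑ i, e i) = ∑ i, e i
      conv_rhs => rw [← h1]
      refine map_sum (AddMonoidHom.mk' (tt 0) (tt_add 0)) e _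
    have h0 := tt_fpf μ hμ
    show ∑ i, (dot (e i) p.1 + 1 * p.2) = 0
    rw [Finset.sum_add_distrib]
    have hdot : ∑ i, dot (e i) p.1 = dot μ p.1 := by
      symm
      refine map_sum (AddMonoidHom.mk' (fun m => dot m p.1) fun a b => ?_) e _
      simp only [dot, Pi.add_apply]; ring
    rw [hdot, h0, Finset.sum_const, Finset.card_univ, Fintype.card_fin,
      (by decide : ∀ y : ZMod 3, (6 : ℕ) • y = 0) (1 * p.2)]
    simp [dot]
  have hdiag : ∀ k : Fin 6 → ZMod 3, ∑ i, k i = 0 →
      ∃ l, ∀ v i, coord (S.φ l v) i = rk (k i) (coord v i) := by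
    intro k hk
    let T := {k : Fin 6 → ZMod 3 // ∑ i, k i = 0}
    let f : D5 → T := fun p => ⟨fun i => pair (χ i) p, hcol p⟩
    have hf : Function.Injective f := by
      intro p p' h
      refine sub_eq_zero.1 (hfaith _ fun c hc => ?_)
      obtain ⟨i, rfl⟩ := hχsurj c hc
      have := congrFun (congrArg Subtype.val h) i
      rw [pair_comm, pair_sub_left, pair_comm p, pair_comm p']
      exact sub_eq_zero.2 this
    have hT : Fintype.card T = Fintype.card D5 := by
      rw [show Fintype.card D5 = 243 by simp]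
      decide +kernel
    obtain ⟨p, hp⟩ := ((Fintype.bijective_iff_injective_and_card f).2 ⟨hf, hT.symm⟩).2 ⟨k, hk⟩
    refine ⟨D.d p, fun v i => ?_⟩
    rw [hcd, show pair (χ i) p = k i from congrFun (congrArg Subtype.val hp) i]
  -- the generators
  have hgen : ∀ g, ∃ k, Realised S coord (σ g) k (D.l g)⁻¹ := by
    intro g
    have h1 : ∀ i, A.IsComp (χ (σ g i)) (ψ g (u i)) := fun i => by
      have := (hmap g (e i) (hχ i)).2 (u i) (hu i)
      rwa [hσ] at this
    have h2 : ∀ i, ∃ k, ψ g (u i) = A.rp k (u (σ g i)) := by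
      intro i
      let f : W → {v : V // A.IsComp (χ (σ g i)) v} := fun w => ⟨_, A.isComp_emb (hu (σ g i)) w⟩
      have hf : Function.Bijective f := (Nat.bijective_iff_injective_and_card f).2
        ⟨fun a b h => hembinj _ _ _ (congrArg Subtype.val h), by
          rw [A.card_comp_eq (n := 6) (by rw [S.card_V]; norm_num) hcard6 (hχ _)]
          simp⟩
      obtain ⟨w, hw⟩ := hf.2 ⟨_, h1 i⟩
      have hw' : emb A.R (u (σ g i)) w = ψ g (u i) := congrArg Subtype.val hw
      have hw0 : w ≠ 0 := by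
        rintro rfl
        refine hu0 i ((ψ g).injective ?_)
        rw [map_zero, ← hw']
        simp [emb]
      exact ⟨expW w, by rw [← hw', exists_rk w hw0, A.emb_rk, A.emb_one, ← exists_rk w hw0]⟩
    choose k hk using h2
    refine ⟨k, fun v i => ?_⟩
    have hrp : ∀ j v, ψ g (A.rp j v) = A.rp j (ψ g v) := fun j v => by
      rcases Action.zmod3_cases j with rfl | rfl | rfl <;>
        simp [Action.rp_zero, Action.rp_one, Action.rp_two, hψR]
    have hemb : ∀ i w, ψ g (emb A.R (u i) w) = emb A.R (u (σ g i)) (rk (k i) w) := by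
      intro i w
      rw [A.emb_rk]
      have : emb A.R (ψ g (u i)) w = ψ g (emb A.R (u i) w) := by
        unfold emb
        rw [map_add]
        split_ifs <;> simp [hψR]
      rw [← this, hk]
      have hlin : ∀ j x y, A.rp j (x + y) = A.rp j x + A.rp j y := A.rp_map_add
      unfold emb
      rw [hlin]
      split_ifs <;> simp [A.rp_map_zero, ← A.rp_one, ← A.rp_add, add_comm]
    have hv : ψ g v = Φ fun j => rk (k ((σ g).symm j)) (coord v ((σ g).symm j)) := by
      conv_lhs => rw [← hoc v]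
      rw [hΦ, hΦ, map_sum]
      refine Fintype.sum_equiv (σ g) _ _ fun i => ?_
      rw [hemb, Equiv.symm_apply_apply]
    show coord (ψ g v) (σ g i) = _
    rw [hv, hco, Equiv.symm_apply_apply]
  have hreal : ∀ π ∈ Subgroup.closure (Set.range σ), ∃ k l, Realised S coord π k l := by
    intro π hπ
    induction hπ using Subgroup.closure_induction with
    | mem x hx => obtain ⟨g, rfl⟩ := hx; obtain ⟨k, hk⟩ := hgen g; exact ⟨k, _, hk⟩
    | one => exact ⟨_, _, realised_one coord⟩
    | mul x y _ _ hx hy =>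
      obtain ⟨k, l, h⟩ := hx
      obtain ⟨k', l', h'⟩ := hy
      exact ⟨_, _, realised_mul h h'⟩
    | inv x _ hx =>
      obtain ⟨k, l, h⟩ := hx
      exact ⟨_, _, realised_inv h⟩
  let G0 : Subgroup (Equiv.Perm (Fin 6)) :=
    { carrier := {π | ∃ k l, ∑ i, k i = 0 ∧ Realised S coord π k l}
      one_mem' := ⟨0, 1, by simp, realised_one coord⟩
      mul_mem' := by
        rintro x y ⟨k, l, hk, h⟩ ⟨k', l', hk', h'⟩
        refine ⟨_, _, ?_, realised_mul h h'⟩
        rw [Finset.sum_add_distrib, Equiv.sum_comp y k, hk, hk', add_zero]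
      inv_mem' := by
        rintro x ⟨k, l, hk, h⟩
        refine ⟨_, _, ?_, realised_inv h⟩
        rw [Finset.sum_neg_distrib, Equiv.sum_comp x⁻¹ k, hk, neg_zero] }
  have hinv2 : ∀ π ∈ alternatingGroup (Fin 6), π * π = 1 → π ∈ G0 := by
    intro π hπ hπ2
    obtain ⟨k, l, hl⟩ := hreal π (hA6 hπ)
    have hn : ∀ n : ℕ, ∃ k', ∑ i, k' i = (n : ZMod 3) * ∑ i, k i ∧ Realised S coord (π ^ n) k' (l ^ n) := by
      intro n
      induction n with
      | zero => exact ⟨0, by simp, by simpa using realised_one coord⟩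
      | succ n ih =>
        obtain ⟨k', hk', hl'⟩ := ih
        refine ⟨fun i => k' (π i) + k i, ?_, by rw [pow_succ, pow_succ]; exact realised_mul hl' hl⟩
        rw [Finset.sum_add_distrib, Equiv.sum_comp π k', hk']
        push_cast
        ring
    obtain ⟨k', hk', hl'⟩ := hn 9
    refine ⟨k', l ^ 9, ?_, ?_⟩
    · rw [hk', show ((9 : ℕ) : ZMod 3) = 0 from rfl, zero_mul]
    · rwa [show π ^ 9 = π by rw [pow_succ, show π ^ 8 = 1 by
        rw [show π ^ 8 = (π * π) ^ 4 by rw [← pow_two, ← pow_mul], hπ2, one_pow], one_mul]] at hl'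
  have hperm : ∀ π ∈ alternatingGroup (Fin 6), ∃ l, ∀ v i, coord (S.φ l v) (π i) = coord v i := by
    intro π hπ
    haveI := alternatingGroup.isSimpleGroup (α := Fin 6) (by simp)
    let t0 : Equiv.Perm (Fin 6) := Equiv.swap 0 1 * Equiv.swap 2 3
    have ht0 : t0 ∈ alternatingGroup (Fin 6) ∧ t0 * t0 = 1 ∧ t0 ≠ 1 := by
      refine ⟨?_, ?_, ?_⟩
      · rw [Equiv.Perm.mem_alternatingGroup]; simp [t0]
      · decide +kernel
      · decide +kernel
    let N : Subgroup (alternatingGroup (Fin 6)) :=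
      Subgroup.normalClosure {⟨t0, ht0.1⟩}
    have hN : N = ⊤ := by
      refine (Subgroup.Normal.eq_bot_or_eq_top inferInstance).resolve_left fun h => ht0.2.2 ?_
      have h1 : (⟨t0, ht0.1⟩ : alternatingGroup (Fin 6)) ∈ N :=
        Subgroup.subset_normalClosure (Set.mem_singleton _)
      rw [h, Subgroup.mem_bot] at h1
      exact congrArg Subtype.val h1
    have hle : N ≤ G0.subgroupOf (alternatingGroup (Fin 6)) := by
      refine Subgroup.closure_le _ |>.2 fun x hx => ?_
      obtain ⟨y, hy, hconj⟩ := Group.mem_conjugatesOfSet_iff.1 hx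
      rw [Set.mem_singleton_iff] at hy
      subst hy
      obtain ⟨g, rfl⟩ := isConj_iff.1 hconj
      show ((g * ⟨t0, ht0.1⟩ * g⁻¹ : alternatingGroup (Fin 6)) : Equiv.Perm (Fin 6)) ∈ G0
      refine hinv2 _ (SetLike.coe_mem _) ?_
      show (g : Equiv.Perm (Fin 6)) * t0 * (g : Equiv.Perm (Fin 6))⁻¹ *
        ((g : Equiv.Perm (Fin 6)) * t0 * (g : Equiv.Perm (Fin 6))⁻¹) = 1
      calc _ = (g : Equiv.Perm (Fin 6)) * (t0 * t0) * (g : Equiv.Perm (Fin 6))⁻¹ := by group
        _ = 1 := by rw [ht0.2.1, mul_one, mul_inv_cancel]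
    obtain ⟨k, l, hk, hl⟩ : π ∈ G0 := hle (show (⟨π, hπ⟩ : alternatingGroup (Fin 6)) ∈ N by
      rw [hN]; exact Subgroup.mem_top _)
    obtain ⟨dl, hdl⟩ := hdiag (fun i => -k i) (by rw [Finset.sum_neg_distrib, hk, neg_zero])
    refine ⟨l * dl, fun v i => ?_⟩
    rw [S.φ_mul, hl, hdl, ← rk_add, add_neg_cancel]
    rfl
  -- the form
  have hqR : ∀ v, S.q (A.R v) = S.q v := fun v => S.q_inv _ _
  have hbR : ∀ v w, S.b (A.R v) (A.R w) = S.b v w := fun v w => S.b_inv _ _ _
  have horth : ∀ i j, i ≠ j → ∀ a b, A.IsComp (χ i) a → A.IsComp (χ j) b → S.b a b = 0 := by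
    intro i j hij a b ha hb
    obtain ⟨p, hp⟩ : ∃ p, pair (χ i) p ≠ pair (χ j) p := by
      by_contra h
      push Not at h
      exact hij (hχinj (eq_of_pair h))
    have hrpb : ∀ k v w, S.b (A.rp k v) (A.rp k w) = S.b v w := fun k v w => by
      rcases Action.zmod3_cases k with rfl | rfl | rfl
      · rfl
      · exact hbR v w
      · exact (hbR _ _).trans (hbR v w)
    have hkey : ∀ b', A.IsComp (χ j) b' → S.b a (A.rp (pair (χ j) p - pair (χ i) p) b') = S.b a b' := by
      intro b' hb'
      have h1 : S.b (A.act p a) (A.act p b') = S.b a b' := S.b_inv _ _ _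
      rw [ha p, hb' p] at h1
      conv_rhs => rw [← h1, ← hrpb (-pair (χ i) p)]
      rw [← A.rp_add, ← A.rp_add, neg_add_cancel, A.rp_zero, neg_add_eq_sub]
    generalize ht : pair (χ j) p - pair (χ i) p = t at hkey
    have ht0 : t ≠ 0 := ht ▸ sub_ne_zero.2 (Ne.symm hp)
    have hb1 : S.b a (A.R b) = S.b a b := by
      rcases Action.zmod3_cases t with rfl | rfl | rfl
      · exact absurd rfl ht0
      · exact hkey b hb
      · have := hkey (A.R b) (A.isComp_R hb)
        rwa [A.rp_two, A.R_cube, eq_comm] at this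
    have hb2 : S.b a (A.R (A.R b)) = S.b a b := by
      rcases Action.zmod3_cases t with rfl | rfl | rfl
      · exact absurd rfl ht0
      · have := hkey (A.R b) (A.isComp_R hb)
        rw [A.rp_one] at this
        exact this.trans hb1
      · exact hkey b hb
    rw [A.R_sq, S.b_add, hb1] at hb2
    exact add_eq_left.1 hb2
  have hline : ∀ i w, w ≠ 0 → S.q (emb A.R (u i) w) = S.q (u i) := by
    intro i w hw
    rw [exists_rk w hw, A.emb_rk, A.emb_one]
    rcases Action.zmod3_cases (expW w) with h | h | h <;> rw [h]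
    · rfl
    · exact hqR _
    · exact (hqR _).trans (hqR _)
  have hb0r : ∀ v, S.b v 0 = 0 := fun v => by
    have := S.b_add v 0 0
    rw [add_zero] at this
    exact left_eq_add.1 this
  have hq1 : ∀ i, S.q (u i) = 1 := by
    intro i
    by_contra h
    have h0 : S.q (u i) = 0 := (zmod2_cases _).resolve_right h
    obtain ⟨v, hv⟩ := S.nondeg (u i) (hu0 i)
    refine hv ?_
    rw [← hoc v]
    show S.b (u i) (∑ j, emb A.R (u j) (coord v j)) = 0
    refine (map_sum (AddMonoidHom.mk' (S.b (u i)) (S.b_add (u i))) _ _).trans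
      (Finset.sum_eq_zero fun j _ => ?_)
    show S.b (u i) _ = 0
    by_cases hij : i = j
    · subst hij
      have hz : ∀ w : W, S.q (emb A.R (u i) w) = 0 := fun w => by
        by_cases hw : w = 0
        · subst hw; simp [emb, S.q_zero]
        · rw [hline i w hw, h0]
      have h3 := S.q_add (emb A.R (u i) (1, 0)) (emb A.R (u i) (coord v i))
      rw [← A.emb_add, hz, hz, hz, zero_add, zero_add, A.emb_one] at h3
      exact h3.symm
    · exact horth i j hij _ _ (hu i) (A.isComp_emb (hu j) _)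
  have hqc : ∀ v, S.q v = ((suppW (coord v)).card : ZMod 2) := by
    intro v
    have hs : ∀ s : Finset (Fin 6), S.q (∑ j ∈ s, emb A.R (u j) (coord v j)) =
        ((s.filter fun j => coord v j ≠ 0).card : ZMod 2) := by
      intro s
      induction s using Finset.induction_on with
      | empty => simp [S.q_zero]
      | insert a s ha ih =>
        have hb : S.b (emb A.R (u a) (coord v a)) (∑ j ∈ s, emb A.R (u j) (coord v j)) = 0 := by
          refine (map_sum (AddMonoidHom.mk' (S.b _) (S.b_add _)) _ _).trans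
            (Finset.sum_eq_zero fun j hj => ?_)
          exact horth a j (fun h => ha (h ▸ hj)) _ _ (A.isComp_emb (hu a) _) (A.isComp_emb (hu j) _)
        rw [Finset.sum_insert ha, S.q_add, hb, add_zero, ih, Finset.filter_insert]
        by_cases hw : coord v a = 0
        · rw [if_neg (not_not.2 hw), hw]
          simp [emb, S.q_zero]
        · rw [if_pos hw, Finset.card_insert_of_notMem (by simp [ha]), hline a _ hw, hq1]
          push_cast
          ring
    have := hs Finset.univ
    rw [show ∑ j, emb A.R (u j) (coord v j) = v from hoc v] at this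
    exact this
  exact ⟨⟨coord, hcx, hdiag, hperm, hqc⟩⟩

/-- Coordinates from an isomorphism with `PSU(4,3)` modulo the scalar. -/
theorem Setting.exists_frame_of_psu (S : Setting L V) {K : Type} [Field K] [Fintype K]
    (hK : Fintype.card K = 9) (π : L →* Cfsg.PSU 4 K 3) (hπ : Function.Surjective π)
    (hker : ∀ y, π y = 1 ↔ y ∈ Subgroup.zpowers S.x) : Nonempty (Frame S) := by
  obtain ⟨a, g, ha, hainj, hg, hg5, hg13, hg23, hg12⟩ := exists_parabolic hK
  obtain ⟨D⟩ := S.exists_local π hπ hker a g ha hainj hg hg5 hg13 hg23 hg12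
  exact D.exists_frame

end CfsgLib.LargeFischer
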