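import Cfsg.Agent.LargeFischer.Components

/-!
# Sets of at most six affine functionals invariant under the parabolic subgroup
-/

set_option autoImplicit false
set_option linter.unusedSectionVars false
set_option linter.style.haveILetI false
set_option maxRecDepth 100000

namespace CfsgLib.LargeFischer

open Equiv MulAction

/-- The dual action. -/
def tt (g : Fin 4) (l : V4) : V4 := fun j =>
  tEnt g 0 j * l 0 + tEnt g 1 j * l 1 + tEnt g 2 j * l 2 + tEnt g 3 j * l 3

theorem dot_tt (g : Fin 4) (l v : V4) : dot (tt g l) v = dot l (tv g v) := by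
  simp only [dot, tt, tv]; ring

theorem tt_add (g : Fin 4) (l m : V4) : tt g (l + m) = tt g l + tt g m := by
  funext j; simp only [tt, Pi.add_apply]; ring

theorem tt_sub (g : Fin 4) (l m : V4) : tt g (l - m) = tt g l - tt g m := by
  funext j; simp only [tt, Pi.sub_apply]; ring

theorem dot_sub (l m v : V4) : dot (l - m) v = dot l v - dot m v := by
  simp only [dot, Pi.sub_apply]; ring

theorem tt_fpf : ∀ l : V4, tt 0 l = l → l = 0 := by decide +kernel

theorem tt_irred : ∀ a d : V4, d ≠ 0 → dot d a = 0 → dot (tt 0 d) a = 0 → dot (tt 0 (tt 0 d)) a = 0 →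
    dot (tt 0 (tt 0 (tt 0 d))) a = 0 → a = 0 := by decide +kernel

theorem tv_pair : ∀ i j : Fin 3, (i, j) ≠ (0, 0) → ∃ v : V4, (tv 1)^[i.val] ((tv 2)^[j.val] v) ≠ v := by
  decide +kernel

/-- An affine map on functionals. -/
def aff (c : Fin 4 → V4) (g : Fin 4) (l : V4) : V4 := tt g l + c g

theorem aff_sub (c : Fin 4 → V4) (g : Fin 4) (l m : V4) : aff c g l - aff c g m = tt g (l - m) := by
  rw [tt_sub, aff, aff]; abel

theorem dot_iter_aff (c : Fin 4 → V4) (g : Fin 4) (n : ℕ) (l m a : V4) :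
    dot ((aff c g)^[n] l - (aff c g)^[n] m) a = dot (l - m) ((tv g)^[n] a) := by
  induction n generalizing a with
  | zero => rfl
  | succ n ih =>
    rw [Function.iterate_succ_apply', Function.iterate_succ_apply', aff_sub, dot_tt, ih,
      ← Function.iterate_succ_apply]

/-- A set separating the functionals on `V4`. -/
def Spans (S : Set V4) : Prop := ∀ a : V4, (∀ l ∈ S, ∀ m ∈ S, dot (l - m) a = 0) → a = 0

variable {c : Fin 4 → V4}

/-- Permutations induced on a set, along an enumeration. -/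
theorem exists_perm {S : Set V4} {α : Type*} [Finite α] (e : α → V4) (he : Function.Injective e)
    (hr : Set.range e = S) (g : Fin 4) (hS : ∀ l ∈ S, aff c g l ∈ S)
    (hinj : Function.Injective (aff c g)) : ∃ σ : Perm α, ∀ i, aff c g (e i) = e (σ i) := by
  have h : ∀ i, ∃ j, e j = aff c g (e i) := fun i => by
    have h1 := hS (e i) (hr ▸ ⟨i, rfl⟩)
    rwa [← hr] at h1
  choose f hf using h
  have hfi : Function.Injective f := fun i j hij => he (hinj (by rw [← hf, ← hf, hij]))
  exact ⟨Equiv.ofBijective f hfi.bijective_of_finite, fun i => (hf i).symm⟩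

variable (h0 : ∀ l, (aff c 0)^[5] l = l) (h1 : ∀ l, (aff c 1)^[3] l = l) (h2 : ∀ l, (aff c 2)^[3] l = l)
  (h12 : ∀ l, aff c 1 (aff c 2 l) = aff c 2 (aff c 1 l))

include h1 h2 h12 in
/-- On a spanning invariant set the two commuting affine maps generate a group of order nine. -/
theorem pair_group {α : Type*} [Finite α] {S : Set V4} (hS : Spans S) (e : α → V4)
    (he : Function.Injective e) (hr : Set.range e = S) {σ τ : Perm α}
    (hσ : ∀ i, aff c 1 (e i) = e (σ i)) (hτ : ∀ i, aff c 2 (e i) = e (τ i)) :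
    ∃ H : Subgroup (Perm α), Nat.card H = 9 ∧ H ≤ Subgroup.closure {σ, τ} := by
  have hσn : ∀ (n : ℕ) i, (aff c 1)^[n] (e i) = e ((σ ^ n) i) := by
    intro n
    induction n with
    | zero => intro i; rfl
    | succ n ih => intro i; rw [Function.iterate_succ_apply', ih, hσ, pow_succ']; rfl
  have hτn : ∀ (n : ℕ) i, (aff c 2)^[n] (e i) = e ((τ ^ n) i) := by
    intro n
    induction n with
    | zero => intro i; rfl
    | succ n ih => intro i; rw [Function.iterate_succ_apply', ih, hτ, pow_succ']; rfl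
  have hs3 : σ ^ 3 = 1 := Equiv.ext fun i => he (by rw [← hσn, h1]; rfl)
  have ht3 : τ ^ 3 = 1 := Equiv.ext fun i => he (by rw [← hτn, h2]; rfl)
  have hc : Commute σ τ := Equiv.ext fun i => he (by
    show e (σ (τ i)) = e (τ (σ i))
    rw [← hσ, ← hτ, ← hτ, ← hσ, h12])
  let f : Multiplicative (ZMod 3 × ZMod 3) →* Perm α :=
    MonoidHom.mk' (fun x => σ ^ x.toAdd.1.val * τ ^ x.toAdd.2.val) fun x y => by
      have hh : Commute (τ ^ x.toAdd.2.val) (σ ^ y.toAdd.1.val) := (hc.symm.pow_left _).pow_right _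
      rw [toAdd_mul, Prod.fst_add, Prod.snd_add, pow_val_add hs3, pow_val_add ht3, mul_assoc,
        mul_assoc, ← mul_assoc (σ ^ y.toAdd.1.val), ← hh.eq]
      simp only [mul_assoc]
  have hf : Function.Injective f := by
    rw [injective_iff_map_eq_one]
    intro x hx
    by_contra hne
    have key : ∀ i j : Fin 3, (i, j) ≠ (0, 0) → ¬ σ ^ i.val * τ ^ j.val = 1 := by
      intro i j hij hone
      obtain ⟨v, hv⟩ := tv_pair i j hij
      refine hv ?_
      have : (tv 1)^[i.val] ((tv 2)^[j.val] v) - v = 0 → (tv 1)^[i.val] ((tv 2)^[j.val] v) = v :=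
        sub_eq_zero.1
      refine this (hS _ fun l hl m hm => ?_)
      rw [← hr] at hl hm
      obtain ⟨p, rfl⟩ := hl
      obtain ⟨q, rfl⟩ := hm
      have hfix : ∀ p, (aff c 2)^[j.val] ((aff c 1)^[i.val] (e p)) = e p := fun p => by
        rw [hσn, hτn, ← Perm.mul_apply, ← (hc.pow_pow i.val j.val).eq, hone]; rfl
      have h := dot_iter_aff c 1 i.val (e p) (e q) ((tv 2)^[j.val] v)
      rw [← dot_iter_aff c 2 j.val, hfix, hfix] at h
      have hd : ∀ a b d : V4, dot d (a - b) = dot d a - dot d b := fun a b d => by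
        simp only [dot, Pi.sub_apply]; ring
      rw [hd, ← h, sub_self]
    refine key x.toAdd.1 x.toAdd.2 (fun e' => hne ?_) hx
    exact Multiplicative.toAdd.injective (Prod.ext (congrArg Prod.fst e') (congrArg Prod.snd e'))
  refine ⟨f.range, ?_, ?_⟩
  · rw [← Nat.card_congr (MonoidHom.ofInjective hf).toEquiv]
    simp
  · rintro _ ⟨x, rfl⟩
    exact mul_mem (pow_mem (Subgroup.subset_closure (by simp)) _)
      (pow_mem (Subgroup.subset_closure (by simp)) _)

/-- A subgroup of order nine of the symmetric group of degree six contains a 3-cycle. -/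
theorem exists_threeCycle_of_card_nine {H : Subgroup (Perm (Fin 6))} (hH : Nat.card H = 9) :
    ∃ g ∈ H, g.IsThreeCycle := by
  haveI : Fact (Nat.Prime 3) := ⟨by norm_num⟩
  have hfac : (Nat.card (Perm (Fin 6))).factorization 3 = 2 := by
    rw [Nat.card_perm, Nat.card_fin, show Nat.factorial 6 = 3 ^ 2 * 80 by decide,
      Nat.factorization_mul (by norm_num) (by norm_num), Nat.Prime.factorization_pow (by norm_num)]
    simp [Nat.factorization_eq_zero_of_not_dvd (show ¬ 3 ∣ 80 by norm_num)]
  let P : Sylow 3 (Perm (Fin 6)) := Sylow.ofCard H (by rw [hH, hfac]; rfl)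
  let t : Perm (Fin 6) := swap 0 1 * swap 0 2
  have ht3 : t.IsThreeCycle :=
    Equiv.Perm.isThreeCycle_swap_mul_swap_same (by decide) (by decide) (by decide)
  obtain ⟨P', hP'⟩ := (IsPGroup.of_card (n := 1) (G := Subgroup.zpowers t)
    (by rw [Nat.card_zpowers, ht3.orderOf, pow_one])).exists_le_sylow
  obtain ⟨g, hg⟩ := MulAction.exists_smul_eq (Perm (Fin 6)) P' P
  refine ⟨g * t * g⁻¹, ?_, ?_⟩
  · show g * t * g⁻¹ ∈ (P : Subgroup (Perm (Fin 6)))
    rw [← hg, Sylow.coe_subgroup_smul]
    exact ⟨t, hP' (Subgroup.mem_zpowers t), rfl⟩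
  · rw [Equiv.Perm.IsThreeCycle, Equiv.Perm.cycleType_conj]
    exact ht3

include h0 h1 h2 h12 in
/-- An invariant spanning set of at most six points has six, permuted as the alternating group at least. -/
theorem exists_hexad {S : Finset V4} (hne : S.Nonempty) (hS : ∀ g, ∀ l ∈ S, aff c g l ∈ S)
    (hcard : S.card ≤ 6) (hsp : Spans (S : Set V4)) (hinj : ∀ g, Function.Injective (aff c g)) :
    ∃ (e : Fin 6 → V4) (σ : Fin 4 → Perm (Fin 6)), Function.Injective e ∧
      Set.range e = (S : Set V4) ∧ (∀ g i, aff c g (e i) = e (σ g i)) ∧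
      alternatingGroup (Fin 6) ≤ Subgroup.closure (Set.range σ) := by
  classical
  have : Fact (Nat.Prime 3) := ⟨by norm_num⟩
  -- a point moved by the element of order five
  obtain ⟨l, hl, hmov⟩ : ∃ l ∈ S, aff c 0 l ≠ l := by
    by_contra h
    push Not at h
    obtain ⟨p, hp⟩ := hne
    have hsub : ∀ m ∈ S, m = p := fun m hm =>
      sub_eq_zero.1 (tt_fpf _ (by rw [← aff_sub c, h m hm, h p hp]))
    have := hsp (Pi.single 0 1) fun m hm k hk => by
      rw [hsub m hm, hsub k hk, sub_self]; simp [dot]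
    have h' := congrFun this 0
    simp at h'
  let orb : Fin 5 → V4 := fun i => (aff c 0)^[i.val] l
  have horb : Function.Injective orb := by
    have hper : Function.IsPeriodicPt (aff c 0) 5 l := h0 l
    have h5 : Function.minimalPeriod (aff c 0) l = 5 := by
      rcases (Nat.dvd_prime (by norm_num)).1 hper.minimalPeriod_dvd with h | h
      · exact absurd (Function.minimalPeriod_eq_one_iff_isFixedPt.1 h) hmov
      · exact h
    intro i j hij
    exact Fin.ext (Function.iterate_injOn_Iio_minimalPeriod (by rw [h5]; exact i.2)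
      (by rw [h5]; exact j.2) hij)
  have horbS : ∀ i, orb i ∈ S := by
    intro i
    show (aff c 0)^[i.val] l ∈ S
    induction i.val with
    | zero => exact hl
    | succ n ih => rw [Function.iterate_succ_apply']; exact hS 0 _ ih
  have hospan : Spans (Set.range orb) := by
    intro a ha
    have hd : ∀ k : Fin 4, dot (orb ⟨k.val + 1, by omega⟩ - orb ⟨k.val, by omega⟩) a = 0 := fun k =>
      ha _ ⟨_, rfl⟩ _ ⟨_, rfl⟩
    have e0 := hd 0
    have e1 := hd 1
    have e2 := hd 2
    have e3 := hd 3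
    simp only [orb, Fin.val_zero, Fin.val_one, Fin.val_two, show ((3 : Fin 4) : ℕ) = 3 from rfl,
      Function.iterate_succ_apply', Function.iterate_zero_apply, aff_sub] at e0 e1 e2 e3
    exact tt_irred a (aff c 0 l - l) (sub_ne_zero.2 hmov) e0 e1 e2 e3
  have hno5 : (∀ g, ∀ x ∈ Set.range orb, aff c g x ∈ Set.range orb) → False := by
    intro hinv
    obtain ⟨σ, hσ⟩ := exists_perm orb horb rfl 1 (hinv 1) (hinj 1)
    obtain ⟨τ, hτ⟩ := exists_perm orb horb rfl 2 (hinv 2) (hinj 2)
    obtain ⟨H, hH, -⟩ := pair_group h1 h2 h12 hospan orb horb rfl hσ hτ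
    have := Subgroup.card_subgroup_dvd_card H
    rw [hH, Nat.card_perm, Nat.card_fin] at this
    exact absurd this (by decide)
  obtain ⟨p, hpS, hp⟩ : ∃ p ∈ S, p ∉ Set.range orb := by
    by_contra h
    push Not at h
    refine hno5 fun g x hx => h _ (hS g x ?_)
    obtain ⟨i, rfl⟩ := hx
    exact horbS i
  let e : Fin 6 → V4 := Fin.snoc orb p
  have he : Function.Injective e := Fin.snoc_injective_iff.2 ⟨horb, hp⟩
  have heS : ∀ i, e i ∈ S := by
    intro i
    refine Fin.lastCases ?_ (fun j => ?_) i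
    · have h' : e (Fin.last 5) = p := Fin.snoc_last ..
      rwa [h']
    · have h' : e j.castSucc = orb j := Fin.snoc_castSucc ..
      rw [h']
      exact horbS j
  have hrange : Set.range e = (S : Set V4) := by
    refine Set.eq_of_subset_of_ncard_le (by rintro _ ⟨i, rfl⟩; exact heS i) ?_ (Set.toFinite _)
    rw [Set.ncard_coe_finset, ← Nat.card_coe_set_eq, Nat.card_range_of_injective he, Nat.card_fin]
    exact hcard
  choose σ hσ using fun g => exists_perm e he hrange g (hS g) (hinj g)
  refine ⟨e, σ, he, hrange, hσ, ?_⟩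
  set K := Subgroup.closure (Set.range σ) with hK
  have hσK : ∀ g, σ g ∈ K := fun g => Subgroup.subset_closure ⟨g, rfl⟩
  have hc0 : ∀ (n : ℕ) i, e ((σ 0 ^ n) i) = (aff c 0)^[n] (e i) := by
    intro n
    induction n with
    | zero => intro i; rfl
    | succ n ih => intro i; rw [Function.iterate_succ_apply', ← ih, hσ, pow_succ']; rfl
  have hcast : ∀ j : Fin 5, (σ 0 ^ j.val) (Fin.castSucc 0) = j.castSucc := fun j => he (by
    rw [hc0]; simp [e, orb])
  have hlast : σ 0 (Fin.last 5) = Fin.last 5 := by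
    rcases Fin.eq_castSucc_or_eq_last (σ 0 (Fin.last 5)) with ⟨j, hj⟩ | hj
    · exfalso
      have h' : σ 0 ((σ 0 ^ ((j.val + 4) % 5)) (Fin.castSucc 0)) = j.castSucc := by
        rw [← hcast j, ← Perm.mul_apply, ← pow_succ']
        have h5 : σ 0 ^ 5 = 1 := Equiv.ext fun i => he (by rw [hc0, h0]; rfl)
        conv_lhs => rw [pow_eq_pow_mod _ h5]
        congr 2
        omega
      rw [← hj] at h'
      have := (σ 0).injective h'
      rw [hcast ⟨(j.val + 4) % 5, Nat.mod_lt _ (by norm_num)⟩] at this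
      exact Fin.castSucc_ne_last _ this
    · exact hj
  -- some generator moves the extra point
  obtain ⟨g, hg⟩ : ∃ g, σ g (Fin.last 5) ≠ Fin.last 5 := by
    by_contra h
    push Not at h
    refine hno5 fun g x hx => ?_
    obtain ⟨i, rfl⟩ := hx
    rcases Fin.eq_castSucc_or_eq_last (σ g i.castSucc) with ⟨j, hj⟩ | hj
    · exact ⟨j, by have := hσ g i.castSucc; rw [hj] at this; simpa [e] using this.symm⟩
    · exact absurd ((σ g).injective (hj.trans (h g).symm)) (Fin.castSucc_ne_last i)
  have hmove : ∀ i, ∃ k ∈ K, k (Fin.last 5) = i := by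
    intro i
    refine Fin.lastCases ⟨1, one_mem _, rfl⟩ (fun j => ?_) i
    obtain ⟨m, hm⟩ : ∃ m : Fin 5, σ g (Fin.last 5) = m.castSucc :=
      (Fin.eq_castSucc_or_eq_last _).resolve_right hg
    refine ⟨σ 0 ^ j.val * (σ 0 ^ m.val)⁻¹ * σ g,
      mul_mem (mul_mem (pow_mem (hσK 0) _) (inv_mem (pow_mem (hσK 0) _))) (hσK g), ?_⟩
    rw [Perm.mul_apply, Perm.mul_apply, hm, ← hcast m, Perm.inv_def, Equiv.symm_apply_apply, hcast j]
  have hfixpow : ∀ n : ℕ, (σ 0 ^ n) (Fin.last 5) = Fin.last 5 := by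
    intro n
    induction n with
    | zero => rfl
    | succ n ih => rw [pow_succ', Perm.mul_apply, ih, hlast]
  have htwo : IsMultiplyPretransitive K (Fin 6) 2 := by
    rw [is_two_pretransitive_iff]
    have key : ∀ a b : Fin 6, a ≠ b → ∃ k ∈ K, k (Fin.last 5) = a ∧ k (Fin.castSucc 0) = b := by
      intro a b hab
      obtain ⟨k, hk, hka⟩ := hmove a
      obtain ⟨j, hj⟩ : ∃ j : Fin 5, k⁻¹ b = j.castSucc := by
        refine (Fin.eq_castSucc_or_eq_last _).resolve_right fun h => hab ?_
        rw [← hka, ← h, Perm.inv_def, Equiv.apply_symm_apply]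
      refine ⟨k * σ 0 ^ j.val, mul_mem hk (pow_mem (hσK 0) _), ?_, ?_⟩
      · rw [Perm.mul_apply, hfixpow, hka]
      · rw [Perm.mul_apply, hcast, ← hj, Perm.inv_def, Equiv.apply_symm_apply]
    intro a b a' b' hab hab'
    obtain ⟨k, hk, hka, hkb⟩ := key a b hab
    obtain ⟨k', hk', hka', hkb'⟩ := key a' b' hab'
    refine ⟨⟨k' * k⁻¹, mul_mem hk' (inv_mem hk)⟩, ?_, ?_⟩
    · show (k' * k⁻¹) a = a'
      rw [← hka, Perm.mul_apply, Perm.inv_def, Equiv.symm_apply_apply, hka']
    · show (k' * k⁻¹) b = b'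
      rw [← hkb, Perm.mul_apply, Perm.inv_def, Equiv.symm_apply_apply, hkb']
  haveI := htwo
  obtain ⟨H, hH, hHle⟩ := pair_group h1 h2 h12 hsp e he hrange (hσ 1) (hσ 2)
  obtain ⟨t, ht, ht3⟩ := exists_threeCycle_of_card_nine hH
  refine Equiv.Perm.alternatingGroup_le_of_isPreprimitive_of_isThreeCycle_mem
    (isPreprimitive_of_is_two_pretransitive htwo) ht3 ?_
  refine (Subgroup.closure_mono ?_) (hHle ht)
  rintro x (rfl | rfl) <;> exact ⟨_, rfl⟩

end CfsgLib.LargeFischer
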