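import Cfsg.Agent.LargeFischer.Hexad

/-!
# Lifting the parabolic subgroup through a central extension by a group of order three
-/

set_option autoImplicit false
set_option linter.unusedSectionVars false
set_option linter.style.haveILetI false
set_option maxRecDepth 100000

namespace CfsgLib.LargeFischer

open scoped commutatorElement

/-- The six basis values of an alternating form, as an alternating matrix. -/
def altMat (b : Fin 6 → ZMod 3) (i j : Fin 4) : ZMod 3 :=
  match i.val, j.val with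
  | 0, 1 => b 0 | 1, 0 => -b 0
  | 0, 2 => b 1 | 2, 0 => -b 1
  | 0, 3 => b 2 | 3, 0 => -b 2
  | 1, 2 => b 3 | 2, 1 => -b 3
  | 1, 3 => b 4 | 3, 1 => -b 4
  | 2, 3 => b 5 | 3, 2 => -b 5
  | _, _ => 0

/-- A bilinear form from its matrix. -/
def bil (B : Fin 4 → Fin 4 → ZMod 3) (v w : V4) : ZMod 3 :=
  dot v (fun i => dot (B i) w)

theorem alt_invariant : ∀ b : Fin 6 → ZMod 3,
    (∀ g i k : Fin 4, bil (altMat b) (fun l => tEnt g l i) (fun l => tEnt g l k) = altMat b i k) →
    b = 0 := by decide +kernel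

theorem lin_invariant : ∀ f : V4, (∀ g j : Fin 4, dot f (fun l => tEnt g l j) = f j) → f = 0 := by
  decide +kernel

theorem tv_single (g j : Fin 4) : tv g (Pi.single j 1) = fun i => tEnt g i j := by
  funext i
  fin_cases j <;> simp [tv]

theorem tv_add (g : Fin 4) (v w : V4) : tv g (v + w) = tv g v + tv g w := by
  funext i; simp only [tv, Pi.add_apply]; ring

theorem additive_eq_dot (f : V4 → ZMod 3) (hf : ∀ v w, f (v + w) = f v + f w) (v : V4) :
    f v = dot (fun i => f (Pi.single i 1)) v := by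
  let F : V4 →+ ZMod 3 := AddMonoidHom.mk' f hf
  show F v = _
  conv_lhs => rw [eq_sum_single v]
  rw [map_add, map_add, map_add, map_nsmul, map_nsmul, map_nsmul, map_nsmul]
  simp only [nsmul_eq_mul, ZMod.natCast_zmod_val, dot, F, AddMonoidHom.mk'_apply]
  ring

/-- The shift functionals of four elements. -/
theorem exists_lift {L P : Type*} [Group L] [Group P] (π : L →* P) (hπ : Function.Surjective π)
    {x : L} (hx3 : x ^ 3 = 1) (hx1 : x ≠ 1) (hxc : x ∈ Subgroup.center L)
    (hker : ∀ y, π y = 1 ↔ y ∈ Subgroup.zpowers x)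
    (a : V4 → P) (g : Fin 4 → P) (ha : ∀ v w, a (v + w) = a v * a w) (hainj : Function.Injective a)
    (hg : ∀ k v, g k * a v * (g k)⁻¹ = a (tv k v)) (hg5 : g 0 ^ 5 = 1) (hg13 : g 1 ^ 3 = 1)
    (hg23 : g 2 ^ 3 = 1) (hg12 : g 1 * g 2 = g 2 * g 1) :
    ∃ (d : D5 → L) (l : Fin 4 → L) (c : Fin 4 → V4),
      (∀ p q, d (p + q) = d p * d q) ∧ Function.Injective d ∧ d (0, 1) = x ∧
      (∀ k (p : D5), l k * d p * (l k)⁻¹ = d (tv k p.1, p.2 + dot (c k) p.1)) ∧
      (∀ m, (aff c 0)^[5] m = m) ∧ (∀ m, (aff c 1)^[3] m = m) ∧ (∀ m, (aff c 2)^[3] m = m) ∧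
      (∀ m, aff c 1 (aff c 2 m) = aff c 2 (aff c 1 m)) := by
  classical
  let ex : ZMod 3 → L := fun k => x ^ k.val
  have hexadd : ∀ i j, ex (i + j) = ex i * ex j := fun i j => pow_val_add hx3 i j
  have hexc : ∀ i y, Commute (ex i) y := fun i y =>
    Commute.pow_left (show Commute x y from (Subgroup.mem_center_iff.1 hxc y).symm) _
  have hex0 : ex 0 = 1 := by simp [ex]
  have hexinj : ∀ i, ex i = 1 → i = 0 := by
    intro i hi
    have hox : orderOf x = 3 := orderOf_eq_prime hx3 hx1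
    have h3 : orderOf x ∣ i.val := orderOf_dvd_of_pow_eq_one (show x ^ i.val = 1 from hi)
    rw [hox] at h3
    have := ZMod.val_lt i
    exact (ZMod.val_eq_zero i).1 (Nat.eq_zero_of_dvd_of_lt h3 this)
  have hexk : ∀ y, π y = 1 → ∃ k, y = ex k := by
    intro y hy
    obtain ⟨n, rfl⟩ := Subgroup.mem_zpowers_iff.1 ((hker y).1 hy)
    refine ⟨(n : ZMod 3), ?_⟩
    show x ^ n = x ^ ((n : ZMod 3)).val
    rw [← zpow_natCast, ZMod.val_intCast]
    exact zpow_eq_zpow_emod' n hx3
  have hexinj2 : Function.Injective ex := by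
    intro i j h
    have := hexinj (i - j) (mul_right_cancel (b := ex j) (by rw [← hexadd, sub_add_cancel, one_mul, h]))
    exact sub_eq_zero.1 this
  choose w hw using fun v => hπ (a v)
  -- commutators
  have hcom : ∀ v v', ∃ k, ⁅w v, w v'⁆ = ex k := fun v v' => hexk _ (by
    rw [map_commutatorElement, hw, hw, commutatorElement_eq_one_iff_commute]
    show a v * a v' = a v' * a v
    rw [← ha, ← ha, add_comm])
  choose B hB using hcom
  have hlift : ∀ y v, π y = a v → ∃ k, y = ex k * w v := fun y v hy => by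
    obtain ⟨k, hk⟩ := hexk (y * (w v)⁻¹) (by rw [map_mul, map_inv, hy, hw, mul_inv_cancel])
    exact ⟨k, by rw [← hk, inv_mul_cancel_right]⟩
  have hBy : ∀ y y' v v', π y = a v → π y' = a v' → ⁅y, y'⁆ = ex (B v v') := by
    intro y y' v v' hy hy'
    obtain ⟨i, rfl⟩ := hlift y v hy
    obtain ⟨j, rfl⟩ := hlift y' v' hy'
    rw [← hB]
    simp only [commutatorElement_def, mul_inv_rev]
    calc ex i * w v * (ex j * w v') * ((w v)⁻¹ * (ex i)⁻¹) * ((w v')⁻¹ * (ex j)⁻¹)
        = ex i * (w v * ex j) * w v' * (w v)⁻¹ * ((ex i)⁻¹ * (w v')⁻¹) * (ex j)⁻¹ := by group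
      _ = ex i * ex j * (w v * w v' * (w v)⁻¹ * (w v')⁻¹) * ((ex i)⁻¹ * (ex j)⁻¹) := by
          rw [(hexc j (w v)).symm.eq, ((hexc i (w v')).inv_inv).eq]; group
      _ = (w v * w v' * (w v)⁻¹ * (w v')⁻¹) * (ex i * ex j) * ((ex i)⁻¹ * (ex j)⁻¹) := by
          rw [((hexc i _).mul_left (hexc j _)).eq]
      _ = w v * w v' * (w v)⁻¹ * (w v')⁻¹ := by
          rw [mul_assoc (w v * w v' * (w v)⁻¹ * (w v')⁻¹), ← mul_assoc (ex i * ex j),
            mul_assoc (ex i) (ex j) _, ((hexc j (ex i)⁻¹)).eq]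
          group
  have hBadd : ∀ v v' u, B (v + v') u = B v u + B v' u := by
    intro v v' u
    refine hexinj2 ?_
    rw [hexadd, ← hBy (w v * w v') (w u) (v + v') u (by rw [map_mul, hw, hw, ha]) (hw u), ← hB v u,
      ← hB v' u]
    have h := (hexc (B v' u) (w v)).eq
    rw [← hB v' u] at h
    calc ⁅w v * w v', w u⁆ = w v * ⁅w v', w u⁆ * (w v)⁻¹ * ⁅w v, w u⁆ := by
          simp only [commutatorElement_def]; group
      _ = ⁅w v', w u⁆ * ⁅w v, w u⁆ := by rw [← h, mul_inv_cancel_right]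
      _ = ⁅w v, w u⁆ * ⁅w v', w u⁆ := by
          have h2 := (hexc (B v' u) ⁅w v, w u⁆).eq
          rwa [← hB v' u] at h2
  have hBswap : ∀ v u, B u v = -B v u := by
    intro v u
    refine hexinj2 ?_
    have h1 : ex (-B v u) * ex (B v u) = 1 := by rw [← hexadd, neg_add_cancel, hex0]
    rw [← hB u v, ← commutatorElement_inv (w v), hB v u, eq_inv_of_mul_eq_one_left h1]
  have hBadd' : ∀ v u u', B v (u + u') = B v u + B v u' := fun v u u' => by
    rw [hBswap, hBadd, hBswap v u, hBswap v u']; ring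
  have hBinv : ∀ k v u, B (tv k v) (tv k u) = B v u := by
    intro k v u
    obtain ⟨l, hl⟩ := hπ (g k)
    refine hexinj2 ?_
    rw [← hBy (l * w v * l⁻¹) (l * w u * l⁻¹) _ _ (by rw [map_mul, map_mul, map_inv, hl, hw, hg])
      (by rw [map_mul, map_mul, map_inv, hl, hw, hg]), ← conjugate_commutatorElement, hB v u,
      ← (hexc _ l).eq, mul_inv_cancel_right]
  let E : Fin 4 → V4 := fun i => Pi.single i 1
  have hBbil : ∀ v u, B v u = bil (fun i j => B (E i) (E j)) v u := by
    intro v u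
    rw [additive_eq_dot (fun v => B v u) (fun v v' => hBadd v v' u) v]
    show dot (fun i => B (E i) u) v = _
    rw [show (fun i => B (E i) u) = fun i => dot (fun j => B (E i) (E j)) u from
      funext fun i => additive_eq_dot (fun u => B (E i) u) (hBadd' (E i)) u]
    simp only [bil, dot]
    ring
  have halt : ∀ i j, B (E i) (E j) = altMat ![B (E 0) (E 1), B (E 0) (E 2), B (E 0) (E 3),
      B (E 1) (E 2), B (E 1) (E 3), B (E 2) (E 3)] i j := by
    have hd : ∀ i, B (E i) (E i) = 0 := fun i => by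
      have := hBswap (E i) (E i)
      exact (by decide : ∀ y : ZMod 3, y = -y → y = 0) _ this
    intro i j
    fin_cases i <;> fin_cases j <;> first
      | exact hd _
      | rfl
      | exact hBswap _ _
  have hB0 : ∀ v u, B v u = 0 := by
    intro v u
    have hz := alt_invariant ![B (E 0) (E 1), B (E 0) (E 2), B (E 0) (E 3),
      B (E 1) (E 2), B (E 1) (E 3), B (E 2) (E 3)] fun k i j => by
        rw [← halt, ← tv_single, ← tv_single,
          show altMat ![B (E 0) (E 1), B (E 0) (E 2), B (E 0) (E 3), B (E 1) (E 2), B (E 1) (E 3),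
            B (E 2) (E 3)] = fun i j => B (E i) (E j) from funext fun i => funext fun j => (halt i j).symm,
          ← hBbil, hBinv]
    rw [hBbil, show (fun i j => B (E i) (E j)) = altMat 0 from
      funext fun i => funext fun j => (halt i j).trans (by rw [hz])]
    have : ∀ i j, altMat 0 i j = 0 := by decide
    simp [bil, dot, this]
  have hcomm : ∀ y y' v v', π y = a v → π y' = a v' → Commute y y' := fun y y' v v' hy hy' => by
    rw [← commutatorElement_eq_one_iff_commute, hBy y y' v v' hy hy', hB0, hex0]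
  -- cubes
  have hcube : ∀ v, ∃ k, w v ^ 3 = ex k := fun v => hexk _ (by
    have h3 : v + (v + v) = 0 := funext fun i => zmod3_triple (v i)
    have ha0 : a 0 = 1 := mul_left_cancel (a := a 0) (by rw [← ha, add_zero, mul_one])
    rw [map_pow, hw, pow_succ', pow_two, ← ha, ← ha, h3, ha0])
  choose f hf using hcube
  have hfy : ∀ y v, π y = a v → y ^ 3 = ex (f v) := fun y v hy => by
    obtain ⟨i, rfl⟩ := hlift y v hy
    rw [(hexc i _).mul_pow, hf, ← pow_mul, mul_comm i.val, pow_mul, hx3, one_pow, one_mul]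
  have hfadd : ∀ v u, f (v + u) = f v + f u := fun v u => hexinj2 (by
    rw [hexadd, ← hfy (w v * w u) (v + u) (by rw [map_mul, hw, hw, ha]),
      (hcomm _ _ v u (hw v) (hw u)).mul_pow, hf, hf])
  have hfinv : ∀ k v, f (tv k v) = f v := by
    intro k v
    obtain ⟨l, hl⟩ := hπ (g k)
    refine hexinj2 ?_
    rw [← hfy (l * w v * l⁻¹) _ (by rw [map_mul, map_mul, map_inv, hl, hw, hg]), conj_pow, hf,
      ← (hexc _ l).eq, mul_inv_cancel_right]
  have hf0 : ∀ v, f v = 0 := by
    intro v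
    have hz := lin_invariant (fun i => f (Pi.single i 1)) fun k j => by
      rw [← tv_single, ← additive_eq_dot f hfadd, hfinv]
    rw [additive_eq_dot f hfadd, hz]
    simp [dot]
  have hw3 : ∀ v, w v ^ 3 = 1 := fun v => by rw [hf, hf0, hex0]
  -- the lifted group
  let u : Fin 4 → L := fun i => w (E i)
  let d : D5 → L := fun p => prod4 u p.1 * ex p.2
  have hu := prod4_add u (fun i => hw3 _) fun i j => hcomm _ _ _ _ (hw _) (hw _)
  have hdadd : ∀ p q, d (p + q) = d p * d q := by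
    intro p q
    show prod4 u (p + q).1 * ex (p + q).2 = prod4 u p.1 * ex p.2 * (prod4 u q.1 * ex q.2)
    rw [Prod.fst_add, Prod.snd_add, hu, hexadd]
    calc prod4 u p.1 * prod4 u q.1 * (ex p.2 * ex q.2)
        = prod4 u p.1 * (prod4 u q.1 * ex p.2) * ex q.2 := by group
      _ = prod4 u p.1 * (ex p.2 * prod4 u q.1) * ex q.2 := by rw [(hexc p.2 (prod4 u q.1)).eq]
      _ = _ := by group
  have hπd : ∀ p, π (d p) = a p.1 := by
    intro p
    show π (prod4 u p.1 * x ^ p.2.val) = _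
    rw [map_mul, map_pow, (hker x).2 (Subgroup.mem_zpowers x), one_pow, mul_one, map_eq_prod4 a ha p.1]
    simp only [prod4, map_mul, map_pow]
    simp only [u, hw, E]
  have hd0 : prod4 u 0 = 1 := by simp [prod4]
  have hdx : d (0, 1) = x := by
    show prod4 u 0 * x ^ (1 : ZMod 3).val = x
    rw [hd0, show (1 : ZMod 3).val = 1 from rfl, pow_one, one_mul]
  have hdinj : Function.Injective d := by
    intro p q h
    have h1 : p.1 = q.1 := hainj (by rw [← hπd, ← hπd, h])
    refine Prod.ext h1 (hexinj2 ?_)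
    have h2 : prod4 u p.1 * ex p.2 = prod4 u q.1 * ex q.2 := h
    rw [h1] at h2
    exact mul_left_cancel h2
  choose l hl using fun k => hπ (g k)
  have hshift : ∀ k v, ∃ j, l k * d (v, 0) * (l k)⁻¹ = d (tv k v, j) := by
    intro k v
    obtain ⟨j, hj⟩ := hexk ((d (tv k v, 0))⁻¹ * (l k * d (v, 0) * (l k)⁻¹)) (by
      rw [map_mul, map_mul, map_mul, map_inv, map_inv, hπd, hπd, hl, hg, inv_mul_cancel])
    refine ⟨j, ?_⟩
    rw [inv_mul_eq_iff_eq_mul] at hj
    rw [hj, show ((tv k v, j) : D5) = (tv k v, 0) + (0, j) by simp, hdadd]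
    show _ = _ * (prod4 u 0 * ex j)
    rw [hd0, one_mul]
  choose cf hcf using hshift
  have hcfadd : ∀ k v v', cf k (v + v') = cf k v + cf k v' := by
    intro k v v'
    have h := hcf k (v + v')
    rw [show ((v + v', (0 : ZMod 3)) : D5) = (v, 0) + (v', 0) by simp, hdadd, ← conj_mul, hcf, hcf,
      ← hdadd] at h
    exact ((congrArg Prod.snd (hdinj h)).symm : _)
  let c : Fin 4 → V4 := fun k i => cf k (Pi.single i 1)
  have hconj : ∀ k (p : D5), l k * d p * (l k)⁻¹ = d (tv k p.1, p.2 + dot (c k) p.1) := by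
    intro k p
    rw [← additive_eq_dot (cf k) (hcfadd k),
      show ((tv k p.1, p.2 + cf k p.1) : D5) = (tv k p.1, cf k p.1) + (0, p.2) by simp [add_comm],
      hdadd]
    conv_lhs => rw [show p = (p.1, 0) + (0, p.2) by simp, hdadd, ← conj_mul, hcf]
    congr 1
    show l k * (prod4 u 0 * ex p.2) * (l k)⁻¹ = prod4 u 0 * ex p.2
    rw [hd0, one_mul, ← (hexc _ (l k)).eq, mul_inv_cancel_right]
  -- identities
  let C : Fin 4 → D5 → D5 := fun k p => (tv k p.1, p.2 + dot (c k) p.1)
  have hpair : ∀ k m p, pair (aff c k m, 1) p = pair (m, 1) (C k p) := by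
    intro k m p
    show dot (tt k m + c k) p.1 + 1 * p.2 = dot m (tv k p.1) + 1 * (p.2 + dot (c k) p.1)
    rw [← dot_tt]
    simp only [dot, Pi.add_apply]; ring
  have hiter : ∀ k n p, d ((C k)^[n] p) = l k ^ n * d p * (l k ^ n)⁻¹ := by
    intro k n
    induction n with
    | zero => intro p; simp
    | succ n ih =>
      intro p
      rw [Function.iterate_succ_apply', ← hconj, ih, pow_succ']
      group
  have hpairn : ∀ k n m p, pair ((aff c k)^[n] m, 1) p = pair (m, 1) ((C k)^[n] p) := by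
    intro k n
    induction n with
    | zero => intro m p; rfl
    | succ n ih =>
      intro m p
      rw [Function.iterate_succ_apply', hpair, ih, ← Function.iterate_succ_apply]
  have hpw : ∀ k n, g k ^ n = 1 → ∀ m, (aff c k)^[n] m = m := by
    intro k n hgn m
    obtain ⟨j, hj⟩ := hexk (l k ^ n) (by rw [map_pow, hl, hgn])
    have hC : ∀ p, (C k)^[n] p = p := fun p => hdinj (by
      rw [hiter, hj, (hexc j (d p)).eq, mul_inv_cancel_right])
    exact congrArg Prod.fst (eq_of_pair (c := ((aff c k)^[n] m, 1)) (e := (m, 1)) fun p => by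
      rw [hpairn, hC])
  refine ⟨d, l, c, hdadd, hdinj, hdx, hconj, hpw 0 5 hg5, hpw 1 3 hg13, hpw 2 3 hg23, fun m => ?_⟩
  refine congrArg Prod.fst (eq_of_pair (c := (aff c 1 (aff c 2 m), 1)) (e := (aff c 2 (aff c 1 m), 1))
    fun p => ?_)
  rw [hpair, hpair, hpair, hpair]
  congr 1
  obtain ⟨j, hj⟩ := hexk ((l 2 * l 1)⁻¹ * (l 1 * l 2)) (by
    rw [map_mul, map_inv, map_mul, map_mul, hl, hl, hg12, inv_mul_cancel])
  rw [inv_mul_eq_iff_eq_mul] at hj
  refine hdinj ?_
  show d (C 2 (C 1 p)) = d (C 1 (C 2 p))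
  rw [show d (C 2 (C 1 p)) = l 2 * (l 1 * d p * (l 1)⁻¹) * (l 2)⁻¹ by rw [hconj 1, hconj 2],
    show d (C 1 (C 2 p)) = l 1 * (l 2 * d p * (l 2)⁻¹) * (l 1)⁻¹ by rw [hconj 2, hconj 1]]
  calc l 2 * (l 1 * d p * (l 1)⁻¹) * (l 2)⁻¹ = l 2 * l 1 * (ex j * d p * (ex j)⁻¹) * (l 2 * l 1)⁻¹ := by
        rw [(hexc j (d p)).eq, mul_inv_cancel_right]; group
    _ = l 2 * l 1 * ex j * d p * (l 2 * l 1 * ex j)⁻¹ := by group
    _ = l 1 * (l 2 * d p * (l 2)⁻¹) * (l 1)⁻¹ := by rw [← hj]; group

end CfsgLib.LargeFischer
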