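import Cfsg.Agent.LargeFischer.Outer

/-!
# The centralizer of an element of order three over the scalar

Every element of `L` lifts to it, and the lifts of the image of a conjugate of `Q` inside `L` lie in that
conjugate, for a suitable choice of the conjugate of `z` with the given class.
-/

set_option autoImplicit false
set_option linter.unusedSectionVars false
set_option linter.style.haveILetI false
set_option maxHeartbeats 1000000

namespace CfsgLib.LargeFischer

open Cfsg
open scoped commutatorElement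

variable {G : Type*} [Group G] [Finite G] {z : G} {Q : Subgroup (Cz z)} [Q.Normal]

theorem Data.eq_one_of_cube (D : Data z Q) {a : Cz z} (ha : a ∈ Q) (h3 : a ^ 3 = 1) : a = 1 := by
  have h1 : orderOf (⟨a, ha⟩ : Q) ∣ 3 := orderOf_dvd_of_pow_eq_one (Subtype.ext (by simpa using h3))
  have h2 : orderOf (⟨a, ha⟩ : Q) ∣ 2 ^ (2 * 6 + 1) := D.hS.2.2.2.1 ▸ orderOf_dvd_natCard _
  have h4 := Nat.dvd_gcd h1 h2
  norm_num at h4
  exact h4

/-- An element of order three over the scalar. -/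
structure Gen (D : Data z Q) where
  y : Cz z
  y3 : y ^ 3 = 1
  mk_y : (QuotientGroup.mk y : Cz z ⧸ Q) = (D.x : Cz z ⧸ Q)

/-- The scalar generates the image of every subgroup of order three with normal product with `Q`. -/
theorem Data.exists_gen (D : Data z Q) (X : Subgroup (Cz z)) (hX : Nat.card X = 3) (hXQ : (X ⊔ Q).Normal) :
    ∃ Y : Gen D, Subgroup.zpowers Y.y = X := by
  haveI : Fact (Nat.Prime 3) := ⟨by norm_num⟩
  obtain ⟨a, ha⟩ := exists_prime_orderOf_dvd_card' (G := X) 3 (by rw [hX])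
  set a' : Cz z := a.1 with ha'
  have ho : orderOf a' = 3 := by rw [ha', Subgroup.orderOf_coe, ha]
  have hgen : Subgroup.zpowers a' = X := Subgroup.eq_of_le_of_card_ge (Subgroup.zpowers_le.2 a.2)
    (by rw [hX, Nat.card_zpowers, ho])
  have h3 : a' ^ 3 = 1 := ho ▸ pow_orderOf_eq_one a'
  set m : Cz z ⧸ Q := QuotientGroup.mk a' with hm
  have hm3 : m ^ 3 = 1 := by rw [hm, ← QuotientGroup.mk_pow, h3]; rfl
  have hm1 : m ≠ 1 := fun h => by
    rw [hm, QuotientGroup.eq_one_iff] at h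
    have := D.eq_one_of_cube h h3
    rw [this, orderOf_one] at ho
    norm_num at ho
  have hmap : (X ⊔ Q).map (QuotientGroup.mk' Q) = Subgroup.zpowers m := by
    rw [Subgroup.map_sup, QuotientGroup.map_mk'_self, sup_bot_eq, ← hgen, MonoidHom.map_zpowers]
    rfl
  have hMn : (Subgroup.zpowers m).Normal := hmap ▸ hXQ.map _ (QuotientGroup.mk'_surjective Q)
  haveI := D.L_normal
  have hmL : m ∈ D.L := by
    have h2 : m * m ∈ D.L := Subgroup.mul_self_mem_of_index_two D.L_index m
    have h := D.L.mul_mem (D.L.one_mem) (D.L.inv_mem h2)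
    rw [one_mul] at h
    have e : (m * m)⁻¹ = m := inv_eq_of_mul_eq_one_right (by rw [← hm3, pow_succ, pow_two])
    rwa [e] at h
  set mL : D.L := ⟨m, hmL⟩
  have hN : (Subgroup.zpowers mL).Normal := ⟨fun u hu l => by
    obtain ⟨k, rfl⟩ := Subgroup.mem_zpowers_iff.1 hu
    obtain ⟨j, hj⟩ := Subgroup.mem_zpowers_iff.1 (hMn.conj_mem _ (Subgroup.zpow_mem_zpowers m k) l.1)
    exact Subgroup.mem_zpowers_iff.2 ⟨j, Subtype.ext (by simpa using hj)⟩⟩
  letI := D.fieldK
  letI := D.fintypeK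
  haveI : CharP D.K 3 := charP_of_card_eq_prime_pow (f := 2) (p := 3) (by rw [D.cardK]; norm_num)
  have hsimp : IsSimpleGroup (Cfsg.PSU 4 D.K 3) :=
    CfsgLib.Forms4.isSimpleGroup_PSU (by rw [D.cardK]; norm_num) 4 (by norm_num) (by norm_num)
  have hmx : mL ∈ Subgroup.zpowers D.x := by
    rcases (hN.map D.π D.π_surj).eq_bot_or_eq_top with h | h
    · exact (D.π_ker _).1 (by rw [← Subgroup.mem_bot, ← h]; exact ⟨_, Subgroup.mem_zpowers _, rfl⟩)
    · exfalso
      obtain ⟨ι, hι⟩ := CfsgLib.UThree.exists_iota D.cardK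
      have hc := CfsgLib.UFourThree.card_eq hι D.cardK
      have hd : Nat.card ((Subgroup.zpowers mL).map D.π) ∣ Nat.card (Subgroup.zpowers mL) :=
        Subgroup.card_dvd_of_surjective _ (D.π.subgroupMap_surjective _)
      rw [h, Subgroup.card_top, hc, Nat.card_zpowers] at hd
      have h3' : orderOf mL ∣ 3 := orderOf_dvd_of_pow_eq_one (Subtype.ext (by simpa using hm3))
      have := Nat.le_of_dvd (by norm_num) (hd.trans h3')
      norm_num at this
  have hx3 : orderOf D.x = 3 := orderOf_eq_prime D.x3 D.x_ne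
  obtain ⟨k, hk⟩ := Subgroup.mem_zpowers_iff.1 hmx
  rw [← zpow_mod_orderOf, hx3] at hk
  rcases (by omega : k % ((3 : ℕ) : ℤ) = 0 ∨ k % ((3 : ℕ) : ℤ) = 1 ∨ k % ((3 : ℕ) : ℤ) = 2) with e | e | e <;>
    rw [e] at hk
  · rw [zpow_zero] at hk
    exact absurd (congrArg Subtype.val hk).symm hm1
  · refine ⟨⟨a', h3, ?_⟩, hgen⟩
    rw [zpow_one] at hk
    exact (congrArg Subtype.val hk).symm
  · refine ⟨⟨a'⁻¹, by rw [inv_pow, h3, inv_one], ?_⟩, by rw [Subgroup.zpowers_inv, hgen]⟩
    have he : (D.x : Cz z ⧸ Q) ^ (2 : ℤ) = m := by simpa using congrArg Subtype.val hk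
    have hx : (D.x : Cz z ⧸ Q) ^ 3 = 1 := congrArg Subtype.val D.x3
    rw [QuotientGroup.mk_inv, ← hm, ← he, eq_comm, eq_inv_iff_mul_eq_one, ← hx, zpow_two, pow_succ', pow_two]

namespace Gen

variable {D : Data z Q} (Y : Gen D)

theorem act_y (v : QV Q) : actC Y.y v = D.setting.φ D.x v := by
  rw [← act_mk D.hS, Y.mk_y]; rfl

theorem center_of_fix {a : Q} (h : Commute (Y.y : Cz z) (a : Cz z)) : a ∈ Subgroup.center Q := by
  obtain ⟨F⟩ := D.exists_frame
  refine (vec_eq_zero D.hS).1 (F.x_fix _ ?_)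
  show D.setting.φ D.x (vec a) = vec a
  rw [← Y.act_y, actC_vec]
  congr 1
  exact Subtype.ext (by rw [conjIn_coe, h.eq, mul_inv_cancel_right])

/-- The elements of order three in the coset of the scalar are conjugate under `Q`. -/
theorem conj_of_coset {b : Cz z} (hb3 : b ^ 3 = 1) (hb : (QuotientGroup.mk b : Cz z ⧸ Q) = (D.x : Cz z ⧸ Q)) :
    ∃ q ∈ Q, q * Y.y * q⁻¹ = b := by
  haveI : Fact (Nat.Prime 3) := ⟨by norm_num⟩
  set T : Subgroup (Cz z) := (Subgroup.zpowers (D.x : Cz z ⧸ Q)).comap (QuotientGroup.mk' Q) with hT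
  have hx3 : orderOf (D.x : Cz z ⧸ Q) = 3 := by
    rw [Subgroup.orderOf_coe]; exact orderOf_eq_prime D.x3 D.x_ne
  have hcard : Nat.card T = 2 ^ 13 * 3 := by
    have h1 := ((QuotientGroup.mk' Q).comp T.subtype).ker.card_mul_index
    rw [Subgroup.index_ker, MonoidHom.range_comp, Subgroup.range_subtype, hT,
      Subgroup.map_comap_eq_self_of_surjective (QuotientGroup.mk'_surjective Q), Nat.card_zpowers, hx3] at h1
    rw [← h1]
    congr 1
    have hQT : Q ≤ T := fun a ha => by
      show QuotientGroup.mk' Q a ∈ Subgroup.zpowers _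
      rw [QuotientGroup.mk'_apply, (QuotientGroup.eq_one_iff a).2 ha]; exact one_mem _
    rw [show (2 : ℕ) ^ 13 = Nat.card Q from D.hS.2.2.2.1.symm,
      ← Nat.card_congr (Subgroup.subgroupOfEquivOfLe hQT).toEquiv]
    refine Nat.card_congr (Equiv.subtypeEquivRight fun a => ?_)
    rw [MonoidHom.mem_ker, Subgroup.mem_subgroupOf]
    exact QuotientGroup.eq_one_iff (N := Q) a.1
  have hmem : ∀ {c : Cz z}, (QuotientGroup.mk c : Cz z ⧸ Q) = (D.x : Cz z ⧸ Q) → c ∈ T := fun {c} hc => by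
    show QuotientGroup.mk' Q c ∈ Subgroup.zpowers _
    rw [QuotientGroup.mk'_apply, hc]; exact Subgroup.mem_zpowers _
  have hord : ∀ {c : Cz z}, c ^ 3 = 1 → (QuotientGroup.mk c : Cz z ⧸ Q) = (D.x : Cz z ⧸ Q) → orderOf c = 3 :=
    fun {c} h3 hc => orderOf_eq_prime h3 fun h => by
      rw [h, QuotientGroup.mk_one] at hc
      exact D.x_ne (Subtype.ext hc.symm)
  have hf : (Nat.card T).factorization 3 = 1 := by
    rw [hcard, Nat.factorization_mul (by norm_num) (by norm_num), Finsupp.add_apply,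
      Nat.Prime.factorization_pow (by norm_num), Nat.Prime.factorization_self (by norm_num)]
    simp
  let mkS : ∀ c : Cz z, c ^ 3 = 1 → (QuotientGroup.mk c : Cz z ⧸ Q) = (D.x : Cz z ⧸ Q) → Sylow 3 T :=
    fun c h3 hc => Sylow.ofCard (Subgroup.zpowers (⟨c, hmem hc⟩ : T)) (by
      rw [Nat.card_zpowers, hf, pow_one, ← Subgroup.orderOf_coe]
      exact hord h3 hc)
  obtain ⟨t, ht⟩ := MulAction.exists_smul_eq T (mkS Y.y Y.y3 Y.mk_y) (mkS b hb3 hb)
  have hmem' : t * (⟨Y.y, hmem Y.mk_y⟩ : T) * t⁻¹ ∈ ((mkS b hb3 hb : Sylow 3 T) : Subgroup T) := by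
    rw [← ht]
    exact ⟨⟨Y.y, hmem Y.mk_y⟩, Subgroup.mem_zpowers _, by simp⟩
  obtain ⟨j, hj⟩ := Subgroup.mem_zpowers_iff.1 (show t * (⟨Y.y, hmem Y.mk_y⟩ : T) * t⁻¹ ∈
    Subgroup.zpowers (⟨b, hmem hb⟩ : T) from hmem')
  have hj' : b ^ j = (t : Cz z) * Y.y * (t : Cz z)⁻¹ := by
    have := congrArg Subtype.val hj
    simpa using this
  obtain ⟨i, hi⟩ := Subgroup.mem_zpowers_iff.1 (show QuotientGroup.mk' Q (t : Cz z) ∈ Subgroup.zpowers _ from t.2)
  refine ⟨(t : Cz z) * (Y.y ^ i)⁻¹, ?_, ?_⟩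
  · rw [← QuotientGroup.eq_one_iff, QuotientGroup.mk_mul, QuotientGroup.mk_inv, QuotientGroup.mk_zpow, Y.mk_y, hi]
    exact mul_inv_cancel _
  · have hc : (Y.y ^ i)⁻¹ * Y.y * ((Y.y ^ i)⁻¹)⁻¹ = Y.y := by group
    calc (t : Cz z) * (Y.y ^ i)⁻¹ * Y.y * ((t : Cz z) * (Y.y ^ i)⁻¹)⁻¹
        = (t : Cz z) * ((Y.y ^ i)⁻¹ * Y.y * ((Y.y ^ i)⁻¹)⁻¹) * (t : Cz z)⁻¹ := by group
      _ = (t : Cz z) * Y.y * (t : Cz z)⁻¹ := by rw [hc]
      _ = b := by
        rw [← hj']
        have he : (QuotientGroup.mk (b ^ (j - 1)) : Cz z ⧸ Q) = 1 := by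
          have h1 : (QuotientGroup.mk ((t : Cz z) * Y.y * (t : Cz z)⁻¹) : Cz z ⧸ Q) = (D.x : Cz z ⧸ Q) := by
            rw [QuotientGroup.mk_mul, QuotientGroup.mk_mul, Y.mk_y, QuotientGroup.mk_inv,
              show (QuotientGroup.mk (t : Cz z) : Cz z ⧸ Q) = _ from hi.symm,
              ← zpow_add_one, add_comm, zpow_add, zpow_one, mul_inv_cancel_right]
          rw [← hj', QuotientGroup.mk_zpow, hb] at h1
          rw [QuotientGroup.mk_zpow, hb, zpow_sub, zpow_one, h1, mul_inv_cancel]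
        have h0 : b ^ (j - 1) = 1 := D.eq_one_of_cube ((QuotientGroup.eq_one_iff _).1 he) (by
          rw [← zpow_natCast, ← zpow_mul, mul_comm, zpow_mul, zpow_natCast, hb3, one_zpow])
        rw [zpow_sub, zpow_one, mul_inv_eq_one] at h0
        exact h0

/-- Elements of `L` lift to the centralizer. -/
theorem exists_lift {h : Cz z ⧸ Q} (hh : h ∈ D.L) :
    ∃ n : Cz z, (QuotientGroup.mk n : Cz z ⧸ Q) = h ∧ Commute n Y.y := by
  obtain ⟨n, rfl⟩ := QuotientGroup.mk_surjective h
  have hc : (QuotientGroup.mk (n * Y.y * n⁻¹) : Cz z ⧸ Q) = (D.x : Cz z ⧸ Q) := by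
    rw [QuotientGroup.mk_mul, QuotientGroup.mk_mul, Y.mk_y, QuotientGroup.mk_inv, mul_inv_eq_iff_eq_mul]
    exact congrArg Subtype.val (Subgroup.mem_center_iff.1 D.x_center ⟨_, hh⟩)
  obtain ⟨q, hq, he⟩ := Y.conj_of_coset (by rw [conj_pow, Y.y3, mul_one, mul_inv_cancel]) hc
  refine ⟨q⁻¹ * n, by rw [QuotientGroup.mk_mul, QuotientGroup.mk_inv, (QuotientGroup.eq_one_iff q).2 hq,
    inv_one, one_mul], ?_⟩
  calc q⁻¹ * n * Y.y = q⁻¹ * (n * Y.y * n⁻¹) * n := by group
    _ = Y.y * (q⁻¹ * n) := by rw [← he]; group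

/-- The centralizer maps into `L`. -/
theorem mk_mem {n : Cz z} (hn : Commute n Y.y) : (QuotientGroup.mk n : Cz z ⧸ Q) ∈ D.L := by
  by_contra h
  have h1 := D.outer_inverts h
  rw [← Y.mk_y, ← QuotientGroup.mk_mul, ← QuotientGroup.mk_inv, ← QuotientGroup.mk_mul, hn.eq,
    mul_inv_cancel_right, Y.mk_y, eq_inv_iff_mul_eq_one] at h1
  refine D.x_ne (Subtype.ext ?_)
  have h3 : (D.x : Cz z ⧸ Q) ^ 3 = 1 := congrArg Subtype.val D.x3
  rwa [pow_succ, pow_two, h1, one_mul] at h3

end Gen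

/-- The element of the centre with a given exponent. -/
def zp (hS : IsExtraspecialCentralizerSetting z Q 6) (t : ZMod 2) : Q := zin hS ^ t.val

section center

variable (hS : IsExtraspecialCentralizerSetting z Q 6)
include hS

theorem zp_zero : zp hS 0 = 1 := pow_zero _

theorem zp_one : zp hS 1 = zin hS := pow_one _

theorem zp_mem (t : ZMod 2) : zp hS t ∈ Subgroup.center Q :=
  pow_mem ((mem_center_cases hS).2 (Or.inr rfl)) _

theorem zp_add (s t : ZMod 2) : zp hS (s + t) = zp hS s * zp hS t := by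
  rcases (by decide : ∀ a : ZMod 2, a = 0 ∨ a = 1) s with rfl | rfl <;>
    rcases (by decide : ∀ a : ZMod 2, a = 0 ∨ a = 1) t with rfl | rfl <;>
    simp [zp_zero, zp_one, show (1 : ZMod 2) + 1 = 0 from rfl, zin_sq]

theorem zp_eq_one {t : ZMod 2} (h : zp hS t = 1) : t = 0 := by
  rcases (by decide : ∀ a : ZMod 2, a = 0 ∨ a = 1) t with rfl | rfl
  · rfl
  · exact absurd (zp_one hS ▸ h) (zin_ne_one hS)

theorem mul_swap' (a b : Q) : a * b = b * a * zp hS (bf hS (vec a) (vec b)) := by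
  rcases (by decide : ∀ a : ZMod 2, a = 0 ∨ a = 1) (bf hS (vec a) (vec b)) with h | h <;> rw [h]
  · rw [zp_zero, mul_one]; exact ((bf_eq_zero_iff hS a b).1 h).eq
  · have hc : ⁅a, b⁆ = zin hS := (comm_center hS a b).resolve_left fun e => by
      rw [(bf_eq_zero_iff hS a b).2 (commutatorElement_eq_one_iff_commute.1 e)] at h
      exact zero_ne_one h
    rw [zp_one, Subgroup.mem_center_iff.1 ((mem_center_cases hS).2 (Or.inr rfl)) (b * a), ← hc,
      commutatorElement_def]
    group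

theorem conjIn_zp (h : Cz z) (t : ZMod 2) : conjIn h (zp hS t) = zp hS t := by
  rw [zp, map_pow]
  congr 1
  refine Subtype.ext (Subtype.ext ?_)
  rw [conjIn_coe]
  show (h : G) * z * (h : G)⁻¹ = z
  rw [Subgroup.mem_centralizer_singleton_iff.1 h.2, mul_inv_cancel_right]

theorem bf_comm' (u v : QV Q) : bf hS u v = bf hS v u := by
  unfold bf; rw [add_comm]; ring

theorem bf_conjIn (h : Cz z) (a b : Q) : bf hS (vec (conjIn h a)) (vec (conjIn h b)) = bf hS (vec a) (vec b) := by
  rw [← actC_vec, ← actC_vec, ← act_mk hS, ← act_mk hS, bf, bf, ← map_add, qf_act, qf_act, qf_act]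

theorem shuffle (u x u' x' u'' x'' : Q) : u * x * (u' * x') * (u'' * x'') =
    u * u' * u'' * (x * x' * x'') * zp hS (bf hS (vec x) (vec u') + (bf hS (vec x) (vec u'') +
      bf hS (vec x') (vec u''))) := by
  have hc : ∀ t w, w * zp hS t = zp hS t * w := fun t w => Subgroup.mem_center_iff.1 (zp_mem hS t) w
  have hr : ∀ t a b, a * zp hS t * b = a * b * zp hS t := fun t a b => by rw [mul_assoc, ← hc, mul_assoc]
  have e1 := mul_swap' hS x u'
  have e2 := mul_swap' hS x' u''
  have e3 := mul_swap' hS x u''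
  have hp := hr (bf hS (vec x) (vec u'))
  have hq := hr (bf hS (vec x) (vec u''))
  have hr' := hr (bf hS (vec x') (vec u''))
  rw [zp_add, zp_add]
  generalize zp hS (bf hS (vec x) (vec u')) = p, zp hS (bf hS (vec x) (vec u'')) = q,
    zp hS (bf hS (vec x') (vec u'')) = r at e1 e2 e3 hp hq hr' ⊢
  calc u * x * (u' * x') * (u'' * x'') = u * (x * u') * (x' * u'') * x'' := by group
    _ = u * (u' * x * p) * (u'' * x' * r) * x'' := by rw [e1, e2]
    _ = _ := ?_
  calc u * (u' * x * p) * (u'' * x' * r) * x'' = u * u' * x * p * (u'' * x') * r * x'' := by group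
      _ = u * u' * x * (u'' * x') * x'' * p * r := by rw [hr', hp, hp]
      _ = u * u' * (x * u'') * (x' * x'') * p * r := by group
      _ = u * u' * u'' * x * q * (x' * x'') * p * r := by rw [e3]; group
      _ = u * u' * u'' * x * (x' * x'') * q * p * r := by rw [hq]
      _ = u * u' * u'' * x * (x' * x'') * p * q * r := by rw [hq]
      _ = _ := by group

end center

namespace Gen

variable {D : Data z Q} (Y : Gen D)

/-- The product over the orbit of the element of order three. -/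
def norm3 (a : Q) : Q := a * conjIn Y.y a * conjIn Y.y (conjIn Y.y a)

theorem norm3_mem (a : Q) : Y.norm3 a ∈ Subgroup.center Q := by
  obtain ⟨F⟩ := D.exists_frame
  refine (vec_eq_zero D.hS).1 ?_
  rw [norm3, vec_mul, vec_mul]
  simp only [← actC_vec, Y.act_y]
  refine F.coord.injective (funext fun i => ?_)
  rw [map_add, map_add, map_zero]
  have hx' : ∀ v, F.coord (D.setting.φ D.x v) i = rW (F.coord v i) := fun v => F.coord_x v i
  simp only [Pi.add_apply, hx']
  exact (by decide : ∀ w : W, w + rW w + rW (rW w) = 0) _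

/-- The conjugate of `z` with the same class whose orbit product is trivial. -/
theorem exists_canonical {g : G} {x : Q} (hgx : g * z * g⁻¹ = toG x) (hx : x ∉ Subgroup.center Q) :
    ∃ (g' : G) (x' : Q), g' * z * g'⁻¹ = toG x' ∧ x' ∉ Subgroup.center Q ∧ Y.norm3 x' = 1 := by
  rcases (mem_center_cases D.hS).1 (Y.norm3_mem x) with h | h
  · exact ⟨g, x, hgx, hx, h⟩
  have hz := zp_one D.hS
  set x' := x * zin D.hS with hx'
  have hv : vec x = vec x' := by
    rw [hx', vec_mul, (vec_eq_zero D.hS).2 ((mem_center_cases D.hS).2 (Or.inr rfl)), add_zero]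
  obtain ⟨b, hb⟩ := conj_of_vec_eq D.hS hx hv
  refine ⟨toG b * g, x', ?_, fun h' => hx ((vec_eq_zero D.hS).1 (hv.trans ((vec_eq_zero D.hS).2 h'))), ?_⟩
  · rw [← hb]
    show toG b * g * z * (toG b * g)⁻¹ = toG b * toG x * (toG b)⁻¹
    rw [← hgx]; group
  · have hc : ∀ w, w * zin D.hS = zin D.hS * w := fun w =>
      Subgroup.mem_center_iff.1 ((mem_center_cases D.hS).2 (Or.inr rfl)) w
    have e : ∀ w, conjIn Y.y (w * zin D.hS) = conjIn Y.y w * zin D.hS := fun w => by
      rw [map_mul, ← hz, conjIn_zp, hz]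
    rw [norm3, hx', e, e]
    calc x * zin D.hS * (conjIn Y.y x * zin D.hS) * (conjIn Y.y (conjIn Y.y x) * zin D.hS)
        = x * conjIn Y.y x * conjIn Y.y (conjIn Y.y x) * (zin D.hS * zin D.hS) * zin D.hS := by
          generalize conjIn Y.y x = a, conjIn Y.y (conjIn Y.y x) = b
          generalize zin D.hS = c at hc ⊢
          calc x * c * (a * c) * (b * c) = x * (c * a) * (c * b) * c := by group
            _ = x * (a * c) * (b * c) * c := by rw [← hc, ← hc]
            _ = x * a * (c * b) * (c * c) := by group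
            _ = x * a * (b * c) * (c * c) := by rw [← hc]
            _ = x * a * b * (c * c) * c := by group
      _ = 1 := by
        rw [show x * conjIn Y.y x * conjIn Y.y (conjIn Y.y x) = zin D.hS from h, zin_sq, mul_one, zin_sq]

section meet

variable {g : G} {x : Q} (hgx : g * z * g⁻¹ = toG x) (hx : x ∉ Subgroup.center Q) (hnorm : Y.norm3 x = 1)

/-- The meeting with the conjugate, inside `Q`. -/
def meetQ (g : G) (Q : Subgroup (Cz z)) : Subgroup Q :=
  (inG Q ⊓ conjQ Q g).comap ((Cz z).subtype.comp Q.subtype)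

theorem mem_meetQ {u : Q} : u ∈ meetQ g Q ↔ toG u ∈ conjQ Q g :=
  ⟨fun h => h.2, fun h => ⟨mem_inG.2 ⟨u, rfl⟩, h⟩⟩

include Y

include hgx hx in
theorem centralizer_meet {v : Q} (hv : ∀ u ∈ meetQ g Q, Commute v u) : v ∈ meetQ g Q := by
  haveI : Fact (Nat.Prime 2) := ⟨Nat.prime_two⟩
  obtain ⟨C⟩ := D.exists_coords
  obtain ⟨-, -, hm, -⟩ := image_main D hgx hx C
  set K := meetQ g Q
  have hzg := z_mem_conjQ D hgx hx
  have hcard : Nat.card K = 128 := by
    rw [← hm]
    refine Nat.card_congr (Equiv.ofBijective (fun a : K => ⟨toG a.1, a.2⟩) ⟨fun a b h => ?_, ?_⟩)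
    · exact Subtype.ext (Subtype.ext (Subtype.ext (congrArg Subtype.val h :)))
    · rintro ⟨a, ha⟩
      obtain ⟨q, rfl⟩ := mem_inG.1 ha.1
      exact ⟨⟨q, ha⟩, rfl⟩
  have hZK : Subgroup.center Q ≤ K := fun c hc => by
    rcases (mem_center_cases D.hS).1 hc with rfl | rfl
    · exact one_mem _
    · exact mem_meetQ.2 hzg
  have hle : K ≤ Subgroup.centralizer (K : Set Q) := fun a ha =>
    Subgroup.mem_centralizer_iff.2 fun b hb => by
      have h := congrArg Subtype.val (((meet_facts D hgx hx).1.1).is_comm.comm ⟨toG b, hb⟩ ⟨toG a, ha⟩)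
      exact Subtype.ext (Subtype.ext h)
  have hc := CfsgLib.ExtraspecialBasic.card_centralizer_mul_card D.hS.2.2.1 hZK
  rw [D.hS.2.2.2.1, hcard] at hc
  have h2 : Nat.card (Subgroup.centralizer (K : Set Q)) = 128 :=
    Nat.eq_of_mul_eq_mul_right (by norm_num) (hc.trans (by norm_num) : _ = 128 * 128)
  rw [Subgroup.eq_of_le_of_card_ge hle (by rw [h2, hcard])]
  exact Subgroup.mem_centralizer_iff.2 fun u hu => (hv u hu).eq.symm

include hgx in
/-- An element of the conjugate centralizing the meeting lies in `Q`. -/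
theorem mem_of_centralizer (hx : x ∉ Subgroup.center Q) {r : Cz z} (hr : (r : G) ∈ conjQ Q g)
    (hc : ∀ u ∈ meetQ g Q, Commute (r : G) (toG u)) : r ∈ Q := by
  haveI : Fact (Nat.Prime 2) := ⟨Nat.prime_two⟩
  obtain ⟨C⟩ := D.exists_coords
  obtain ⟨-, -, hm, -⟩ := image_main D hgx hx C
  -- inside the conjugate the meeting is its own centralizer
  set K : Subgroup Q := (inG Q ⊓ conjQ Q g).comap
    ((MulAut.conj g).toMonoidHom.comp ((Cz z).subtype.comp Q.subtype)) with hK
  have hmemK : ∀ {a : Q}, a ∈ K ↔ g * toG a * g⁻¹ ∈ inG Q ⊓ conjQ Q g := Iff.rfl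
  have hxm := x_mem_conjQ D hgx
  have hcard : Nat.card K = 128 := by
    rw [← hm]
    refine Nat.card_congr (Equiv.ofBijective (fun a : K => ⟨g * toG a.1 * g⁻¹, a.2⟩) ⟨fun a b h => ?_, ?_⟩)
    · have h' := mul_left_cancel (mul_right_cancel (congrArg Subtype.val h :))
      exact Subtype.ext (Subtype.ext (Subtype.ext h'))
    · rintro ⟨a, ha⟩
      obtain ⟨q, hq⟩ := mem_inG.1 (mem_conjQ.1 ha.2)
      have he : g * toG q * g⁻¹ = a := by rw [hq]; group
      exact ⟨⟨q, by rw [hmemK, he]; exact ha⟩, Subtype.ext he⟩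
  have hZK : Subgroup.center Q ≤ K := fun c hc' => by
    rw [hmemK]
    rcases (mem_center_cases D.hS).1 hc' with rfl | rfl
    · rw [show g * toG (1 : Q) * g⁻¹ = 1 by simp]; exact one_mem _
    · rw [show g * toG (zin D.hS) * g⁻¹ = toG x from hgx]
      exact ⟨mem_inG.2 ⟨x, rfl⟩, hxm⟩
  have hle : K ≤ Subgroup.centralizer (K : Set Q) := fun a ha =>
    Subgroup.mem_centralizer_iff.2 fun b hb => Subtype.ext (Subtype.ext (mul_left_cancel (a := g)
      (mul_right_cancel (b := g⁻¹) (by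
        have := congrArg Subtype.val (((meet_facts D hgx hx).1.1).is_comm.comm
          ⟨g * toG b * g⁻¹, hb⟩ ⟨g * toG a * g⁻¹, ha⟩)
        show g * (toG b * toG a) * g⁻¹ = g * (toG a * toG b) * g⁻¹
        calc g * (toG b * toG a) * g⁻¹ = g * toG b * g⁻¹ * (g * toG a * g⁻¹) := by group
          _ = g * toG a * g⁻¹ * (g * toG b * g⁻¹) := this
          _ = g * (toG a * toG b) * g⁻¹ := by group))))
  have hc' := CfsgLib.ExtraspecialBasic.card_centralizer_mul_card D.hS.2.2.1 hZK
  rw [D.hS.2.2.2.1, hcard] at hc'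
  have h2 : Nat.card (Subgroup.centralizer (K : Set Q)) = 128 :=
    Nat.eq_of_mul_eq_mul_right (by norm_num) (hc'.trans (by norm_num) : _ = 128 * 128)
  obtain ⟨q, hq⟩ := mem_inG.1 (mem_conjQ.1 hr)
  have he : g * toG q * g⁻¹ = (r : G) := by rw [hq]; group
  have hqK : q ∈ K := by
    rw [Subgroup.eq_of_le_of_card_ge hle (by rw [h2, hcard]), Subgroup.mem_centralizer_iff]
    intro a ha
    obtain ⟨u, hu⟩ := mem_inG.1 ha.1
    have h1 := hc u (mem_meetQ.2 (hu ▸ ha.2))
    rw [hu, ← he] at h1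
    refine Subtype.ext (Subtype.ext (mul_left_cancel (a := g) (mul_right_cancel (b := g⁻¹) ?_)))
    show g * (toG a * toG q) * g⁻¹ = g * (toG q * toG a) * g⁻¹
    calc g * (toG a * toG q) * g⁻¹ = g * toG a * g⁻¹ * (g * toG q * g⁻¹) := by group
      _ = g * toG q * g⁻¹ * (g * toG a * g⁻¹) := h1.eq.symm
      _ = g * (toG q * toG a) * g⁻¹ := by group
  rw [hmemK, he] at hqK
  obtain ⟨u, hu⟩ := mem_inG.1 hqK.1
  rw [show r = (u : Cz z) from Subtype.ext hu.symm]
  exact u.2

include hgx hx hnorm in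
/-- A lift with a part outside the conjugate acts on the meeting by the functional of the scalar. -/
theorem bad_lift {n r : Cz z} {v : Q} (hn : Commute n Y.y) (hnr : n = r * v) (hr : (r : G) ∈ conjQ Q g)
    (hv : v ∉ meetQ g Q) {u : Q} (hu : u ∈ meetQ g Q) :
    Commute (r : G) (toG u) ↔ bf D.hS (vec x) (vec (conjIn Y.y (conjIn Y.y u))) = 0 := by
  have hS := D.hS
  have hrz : conjIn r x = x := by
    refine Subtype.ext (Subtype.ext ?_)
    rw [conjIn_coe]
    show (r : G) * toG x * (r : G)⁻¹ = toG x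
    obtain ⟨b, hb, e⟩ := hr
    have h1 : Commute b z := Subgroup.mem_centralizer_singleton_iff.1 (inG_le hb)
    have h2 := h1.map (MulAut.conj g).toMonoidHom
    rw [show (MulAut.conj g).toMonoidHom z = toG x from hgx, e] at h2
    rw [h2.eq, mul_inv_cancel_right]
  -- `r` moves elements of the meeting by `x`
  have hlam : ∀ w ∈ meetQ g Q, ∃ l : ZMod 2, conjIn r w = w * x ^ l.val ∧ (l = 0 ↔ Commute (r : G) (toG w)) := by
    intro w hw
    by_cases hc : Commute (r : G) (toG w)
    · refine ⟨0, ?_, iff_of_true rfl hc⟩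
      refine Subtype.ext (Subtype.ext ?_)
      simp only [ZMod.val_zero, pow_zero, mul_one, conjIn_coe]
      show (r : G) * toG w * (r : G)⁻¹ = toG w
      rw [hc.eq, mul_inv_cancel_right]
    · refine ⟨1, ?_, iff_of_false (by decide) hc⟩
      have h := (comm_conjQ D hgx hr (mem_meetQ.1 hw)).resolve_left fun e =>
        hc (commutatorElement_eq_one_iff_commute.1 e)
      refine Subtype.ext (Subtype.ext ?_)
      rw [ZMod.val_one, pow_one, conjIn_coe]
      show (r : G) * toG w * (r : G)⁻¹ = toG w * toG x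
      have hwx : Commute (toG x) (toG w) :=
        congrArg Subtype.val (((meet_facts D hgx hx).1.1).is_comm.comm
          ⟨toG x, mem_inG.2 ⟨x, rfl⟩, x_mem_conjQ D hgx⟩ ⟨toG w, hw⟩)
      rw [← hwx.eq, ← h, commutatorElement_def]
      group
  have hpsi : ∀ w ∈ meetQ g Q, ∀ l : ZMod 2, conjIn r w = w * x ^ l.val →
      conjIn n w = w * x ^ l.val * zp hS (bf hS (vec v) (vec w)) := by
    intro w _ l hl
    rw [hnr, conjIn_mul, show conjIn (v : Cz z) w = w * zp hS (bf hS (vec v) (vec w)) from ?_, map_mul, hl,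
      conjIn_zp]
    have h := mul_swap' hS v w
    calc conjIn (v : Cz z) w = v * w * v⁻¹ := Subtype.ext (by rw [conjIn_coe]; rfl)
      _ = w * zp hS (bf hS (vec v) (vec w)) := by
        rw [h, mul_assoc (w * v), ← Subgroup.mem_center_iff.1 (zp_mem hS (bf hS (vec v) (vec w))) v⁻¹]
        group
  have hcomm : ∀ w, conjIn n (conjIn Y.y w) = conjIn Y.y (conjIn n w) := fun w => by
    rw [← conjIn_mul (Q := Q), hn.eq, conjIn_mul]
  -- the relation between the three functionals
  have key : ∀ w ∈ meetQ g Q, ∀ l : ZMod 2, conjIn r w = w * x ^ l.val →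
      bf hS (vec v) (vec w) = l * bf hS (vec x) (vec (conjIn Y.y (conjIn Y.y w))) := by
    intro w hw l hl
    set u' := conjIn Y.y w
    set u'' := conjIn Y.y u'
    set m := bf hS (vec v) (vec w)
    have e0 := hpsi w hw l hl
    have e1 : conjIn n u' = u' * (conjIn Y.y x) ^ l.val * zp hS m := by
      rw [hcomm, e0, map_mul, map_mul, map_pow, conjIn_zp]
    have e2 : conjIn n u'' = u'' * (conjIn Y.y (conjIn Y.y x)) ^ l.val * zp hS m := by
      rw [hcomm, e1, map_mul, map_mul, map_pow, conjIn_zp]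
    obtain ⟨t, ht⟩ : ∃ t, Y.norm3 w = zp hS t := by
      rcases (mem_center_cases hS).1 (Y.norm3_mem w) with h | h
      exacts [⟨0, h.trans (zp_zero hS).symm⟩, ⟨1, h.trans (zp_one hS).symm⟩]
    have hp : conjIn n (w * u' * u'') = w * u' * u'' := by
      show conjIn n (Y.norm3 w) = Y.norm3 w
      rw [ht, conjIn_zp]
    rw [map_mul, map_mul, e0, e1, e2] at hp
    have hc : ∀ t w, w * zp hS t = zp hS t * w := fun t w => Subgroup.mem_center_iff.1 (zp_mem hS t) w
    have e3 : ∀ a b c : Q, a * zp hS m * (b * zp hS m) * (c * zp hS m) = a * b * c * zp hS (m + m + m) := by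
      intro a b c
      rw [zp_add, zp_add]
      have hcp := hc m
      generalize zp hS m = p at hcp ⊢
      have hp : ∀ w, p * w = w * p := fun w => (hcp w).symm
      calc a * p * (b * p) * (c * p) = a * (p * b) * (p * c) * p := by group
        _ = a * (b * p) * (c * p) * p := by rw [hp b, hp c]
        _ = a * b * (p * c) * (p * p) := by group
        _ = a * b * (c * p) * (p * p) := by rw [hp c]
        _ = a * b * c * (p * p * p) := by group
    rw [e3] at hp
    rcases (by decide : ∀ a : ZMod 2, a = 0 ∨ a = 1) l with rfl | rfl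
    · simp only [ZMod.val_zero, pow_zero, mul_one] at hp
      rw [zero_mul]
      have := zp_eq_one hS (mul_eq_left.1 hp)
      revert this; generalize m = m; revert m; decide
    · simp only [ZMod.val_one, pow_one] at hp
      rw [shuffle hS, show x * conjIn Y.y x * conjIn Y.y (conjIn Y.y x) = 1 from hnorm, mul_one,
        mul_assoc, ← zp_add] at hp
      have h := zp_eq_one hS (mul_eq_left.1 hp)
      rw [show bf hS (vec (conjIn Y.y x)) (vec u'') = bf hS (vec x) (vec u') from bf_conjIn hS Y.y x u'] at h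
      rw [one_mul]
      revert h
      generalize bf hS (vec x) (vec u') = p, bf hS (vec x) (vec u'') = q, m = m
      revert p q m; decide
  obtain ⟨u₀, hu₀, hne⟩ : ∃ u₀ ∈ meetQ g Q, bf hS (vec v) (vec u₀) ≠ 0 := by
    by_contra h
    push Not at h
    exact hv (Y.centralizer_meet hgx hx fun w hw => (bf_eq_zero_iff hS v w).1 (h w hw))
  obtain ⟨l₀, hl₀, -⟩ := hlam u₀ hu₀
  obtain ⟨l, hl, hl0⟩ := hlam u hu
  have k0 := key u₀ hu₀ l₀ hl₀
  have k1 := key u hu l hl
  have k2 := key (u₀ * u) (mul_mem hu₀ hu) (l₀ + l) (by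
    rw [map_mul, hl₀, hl]
    have hxu : Commute (x ^ l₀.val) u := by
      refine Commute.pow_left ?_ _
      have h := congrArg Subtype.val (((meet_facts D hgx hx).1.1).is_comm.comm
        ⟨toG x, mem_inG.2 ⟨x, rfl⟩, x_mem_conjQ D hgx⟩ ⟨toG u, hu⟩)
      exact Subtype.ext (Subtype.ext h)
    have hxx : x ^ (l₀ + l).val = x ^ l₀.val * x ^ l.val := by
      have hx2 : x * x = 1 := by
        refine Subtype.ext (Subtype.ext ?_)
        have hz2 : z * z = 1 := by rw [← pow_two, ← hS.1]; exact pow_orderOf_eq_one z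
        show toG x * toG x = 1
        rw [← hgx]
        calc g * z * g⁻¹ * (g * z * g⁻¹) = g * (z * z) * g⁻¹ := by group
          _ = 1 := by rw [hz2, mul_one, mul_inv_cancel]
      rcases (by decide : ∀ a : ZMod 2, a = 0 ∨ a = 1) l₀ with rfl | rfl <;>
        rcases (by decide : ∀ a : ZMod 2, a = 0 ∨ a = 1) l with rfl | rfl <;>
        simp [show (1 : ZMod 2) + 1 = 0 from rfl, hx2, ZMod.val_one]
    rw [hxx, mul_assoc u₀, ← mul_assoc (x ^ l₀.val), hxu.eq]
    simp only [mul_assoc])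
  rw [map_mul, map_mul, vec_mul, vec_mul, bf_add, bf_add] at k2
  rw [← hl0]
  clear hl hl₀ hl0
  revert hne k0 k1 k2
  generalize bf hS (vec v) (vec u₀) = a, bf hS (vec v) (vec u) = b,
    bf hS (vec x) (vec (conjIn Y.y (conjIn Y.y u₀))) = c, bf hS (vec x) (vec (conjIn Y.y (conjIn Y.y u))) = d
  revert a b c d l₀ l
  decide

include hgx hx hnorm in
/-- The lifts of the part of the image in `L` lie in the conjugate. -/
theorem lift_mem {n : Cz z} (hn : Commute n Y.y) (hne : (QuotientGroup.mk n : Cz z ⧸ Q) ∈ eImage Q g) :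
    (n : G) ∈ conjQ Q g := by
  classical
  have hdec : ∀ {m : Cz z}, (QuotientGroup.mk m : Cz z ⧸ Q) ∈ eImage Q g →
      ∃ (r : Cz z) (v : Q), (r : G) ∈ conjQ Q g ∧ m = r * v := fun {m} hm => by
    obtain ⟨r, hr, e⟩ := hm
    exact ⟨r, ⟨r⁻¹ * m, QuotientGroup.eq.1 e⟩, hr.1, (mul_inv_cancel_left r m).symm⟩
  -- two bad lifts have the same image
  have hbad : ∀ {m m' : Cz z}, Commute m Y.y → Commute m' Y.y → (QuotientGroup.mk m : Cz z ⧸ Q) ∈ eImage Q g →
      (QuotientGroup.mk m' : Cz z ⧸ Q) ∈ eImage Q g → (m : G) ∉ conjQ Q g → (m' : G) ∉ conjQ Q g →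
      (QuotientGroup.mk m : Cz z ⧸ Q) = QuotientGroup.mk m' := by
    intro m m' hm hm' he he' hb hb'
    obtain ⟨r, v, hr, rfl⟩ := hdec he
    obtain ⟨r', v', hr', rfl⟩ := hdec he'
    have hv : v ∉ meetQ g Q := fun h => hb (mul_mem hr (mem_meetQ.1 h) :)
    have hv' : v' ∉ meetQ g Q := fun h => hb' (mul_mem hr' (mem_meetQ.1 h) :)
    have hrr : r⁻¹ * r' ∈ Q := by
      refine Y.mem_of_centralizer hgx hx (mul_mem (inv_mem hr) hr' : ((r⁻¹ * r' : Cz z) : G) ∈ _) fun u hu => ?_
      have k1 := Y.bad_lift hgx hx hnorm hm rfl hr hv hu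
      have k2 := Y.bad_lift hgx hx hnorm hm' rfl hr' hv' hu
      show Commute ((r : G)⁻¹ * (r' : G)) (toG u)
      by_cases hc : Commute (r : G) (toG u)
      · exact hc.inv_left.mul_left (k2.2 (k1.1 hc))
      · have h1 := (comm_conjQ D hgx hr (mem_meetQ.1 hu)).resolve_left fun e =>
          hc (commutatorElement_eq_one_iff_commute.1 e)
        have h2 := (comm_conjQ D hgx hr' (mem_meetQ.1 hu)).resolve_left fun e =>
          hc (k1.2 (k2.1 (commutatorElement_eq_one_iff_commute.1 e)))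
        have he : (r : G) * toG u * (r : G)⁻¹ = (r' : G) * toG u * (r' : G)⁻¹ :=
          mul_right_cancel (h1.trans h2.symm :)
        show (r : G)⁻¹ * (r' : G) * toG u = toG u * ((r : G)⁻¹ * (r' : G))
        calc (r : G)⁻¹ * (r' : G) * toG u = (r : G)⁻¹ * ((r' : G) * toG u * (r' : G)⁻¹) * (r' : G) := by group
          _ = (r : G)⁻¹ * ((r : G) * toG u * (r : G)⁻¹) * (r' : G) := by rw [he]
          _ = toG u * ((r : G)⁻¹ * (r' : G)) := by group
    rw [QuotientGroup.mk_mul, QuotientGroup.mk_mul, (QuotientGroup.eq_one_iff _).2 v.2,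
      (QuotientGroup.eq_one_iff _).2 v'.2, mul_one, mul_one]
    exact QuotientGroup.eq.2 hrr
  by_contra hb
  obtain ⟨C⟩ := D.exists_coords
  obtain ⟨-, hE, -, -⟩ := image_main D hgx hx C
  -- another lift
  obtain ⟨e, heE, heL, he1, hen⟩ : ∃ e : Cz z ⧸ Q, e ∈ eImage Q g ∧ e ∈ D.L ∧ e ≠ 1 ∧ e ≠ QuotientGroup.mk n := by
    by_contra h
    push Not at h
    haveI := D.L_normal
    have h1 : Nat.card (D.L.subgroupOf (eImage Q g)) ≤ 2 := by
      let f : D.L.subgroupOf (eImage Q g) → Bool := fun e => decide (e.1.1 = 1)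
      have hinj : Function.Injective f := by
        intro a b hab
        have hab' : (a.1.1 = 1) ↔ (b.1.1 = 1) := by simpa [f] using hab
        refine Subtype.ext (Subtype.ext ?_)
        by_cases ha : a.1.1 = 1
        · rw [ha, hab'.1 ha]
        · rw [h _ a.1.2 a.2 ha, h _ b.1.2 b.2 fun hb' => ha (hab'.2 hb')]
      simpa using Nat.card_le_card_of_injective f hinj
    have h2 := (D.L.subgroupOf (eImage Q g)).card_mul_index
    rw [hE] at h2
    have h3 : (D.L.subgroupOf (eImage Q g)).index ≤ 2 := by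
      rw [← D.L_index]
      exact Nat.le_of_dvd (Nat.pos_of_ne_zero Subgroup.index_ne_zero_of_finite)
        (Subgroup.relIndex_dvd_index_of_normal _ _)
    have := Nat.mul_le_mul h1 h3
    omega
  obtain ⟨m, hme, hm⟩ := Y.exists_lift heL
  subst hme
  have hgood : (m : G) ∈ conjQ Q g := by
    by_contra h
    exact hen (hbad hm hn heE hne h hb)
  have hgood' : ((n * m : Cz z) : G) ∈ conjQ Q g := by
    by_contra h
    have := hbad (hn.mul_left hm) hn (by rw [QuotientGroup.mk_mul]; exact mul_mem hne heE) hne h hb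
    rw [QuotientGroup.mk_mul] at this
    exact he1 (mul_eq_left.1 this)
  refine hb ?_
  have := mul_mem hgood' (inv_mem hgood)
  simpa using this

end meet

end Gen

end CfsgLib.LargeFischer
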