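import Cfsg.Agent.LargeFischer.StabAct

/-!
# Elementary abelian subgroups over the stabiliser

An elementary abelian subgroup whose image fixes the class of a conjugate of `z` has order at most `2^11`, with
equality only for the subgroup attached to a matching of the coordinates.
-/

set_option autoImplicit false
set_option linter.unusedSectionVars false
set_option linter.style.haveILetI false
set_option maxHeartbeats 1000000

namespace CfsgLib.LargeFischer

open Cfsg

theorem alt_six_card : Nat.card (alternatingGroup (Fin 6)) = 360 := by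
  have h := two_mul_nat_card_alternatingGroup (α := Fin 6)
  rw [Nat.card_perm, Nat.card_fin, show Nat.factorial 6 = 720 from rfl] at h
  omega

/-- Elementary abelian two-subgroups of the alternating group of degree six have order at most four. -/
theorem alt_six_elementary {A : Subgroup (alternatingGroup (Fin 6))} (h2 : ∀ a ∈ A, a ^ 2 = 1) :
    Nat.card A ≤ 4 := by
  haveI : Fact (Nat.Prime 2) := ⟨Nat.prime_two⟩
  have hp : IsPGroup 2 A := fun a => ⟨1, Subtype.ext (by simpa using h2 _ a.2)⟩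
  obtain ⟨k, hk⟩ := IsPGroup.iff_card.1 hp
  have hd := Subgroup.card_subgroup_dvd_card A
  rw [alt_six_card, hk] at hd
  by_contra hlt
  rw [hk] at hlt
  have hk3 : k = 3 := by
    rcases lt_trichotomy k 3 with h | h | h
    · interval_cases k <;> norm_num at hlt
    · exact h
    · exact absurd ((pow_dvd_pow 2 (show 4 ≤ k by omega)).trans hd) (by norm_num)
  let π : alternatingGroup (Fin 6) :=
    ⟨Equiv.swap 0 1 * Equiv.swap 1 2 * Equiv.swap 2 3 * Equiv.swap 4 5, Equiv.Perm.mem_alternatingGroup.2 (by decide)⟩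
  have hπ4 : π ^ 4 = 1 := by decide +kernel
  have hπ2 : π ^ 2 ≠ 1 := by decide +kernel
  have hπp : IsPGroup 2 (Subgroup.zpowers π) := fun a => ⟨2, by
    obtain ⟨j, hj⟩ := Subgroup.mem_zpowers_iff.1 a.2
    refine Subtype.ext ?_
    rw [SubgroupClass.coe_pow, ← hj, ← zpow_natCast, ← zpow_mul, mul_comm, zpow_mul, zpow_natCast]
    norm_num [hπ4]⟩
  obtain ⟨P, hP⟩ := hπp.exists_le_sylow
  have hf : (Nat.card (alternatingGroup (Fin 6))).factorization 2 = 3 := by
    rw [alt_six_card, show (360 : ℕ) = 2 ^ 3 * 45 by norm_num, Nat.factorization_mul (by norm_num) (by norm_num),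
      Finsupp.add_apply, Nat.Prime.factorization_pow (by norm_num), Finsupp.single_eq_same,
      Nat.factorization_eq_zero_of_not_dvd (by norm_num)]
  obtain ⟨t, ht⟩ := MulAction.exists_smul_eq (alternatingGroup (Fin 6))
    (Sylow.ofCard A (by rw [hk, hf, hk3])) P
  have hmem : π ∈ (P : Subgroup (alternatingGroup (Fin 6))) := hP (Subgroup.mem_zpowers π)
  rw [← ht] at hmem
  obtain ⟨u, hu, e⟩ := hmem
  refine hπ2 ?_
  rw [← e]
  show ((MulAut.conj t) u) ^ 2 = 1
  rw [← map_pow, h2 u hu, map_one]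

theorem root_fix_all : ∀ c : ZMod 3, ∀ p q : Fin 6, p < q →
    ∃ r s : Fin 6, RootGeom.sumW (RootGeom.pairV r s (1, 0)) = 0 ∧
      RootGeom.root c p q (RootGeom.pairV r s (1, 0)) ≠ RootGeom.pairV r s (1, 0) := by decide +kernel

theorem pair_mult : ∀ i j : Fin 6, i ≠ j → ∀ l : W,
    (suppW (RootGeom.pairV i j (1, 0) + RootGeom.mult l)).card = 2 → l = 0 := by decide +kernel

theorem matching_pairs : ∀ m, (Finset.univ.filter fun pq : Fin 6 × Fin 6 =>
    pq.1 < pq.2 ∧ RootGeom.matching m pq.1 = pq.2).card = 3 := by decide +kernel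

theorem bit_code_eq {k : Fin 6 → ZMod 2} {i j : Fin 6} :
    RootGeom.bit (RootGeom.code k) i = RootGeom.bit (RootGeom.code k) j ↔ k i = k j := by
  rw [(RootGeom.code_spec k).2, (RootGeom.code_spec k).2]
  exact ⟨fun h => ZMod.val_injective 2 h, congrArg _⟩

variable {G : Type*} [Group G] [Finite G] {z : G} {Q : Subgroup (Cz z)} [Q.Normal] {D : Data z Q}

/-- The vectors constant on the blocks of a matching. -/
def WM (m : Fin 15) : AddSubgroup SplitGeom.Vec where
  carrier := {v | ∀ i, v (RootGeom.matching m i) = v i}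
  zero_mem' := fun _ => rfl
  add_mem' := fun {a b} ha hb i => by show a _ + b _ = a i + b i; rw [ha i, hb i]
  neg_mem' := fun {a} ha i => by show -(a _) = -(a i); rw [ha i]

theorem mem_WM {m : Fin 15} {v : SplitGeom.Vec} : v ∈ WM m ↔ ∀ i, v (RootGeom.matching m i) = v i := Iff.rfl

theorem sumW_WM {m : Fin 15} {v : SplitGeom.Vec} (hv : v ∈ WM m) : RootGeom.sumW v = 0 := by
  rw [RootGeom.sumW_eq]
  exact Finset.sum_involution (fun i _ => RootGeom.matching m i)
    (fun i _ => by rw [hv i]; exact SplitGeom.add_self_W _)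
    (fun i _ _ => (RootGeom.matching_facts m i).2) (fun _ _ => Finset.mem_univ _)
    fun i _ => (RootGeom.matching_facts m i).1

theorem pairV_mem_WM (m : Fin 15) (i : Fin 6) (a : W) :
    RootGeom.pairV i (RootGeom.matching m i) a ∈ WM m := fun j => by
  have h1 : RootGeom.matching m j = i ↔ j = RootGeom.matching m i :=
    ⟨fun h => by rw [← h, (RootGeom.matching_facts m j).1], fun h => by rw [h, (RootGeom.matching_facts m i).1]⟩
  have h2 : RootGeom.matching m j = RootGeom.matching m i ↔ j = i :=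
    ⟨fun h => by rw [← (RootGeom.matching_facts m j).1, h, (RootGeom.matching_facts m i).1], fun h => by rw [h]⟩
  simp only [RootGeom.pairV, h1, h2, or_comm]

namespace Coords

variable (C : Coords D)

/-- The preimage in `Q` of the vectors constant on blocks. -/
def PW (m : Fin 15) : Subgroup Q where
  carrier := {q | C.F.coord (vec q) ∈ WM m}
  one_mem' := by
    show C.F.coord (vec 1) ∈ WM m
    rw [vec_one, map_zero]; exact (WM m).zero_mem
  mul_mem' := fun {a b} ha hb => by
    show C.F.coord (vec (a * b)) ∈ WM m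
    rw [vec_mul, map_add]; exact (WM m).add_mem ha hb
  inv_mem' := fun {a} ha => by
    show C.F.coord (vec a⁻¹) ∈ WM m
    rw [show vec a⁻¹ = -vec a from eq_neg_of_add_eq_zero_left (by rw [← vec_mul, inv_mul_cancel, vec_one]), map_neg]
    exact (WM m).neg_mem ha

/-- The elements of the stabiliser in `L` fixing the vectors constant on blocks. -/
def CS (x : Q) (m : Fin 15) : Subgroup (Cz z ⧸ Q) where
  carrier := {l | l ∈ C.stab (vec x) ⊓ D.L ∧ ∀ v ∈ WM m, C.cact l v = v}
  one_mem' := ⟨one_mem _, fun v _ => C.cact_one v⟩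
  mul_mem' := fun {a b} ha hb => ⟨mul_mem ha.1 hb.1, fun v hv => by rw [C.cact_mul, hb.2 v hv, ha.2 v hv]⟩
  inv_mem' := fun {a} ha => ⟨inv_mem ha.1, fun v hv => (C.cact a).injective (by
    rw [← C.cact_mul, mul_inv_cancel, C.cact_one, ha.2 v hv])⟩

theorem mem_CS {x : Q} {m : Fin 15} {l : Cz z ⧸ Q} :
    l ∈ C.CS x m ↔ l ∈ C.stab (vec x) ⊓ D.L ∧ ∀ v ∈ WM m, C.cact l v = v := Iff.rfl

theorem card_le_image (K : Subgroup Q) (S : Set SplitGeom.Vec) (h : ∀ q ∈ K, C.F.coord (vec q) ∈ S) :
    Nat.card K ≤ 2 * Nat.card S := by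
  haveI : Finite S := inferInstance
  let f : K →* Multiplicative SplitGeom.Vec :=
    MonoidHom.mk' (fun q => Multiplicative.ofAdd (C.F.coord (vec q.1))) fun a b => by
      rw [← ofAdd_add, ← map_add, ← vec_mul]; rfl
  have h1 := f.ker.card_mul_index
  rw [Subgroup.index_ker] at h1
  rw [← h1]
  refine Nat.mul_le_mul ?_ ?_
  · refine le_of_le_of_eq (Nat.card_le_card_of_injective (fun a : f.ker =>
      (⟨a.1.1, (vec_eq_zero D.hS).1 (C.F.coord.injective ?_)⟩ : Subgroup.center Q)) fun a b e =>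
        Subtype.ext (Subtype.ext (congrArg Subtype.val e :))) D.hS.2.2.1.2
    rw [map_zero]
    exact Multiplicative.ofAdd.injective (MonoidHom.mem_ker.1 a.2)
  · refine Nat.card_le_card_of_injective (fun u : f.range => (⟨Multiplicative.toAdd u.1, ?_⟩ : S)) fun a b e =>
      Subtype.ext (Multiplicative.toAdd.injective (congrArg Subtype.val e :))
    obtain ⟨q, hq⟩ := u.2
    rw [← hq]
    exact h q.1 q.2

theorem card_WM_le {m : Fin 15} {p q r s : Fin 6} (hpq : p < q) (hrs : r < s) (hne : (p, q) ≠ (r, s))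
    (h1 : RootGeom.matching m p = q) (h2 : RootGeom.matching m r = s) : Nat.card (WM m) ≤ 64 := by
  refine le_trans (RootGeom.card_fix_le (fun v : WM m => v.1) Subtype.val_injective [(p, q), (r, s)]
    (fun v => sumW_WM v.2) (fun v pq hpq' => ?_)) ?_
  · simp only [List.mem_cons, List.not_mem_nil, or_false] at hpq'
    rcases hpq' with rfl | rfl
    · rw [← h1]; exact (v.2 p).symm
    · rw [← h2]; exact (v.2 r).symm
  · exact le_trans (Nat.mul_le_mul (RootGeom.sols_two hpq hrs hne) (RootGeom.sols_two hpq hrs hne)) (by norm_num)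

variable {g : G} {x : Q} (hgx : g * z * g⁻¹ = toG x) (hx : x ∉ Subgroup.center Q)
  (hones : C.F.coord (vec x) = SplitGeom.ones) (hc : C.c ≠ 0)

include hgx hx hones hc in
theorem EL_fix {e : Cz z ⧸ Q} (he : e ∈ EL D g) (he1 : e ≠ 1) {p q : Fin 6}
    (hr : ∀ v, C.cact e v = RootGeom.root C.c p q v) (hpq : p < q) {v : SplitGeom.Vec} (hv : C.cact e v = v) :
    RootGeom.sumW v = 0 ∧ v p = v q :=
  (RootGeom.root_fix_iff hpq.ne v).1 (by rw [← hr, hv])

include hgx hx hones hc in
theorem root_pair_ne {a b : Cz z ⧸ Q} (hab : a ≠ b) {p q r s : Fin 6}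
    (ha : ∀ v, C.cact a v = RootGeom.root C.c p q v) (hb : ∀ v, C.cact b v = RootGeom.root C.c r s v) :
    (p, q) ≠ (r, s) := fun h => hab (inv_mul_eq_one.1 (C.cact_faithful fun v => by
  simp only [Prod.mk.injEq] at h
  rw [C.cact_mul, hb v, ← h.1, ← h.2, ← ha v, ← C.cact_mul, inv_mul_cancel, C.cact_one]))

include hgx hx hones hc in
theorem EL_sq {e : Cz z ⧸ Q} (he : e ∈ EL D g) : e * e = 1 := by
  rw [← pow_two]; exact (eImage_elementary D hgx hx).2 _ he.1

include hgx hx hones hc in
theorem card_CS_le (m : Fin 15) : Nat.card (C.CS x m) ≤ 16 := by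
  classical
  let E' : Set (Cz z ⧸ Q) := {e | e ∈ EL D g ∧ ∀ v ∈ WM m, C.cact e v = v}
  let P' := Finset.univ.filter fun π : Equiv.Perm (Fin 6) =>
    (∀ i, π i = i ∨ π i = RootGeom.matching m i) ∧ Equiv.Perm.sign π = 1
  have hE' : Nat.card E' ≤ 4 := by
    let T := Finset.univ.filter fun pq : Fin 6 × Fin 6 => pq.1 < pq.2 ∧ RootGeom.matching m pq.1 = pq.2
    have hex : ∀ e : E', e.1 ≠ 1 → ∃ pq : T, ∀ v, C.cact e.1 v = RootGeom.root C.c pq.1.1 pq.1.2 v := by
      intro e he1
      obtain ⟨p, q, hpq, hr⟩ := C.EL_root hgx hx hones hc e.2.1 he1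
      refine ⟨⟨(p, q), Finset.mem_filter.2 ⟨Finset.mem_univ _, hpq, RootGeom.pair_in_matching m p q hpq
        fun n hn => ?_⟩⟩, hr⟩
      have hk : (fun i => (((RootGeom.bit n i : ℕ) : ZMod 2), (0 : ZMod 2))) ∈ WM m := fun i => by
        show (_, _) = (_, _); rw [hn i]
      have h := congrArg Prod.fst (C.EL_fix hgx hx hones hc e.2.1 he1 hr hpq (e.2.2 _ hk)).2
      have hlt : ∀ i, RootGeom.bit n i < 2 := fun i => Nat.mod_lt _ (by norm_num)
      have h' := congrArg ZMod.val h
      simpa [ZMod.val_natCast, Nat.mod_eq_of_lt (hlt p), Nat.mod_eq_of_lt (hlt q)] using h'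
    let f : E' → Option T := fun e => if h : e.1 = 1 then none else some (hex e h).choose
    have hinj : Function.Injective f := by
      intro a b hab
      refine Subtype.ext ?_
      simp only [f] at hab
      split_ifs at hab with ha hb hb
      · rw [ha, hb]
      · by_contra hne
        refine C.root_pair_ne hgx hx hones hc hne (hex a ha).choose_spec (hex b hb).choose_spec ?_
        rw [Option.some.inj hab]
    refine (Nat.card_le_card_of_injective f hinj).trans ?_
    rw [Nat.card_eq_fintype_card, Fintype.card_option, Fintype.card_coe, matching_pairs]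
  have hdec : ∀ l : C.CS x m, ∃ e : E', ∃ π : alternatingGroup (Fin 6),
      π.1 ∈ P' ∧ l.1 = e.1 * (C.F.permHom π).1 := by
    rintro ⟨l, hl, hfix⟩
    obtain ⟨e, he, π, rfl⟩ := C.exists_decomp hgx hx hones hc hl
    have hblock : ∀ i, π.1⁻¹ i = i ∨ π.1⁻¹ i = RootGeom.matching m i := by
      intro i
      set v := RootGeom.pairV i (RootGeom.matching m i) (1, 0) with hvdef
      have hv : v ∈ WM m := pairV_mem_WM m i _
      have h := hfix v hv
      rw [C.cact_mul, C.cact_perm] at h
      have h' : RootGeom.pm π.1⁻¹ v = C.cact e v := by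
        conv_rhs => rw [← h, ← C.cact_mul, C.EL_sq hgx hx hones hc he, C.cact_one]
      obtain ⟨k, hk⟩ := C.EL_line hgx hx hones he (sumW_WM hv)
      have hk' : C.cact e v = v + RootGeom.mult k := by
        rw [← hk, ← add_assoc, add_comm v, add_assoc, SplitGeom.add_self_vec, add_zero]
      have hne : i ≠ RootGeom.matching m i := ((RootGeom.matching_facts m i).2).symm
      have hk0 : k = 0 := pair_mult i _ hne k (by
        rw [← hvdef, ← hk', ← h', suppW_comp, hvdef, suppW,
          show (Finset.univ.filter fun j => RootGeom.pairV i (RootGeom.matching m i) (1, 0) j ≠ 0) =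
            {i, RootGeom.matching m i} by ext j; simp [RootGeom.pairV]; tauto]
        exact Finset.card_pair hne)
      rw [hk', hk0] at h'
      have h2 := congrFun h' i
      simp only [RootGeom.pm, hvdef, RootGeom.pairV, Pi.add_apply, RootGeom.mult, true_or, if_true, add_zero] at h2
      by_contra hcon
      rw [if_neg hcon] at h2
      exact absurd h2 (by decide)
    have hblock' : ∀ i, π.1 i = i ∨ π.1 i = RootGeom.matching m i := by
      intro i
      rcases hblock (π.1 i) with h | h <;> simp only [Equiv.Perm.inv_def, Equiv.symm_apply_apply] at h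
      · exact Or.inl h.symm
      · right
        conv_rhs => rw [h, (RootGeom.matching_facts m _).1]
    refine ⟨⟨e, he, fun v hv => ?_⟩, π,
      Finset.mem_filter.2 ⟨Finset.mem_univ _, hblock', Equiv.Perm.mem_alternatingGroup.1 π.2⟩, rfl⟩
    have h := hfix v hv
    rw [C.cact_mul, C.cact_perm] at h
    rwa [show RootGeom.pm π.1⁻¹ v = v from funext fun i => by
      rcases hblock i with hi | hi <;> simp only [RootGeom.pm, hi]
      exact hv i] at h
  choose ef πf hπ heq using hdec
  have hinj : Function.Injective fun l : C.CS x m => ((ef l, ⟨(πf l).1, hπ l⟩) : E' × P') := fun a b h => by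
    simp only [Prod.mk.injEq, Subtype.mk.injEq] at h
    exact Subtype.ext (by rw [heq a, heq b, h.1, Subtype.ext h.2])
  refine (Nat.card_le_card_of_injective _ hinj).trans ?_
  rw [Nat.card_prod, Nat.card_eq_fintype_card (α := P'), Fintype.card_coe]
  exact le_trans (Nat.mul_le_mul hE' (RootGeom.block_perms m)) (by norm_num)

include hgx hx hones hc in
/-- The bound, and the shape in the case of equality. -/
theorem elem_max (B : Subgroup (Cz z)) (hcomm : ∀ a ∈ B, ∀ b ∈ B, a * b = b * a) (hsq : ∀ b ∈ B, b ^ 2 = 1)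
    (hst : ∀ b ∈ B, (QuotientGroup.mk b : Cz z ⧸ Q) ∈ C.stab (vec x)) :
    Nat.card B ≤ 2048 ∧ (2048 ≤ Nat.card B → ∃ m, B.comap Q.subtype = C.PW m ∧
      B.map (QuotientGroup.mk' Q) = C.CS x m ∧ Nat.card (B.comap Q.subtype) = 128 ∧
      Nat.card (B.map (QuotientGroup.mk' Q)) = 16) := by
  classical
  set Bq := B.map (QuotientGroup.mk' Q) with hBq
  set BQ := B.comap Q.subtype with hBQ
  have hcard : Nat.card B = Nat.card BQ * Nat.card Bq := by
    let φ := (QuotientGroup.mk' Q).comp B.subtype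
    have h1 := φ.ker.card_mul_index
    rw [Subgroup.index_ker, MonoidHom.range_comp, Subgroup.range_subtype] at h1
    rw [← h1]
    congr 1
    exact Nat.card_congr ⟨fun a => ⟨⟨a.1.1, (QuotientGroup.eq_one_iff _).1 (MonoidHom.mem_ker.1 a.2)⟩, a.1.2⟩,
      fun a => ⟨⟨a.1.1, a.2⟩, MonoidHom.mem_ker.2 ((QuotientGroup.eq_one_iff _).2 a.1.2)⟩, fun _ => rfl,
      fun _ => rfl⟩
  -- the image of the part in `Q`
  let U : AddSubgroup SplitGeom.Vec :=
    { carrier := {v | ∃ q ∈ BQ, C.F.coord (vec q) = v}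
      zero_mem' := by exact ⟨1, one_mem _, by rw [vec_one, map_zero]⟩
      add_mem' := by
        rintro a b ⟨p, hp, rfl⟩ ⟨q, hq, rfl⟩
        exact ⟨p * q, mul_mem hp hq, by rw [vec_mul, map_add]⟩
      neg_mem' := by
        rintro a ⟨p, hp, rfl⟩
        exact ⟨p, hp, (neg_eq_of_add_eq_zero_left (SplitGeom.add_self_vec _)).symm⟩ }
  have hBQU : Nat.card BQ ≤ 2 * Nat.card U := C.card_le_image BQ (U : Set _) fun q hq =>
    (show ∃ q' ∈ BQ, C.F.coord (vec q') = C.F.coord (vec q) from ⟨q, hq, rfl⟩)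
  have hUpar : ∀ v ∈ U, SplitGeom.par v = 0 := by
    rintro _ ⟨q, hq, rfl⟩
    rw [SplitGeom.par_eq, ← C.F.q_coord]
    show qf D.hS (vec q) = 0
    rw [qf_eq_zero_iff D.hS, ← pow_two]
    exact Subtype.ext (hsq _ hq)
  have hU64 : Nat.card U ≤ 64 := SplitGeom.card_even_le U hUpar
  have hUfix : ∀ b ∈ Bq, ∀ v ∈ U, C.cact b v = v := by
    rintro _ ⟨b, hb, rfl⟩ _ ⟨q, hq, rfl⟩
    rw [QuotientGroup.mk'_apply, C.cact_coord, act_mk D.hS, actC_vec]
    congr 2
    refine Subtype.ext ?_
    rw [conjIn_coe, hcomm b hb q.1 hq, mul_inv_cancel_right]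
  have hBst : Bq ≤ C.stab (vec x) := by rintro _ ⟨b, hb, rfl⟩; exact hst b hb
  have hBsq : ∀ b ∈ Bq, b ^ 2 = 1 := by
    rintro _ ⟨b, hb, rfl⟩; rw [← map_pow, hsq b hb, map_one]
  -- the image modulo the elementary group
  have hBE : Nat.card Bq ≤ 4 * Nat.card ↥(Bq ⊓ eImage Q g) := by
    obtain ⟨hn, ⟨e⟩⟩ := stab_quot D hgx hx C _ rfl
    let ψ : Bq →* alternatingGroup (Fin 6) :=
      (e.toMonoidHom.comp (QuotientGroup.mk' _)).comp (Subgroup.inclusion hBst)
    have h1 := ψ.ker.card_mul_index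
    rw [Subgroup.index_ker] at h1
    have h2 : Nat.card ψ.ker ≤ Nat.card ↥(Bq ⊓ eImage Q g) := by
      refine Nat.card_le_card_of_injective (fun a : ψ.ker => (⟨a.1.1, a.1.2, ?_⟩ : ↥(Bq ⊓ eImage Q g)))
        fun a b h => Subtype.ext (Subtype.ext (congrArg Subtype.val h :))
      have ha : e (QuotientGroup.mk (Subgroup.inclusion hBst a.1)) = 1 := MonoidHom.mem_ker.1 a.2
      exact Subgroup.mem_subgroupOf.1 ((QuotientGroup.eq_one_iff (N := (eImage Q g).subgroupOf (C.stab (vec x)))
        (Subgroup.inclusion hBst a.1)).1 (e.injective (ha.trans (map_one e).symm)))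
    have h3 : Nat.card ψ.range ≤ 4 := alt_six_elementary (by
      rintro _ ⟨a, rfl⟩
      rw [← map_pow, show a ^ 2 = 1 from Subtype.ext (hBsq _ a.2), map_one])
    calc Nat.card Bq = Nat.card ψ.ker * Nat.card ψ.range := h1.symm
      _ ≤ Nat.card ↥(Bq ⊓ eImage Q g) * 4 := Nat.mul_le_mul h2 h3
      _ = _ := mul_comm _ _
  set B0 := Bq ⊓ EL D g with hB0def
  have hEB0 : Nat.card ↥(Bq ⊓ eImage Q g) ≤ 2 * Nat.card B0 := by
    haveI := D.L_normal
    have h1 := (D.L.subgroupOf (Bq ⊓ eImage Q g)).card_mul_index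
    have h2 : (D.L.subgroupOf (Bq ⊓ eImage Q g)).index ≤ 2 := by
      rw [← D.L_index]
      exact Nat.le_of_dvd (Nat.pos_of_ne_zero Subgroup.index_ne_zero_of_finite)
        (Subgroup.relIndex_dvd_index_of_normal _ _)
    have h3 : Nat.card (D.L.subgroupOf (Bq ⊓ eImage Q g)) ≤ Nat.card B0 :=
      Nat.card_le_card_of_injective (fun a => (⟨a.1.1, a.1.2.1, a.1.2.2, a.2⟩ : B0)) fun a b h =>
        Subtype.ext (Subtype.ext (congrArg Subtype.val h :))
    rw [← h1, mul_comm 2]
    exact Nat.mul_le_mul h3 h2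
  -- the fixed vectors of the elementary part
  let F0 : AddSubgroup SplitGeom.Vec :=
    { carrier := {v | ∀ e ∈ B0, C.cact e v = v}
      zero_mem' := fun e _ => map_zero _
      add_mem' := fun {a b} ha hb e he => by rw [map_add, ha e he, hb e he]
      neg_mem' := fun {a} ha e he => by rw [map_neg, ha e he] }
  have hUF : U ≤ F0 := fun v hv e he => hUfix e he.1 v hv
  have hroots : ∀ e ∈ B0, e ≠ 1 → ∃ p q : Fin 6, p < q ∧ ∀ v, C.cact e v = RootGeom.root C.c p q v :=
    fun e he h => C.EL_root hgx hx hones hc he.2 h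
  have hfp : ∀ {e : Cz z ⧸ Q} (he : e ∈ B0) (h : e ≠ 1) {p q : Fin 6}, p < q →
      (∀ v, C.cact e v = RootGeom.root C.c p q v) → ∀ v : F0, RootGeom.sumW v.1 = 0 ∧ v.1 p = v.1 q :=
    fun {e} he h {p q} hpq hr v => C.EL_fix hgx hx hones hc he.2 h hr hpq (v.2 e he)
  have hF0card : ∀ {l : List (Fin 6 × Fin 6)} {k : ℕ}, (RootGeom.sols l).card ≤ k →
      (∀ v : F0, RootGeom.sumW v.1 = 0) → (∀ v : F0, ∀ pq ∈ l, v.1 pq.1 = v.1 pq.2) → Nat.card F0 ≤ k * k :=
    fun {l k} hk hs he => (RootGeom.card_fix_le (fun v : F0 => v.1) Subtype.val_injective l hs he).trans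
      (Nat.mul_le_mul hk hk)
  -- sizes
  have hcases : Nat.card B0 = 1 ∨ (Nat.card B0 = 2 ∧ Nat.card F0 ≤ 256) ∨
      (Nat.card B0 = 4 ∧ Nat.card F0 ≤ 64) ∨ (Nat.card B0 = 8 ∧ Nat.card F0 ≤ 16) ∨
      (Nat.card B0 = 16 ∧ Nat.card F0 ≤ 4) := by
    have hd : Nat.card B0 ∣ 2 ^ 4 := by
      rw [show (2 : ℕ) ^ 4 = Nat.card (EL D g) from (card_EL hgx hx).symm]
      exact Subgroup.card_dvd_of_le inf_le_right
    obtain ⟨k, hk, hk'⟩ := (Nat.dvd_prime_pow Nat.prime_two).1 hd
    have hpick : ∀ s : Finset (Cz z ⧸ Q), s.card < Nat.card B0 → ∃ e ∈ B0, e ∉ s := by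
      intro s hs
      by_contra h
      push Not at h
      have := Nat.card_le_card_of_injective (fun e : B0 => (⟨e.1, h e.1 e.2⟩ : {e // e ∈ s}))
        fun a b e => Subtype.ext (congrArg Subtype.val e :)
      rw [Nat.card_eq_fintype_card (α := {e // e ∈ s}), Fintype.card_coe] at this
      omega
    interval_cases k
    · exact Or.inl hk'
    all_goals
      obtain ⟨e₁, he₁, hn₁⟩ := hpick {1} (by rw [hk', Finset.card_singleton]; norm_num)
      rw [Finset.mem_singleton] at hn₁
      obtain ⟨p, q, hpq, hr₁⟩ := hroots e₁ he₁ hn₁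
      have f₁ := hfp he₁ hn₁ hpq hr₁
    · exact Or.inr (Or.inl ⟨hk', (hF0card (RootGeom.sols_one hpq) (fun v => (f₁ v).1)
        (fun v pq h => by simp only [List.mem_singleton] at h; subst h; exact (f₁ v).2)).trans (by norm_num)⟩)
    all_goals
      obtain ⟨e₂, he₂, hn₂⟩ := hpick {1, e₁} (by rw [hk']; exact lt_of_le_of_lt Finset.card_le_two (by norm_num))
      simp only [Finset.mem_insert, Finset.mem_singleton, not_or] at hn₂
      obtain ⟨r, s, hrs, hr₂⟩ := hroots e₂ he₂ hn₂.1
      have f₂ := hfp he₂ hn₂.1 hrs hr₂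
      have hne₁₂ := C.root_pair_ne hgx hx hones hc (Ne.symm hn₂.2) hr₁ hr₂
    · exact Or.inr (Or.inr (Or.inl ⟨hk', (hF0card (RootGeom.sols_two hpq hrs hne₁₂) (fun v => (f₁ v).1)
        (fun v pq h => by
          simp only [List.mem_cons, List.not_mem_nil, or_false] at h
          rcases h with rfl | rfl
          exacts [(f₁ v).2, (f₂ v).2])).trans (by norm_num)⟩))
    · obtain ⟨e₃, he₃, hn₃⟩ := hpick {1, e₁, e₂, e₁ * e₂} (by rw [hk']; exact lt_of_le_of_lt Finset.card_le_four (by norm_num))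
      simp only [Finset.mem_insert, Finset.mem_singleton, not_or] at hn₃
      obtain ⟨a, b, hab, hr₃⟩ := hroots e₃ he₃ hn₃.1
      have f₃ := hfp he₃ hn₃.1 hab hr₃
      have hne₁₃ := C.root_pair_ne hgx hx hones hc (Ne.symm hn₃.2.1) hr₁ hr₃
      have hne₂₃ := C.root_pair_ne hgx hx hones hc (Ne.symm hn₃.2.2.1) hr₂ hr₃
      rcases RootGeom.sols_three hpq hrs hab hne₁₂ hne₁₃ hne₂₃ with h | h
      · exact Or.inr (Or.inr (Or.inr (Or.inl ⟨hk', (hF0card h (fun v => (f₁ v).1) (fun v pq hv => by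
          simp only [List.mem_cons, List.not_mem_nil, or_false] at hv
          rcases hv with rfl | rfl | rfl
          exacts [(f₁ v).2, (f₂ v).2, (f₃ v).2])).trans (by norm_num)⟩)))
      · exfalso
        refine hn₃.2.2.2 ?_
        have he : e₁ * e₂ * e₃ ∈ EL D g := mul_mem (mul_mem he₁.2 he₂.2) he₃.2
        have h1 : e₁ * e₂ * e₃ = 1 := by
          by_contra hne
          obtain ⟨u, w, huw, hr⟩ := C.EL_root hgx hx hones hc he hne
          obtain ⟨i, j, hsum, hmove⟩ := root_fix_all C.c u w huw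
          refine hmove ?_
          rw [← hr, C.cact_mul, C.cact_mul]
          generalize RootGeom.pairV i j (1, 0) = v at hsum ⊢
          have hr0 : ∀ u : SplitGeom.Vec, RootGeom.sumW u = 0 → ∀ p q : Fin 6,
              RootGeom.root C.c p q u = u + RootGeom.mult (rk (-C.c) (u p + u q)) := fun u hu p q => by
            funext t
            simp [RootGeom.root, RootGeom.mult, hu, (by decide : ∀ k : ZMod 3, rk k 0 = 0)]
          have hm : ∀ k, C.cact e₁ (RootGeom.mult k) = RootGeom.mult k ∧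
              C.cact e₂ (RootGeom.mult k) = RootGeom.mult k := fun k => by
            have hs : RootGeom.sumW (RootGeom.mult k) = 0 := by
              simp [RootGeom.sumW, RootGeom.mult, SplitGeom.add_self_W]
            rw [hr₁, hr₂]
            exact ⟨(RootGeom.root_fix_iff hpq.ne _).2 ⟨hs, rfl⟩, (RootGeom.root_fix_iff hrs.ne _).2 ⟨hs, rfl⟩⟩
          rw [hr₃, hr0 v hsum, map_add, map_add, (hm _).2, (hm _).1, hr₂, hr0 v hsum, map_add, (hm _).1, hr₁,
            hr0 v hsum]
          have h6 := RootGeom.six_zero h hsum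
          have hz : rk (-C.c) (v p + v q) + rk (-C.c) (v r + v s) + rk (-C.c) (v a + v b) = 0 := by
            rw [← RootGeom.rk_map_add, ← RootGeom.rk_map_add,
              show v p + v q + (v r + v s) + (v a + v b) = v p + v q + v r + v s + v a + v b by abel, h6]
            exact (by decide : ∀ k : ZMod 3, rk k 0 = 0) _
          funext t
          simp only [Pi.add_apply, RootGeom.mult]
          rw [add_assoc, add_assoc, ← add_assoc (rk (-C.c) (v p + v q)), hz, add_zero]
        exact inv_injective (by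
          rw [inv_eq_of_mul_eq_one_left h1, inv_eq_of_mul_eq_one_right (C.EL_sq hgx hx hones hc (mul_mem he₁.2 he₂.2))])
    · refine Or.inr (Or.inr (Or.inr (Or.inr ⟨hk', ?_⟩)))
      have hall : B0 = EL D g := Subgroup.eq_of_le_of_card_ge inf_le_right (by rw [hk', card_EL hgx hx]; norm_num)
      refine (hF0card RootGeom.sols_all (fun v => (f₁ v).1) fun v pq hv => ?_).trans (by norm_num)
      have key : ∀ i : Fin 6, i < 5 → v.1 i = v.1 5 := fun i hi => by
        obtain ⟨e, he, he1, hr⟩ := C.root_exists hgx hx hones hc hi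
        exact (hfp (hall ▸ he) he1 hi hr v).2
      simp only [List.mem_cons, List.not_mem_nil, or_false] at hv
      rcases hv with rfl | rfl | rfl | rfl | rfl <;> exact key _ (by decide)
  by_cases hL : Bq ≤ D.L
  · -- inside `L`
    have hEeq : Bq ⊓ eImage Q g = B0 := by
      rw [hB0def]
      exact le_antisymm (le_inf inf_le_left (le_inf inf_le_right (inf_le_left.trans hL)))
        (le_inf inf_le_left (inf_le_right.trans inf_le_left))
    rw [hEeq] at hBE
    have hUle : Nat.card U ≤ Nat.card F0 := AddSubgroup.card_le_of_le hUF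
    have hle : Nat.card B ≤ 2 * Nat.card U * (4 * Nat.card B0) := hcard ▸ Nat.mul_le_mul hBQU hBE
    rcases hcases with h | ⟨h, hF⟩ | ⟨h, hF⟩ | ⟨h, hF⟩ | ⟨h, hF⟩ <;> rw [h] at hle hBE
    · exact ⟨by omega, fun _ => by omega⟩
    · exact ⟨by omega, fun _ => by omega⟩
    · refine ⟨by omega, fun hge => ?_⟩
      have hU : Nat.card U = 64 := by omega
      have hBqc : Nat.card Bq = 16 := by
        refine le_antisymm hBE ?_
        have h' := Nat.mul_le_mul_right (Nat.card Bq) hBQU
        rw [← hcard, hU] at h'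
        omega
      have hBQc : Nat.card BQ = 128 := by rw [hBqc] at hcard; omega
      haveI := Fintype.ofFinite B0
      have h2 : (Finset.univ : Finset B0).card = 4 := by rw [Finset.card_univ, ← Nat.card_eq_fintype_card, h]
      obtain ⟨e₁, hn₁⟩ : ∃ e : B0, e ≠ 1 := by
        haveI : Nontrivial B0 := Finite.one_lt_card_iff_nontrivial.1 (by rw [h]; norm_num)
        exact exists_ne 1
      obtain ⟨e₂, hn₂, hn₁₂⟩ : ∃ e : B0, e ≠ 1 ∧ e ≠ e₁ := by
        by_contra hcon
        push Not at hcon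
        have hsub : (Finset.univ : Finset B0) ⊆ {1, e₁} := fun e _ => by
          by_cases he : e = 1
          · simp [he]
          · simp [hcon e he]
        have := (Finset.card_le_card hsub).trans Finset.card_le_two
        omega
      obtain ⟨p, q, hpq, hr₁⟩ := hroots e₁.1 e₁.2 fun e => hn₁ (Subtype.ext e)
      obtain ⟨r, s, hrs, hr₂⟩ := hroots e₂.1 e₂.2 fun e => hn₂ (Subtype.ext e)
      have f₁ := hfp e₁.2 (fun e => hn₁ (Subtype.ext e)) hpq hr₁
      have f₂ := hfp e₂.2 (fun e => hn₂ (Subtype.ext e)) hrs hr₂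
      have hne := C.root_pair_ne hgx hx hones hc (fun e => hn₁₂ (Subtype.ext e.symm)) hr₁ hr₂
      -- the common fixed vectors of the two roots
      let F2 : AddSubgroup SplitGeom.Vec :=
        { carrier := {v | C.cact e₁.1 v = v ∧ C.cact e₂.1 v = v}
          zero_mem' := ⟨map_zero _, map_zero _⟩
          add_mem' := fun {a b} ha hb => ⟨by rw [map_add, ha.1, hb.1], by rw [map_add, ha.2, hb.2]⟩
          neg_mem' := fun {a} ha => ⟨by rw [map_neg, ha.1], by rw [map_neg, ha.2]⟩ }
      have hUF2 : U ≤ F2 := fun v hv => ⟨hUF hv e₁.1 e₁.2, hUF hv e₂.1 e₂.2⟩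
      have g₁ : ∀ v : F2, RootGeom.sumW v.1 = 0 ∧ v.1 p = v.1 q := fun v =>
        C.EL_fix hgx hx hones hc e₁.2.2 (fun e => hn₁ (Subtype.ext e)) hr₁ hpq v.2.1
      have g₂ : ∀ v : F2, RootGeom.sumW v.1 = 0 ∧ v.1 r = v.1 s := fun v =>
        C.EL_fix hgx hx hones hc e₂.2.2 (fun e => hn₂ (Subtype.ext e)) hr₂ hrs v.2.2
      have hF2 : Nat.card F2 ≤ 64 := by
        refine (RootGeom.card_fix_le (fun v : F2 => v.1) Subtype.val_injective [(p, q), (r, s)]
          (fun v => (g₁ v).1) fun v pq h' => ?_).trans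
          ((Nat.mul_le_mul (RootGeom.sols_two hpq hrs hne) (RootGeom.sols_two hpq hrs hne)).trans (by norm_num))
        simp only [List.mem_cons, List.not_mem_nil, or_false] at h'
        rcases h' with rfl | rfl
        exacts [(g₁ v).2, (g₂ v).2]
      have hUeq : U = F2 := AddSubgroup.eq_of_le_of_card_ge hUF2 (by rw [hU]; exact hF2)
      rcases RootGeom.pairs_cases p q r s hpq hrs hne with ⟨m, hm1, hm2, hm⟩ | ⟨w1, w2, w3, w4⟩
      · have hFW : F2 ≤ WM m := fun v hv i => by
          obtain ⟨hs, e1⟩ := g₁ ⟨v, hv⟩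
          obtain ⟨-, e2⟩ := g₂ ⟨v, hv⟩
          obtain ⟨k1, k2⟩ := RootGeom.comp_mem (l := [(p, q), (r, s)]) hs fun pq h' => by
            simp only [List.mem_cons, List.not_mem_nil, or_false] at h'
            rcases h' with rfl | rfl
            exacts [e1, e2]
          exact Prod.ext (bit_code_eq.1 (hm _ k1 i)) (bit_code_eq.1 (hm _ k2 i))
        have hWM := card_WM_le hpq hrs hne hm1 hm2
        have hUW : U = WM m := AddSubgroup.eq_of_le_of_card_ge (hUeq.le.trans hFW) (by rw [hU]; exact hWM)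
        refine ⟨m, ?_, ?_, hBQc, hBqc⟩
        · refine Subgroup.eq_of_le_of_card_ge (fun q hq => ?_) ?_
          · show C.F.coord (vec q) ∈ WM m
            rw [← hUW]; exact ⟨q, hq, rfl⟩
          · rw [hBQc]
            exact (C.card_le_image (C.PW m) (WM m : Set _) fun q hq => hq).trans
              (le_of_le_of_eq (Nat.mul_le_mul_left 2 hWM) rfl)
        · refine Subgroup.eq_of_le_of_card_ge (fun b hb => ⟨⟨hBst hb, hL hb⟩, fun v hv => hUfix b hb v ?_⟩) ?_
          · rw [hUW]; exact hv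
          · rw [hBqc]; exact C.card_CS_le hgx hx hones hc m
      · exfalso
        have hmem : RootGeom.witness p q r s ∈ U := by
          rw [hUeq]
          exact ⟨(hr₁ _).trans ((RootGeom.root_fix_iff hpq.ne _).2 ⟨w1, w2⟩),
            (hr₂ _).trans ((RootGeom.root_fix_iff hrs.ne _).2 ⟨w1, w3⟩)⟩
        rw [hUpar _ hmem] at w4
        exact zero_ne_one w4
    · exact ⟨by omega, fun _ => by omega⟩
    · exact ⟨by omega, fun _ => by omega⟩
  · -- an element outside `L`
    obtain ⟨b, hb, hbL⟩ := SetLike.not_le_iff_exists.1 hL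
    have hsemi : ∀ v, C.cact b (SplitGeom.scal v) = SplitGeom.scal (SplitGeom.scal (C.cact b v)) := by
      intro v
      obtain ⟨v, rfl⟩ := C.F.coord.surjective v
      have hs : ∀ v, C.F.coord (act (D.x : Cz z ⧸ Q) v) = SplitGeom.scal (C.F.coord v) :=
        fun v => funext fun i => C.F.coord_x v i
      have h1 := D.outer_inverts hbL
      have hx3 : (D.x : Cz z ⧸ Q) ^ 3 = 1 := congrArg Subtype.val D.x3
      have h2 : b * D.x = (D.x : Cz z ⧸ Q) * D.x * b := by
        rw [mul_inv_eq_iff_eq_mul] at h1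
        rw [h1, inv_eq_of_mul_eq_one_right (a := (D.x : Cz z ⧸ Q)) (b := (D.x : Cz z ⧸ Q) * D.x)
          (by rw [← mul_assoc, ← hx3, pow_succ, pow_two])]
      rw [← hs, C.cact_coord, C.cact_coord, ← hs, ← hs, ← act_mul D.hS, ← act_mul D.hS, ← act_mul D.hS, h2]
    have hscal0 : ∀ v ∈ F0, SplitGeom.scal v ∈ F0 := fun v hv e he => by rw [C.cact_scal he.2.2, hv e he]
    have hsq2 : Nat.card U * Nat.card U ≤ Nat.card F0 := by
      rw [← Nat.card_prod]
      refine Nat.card_le_card_of_injective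
        (fun p : U × U => (⟨p.1.1 + SplitGeom.scal p.2.1, F0.add_mem (hUF p.1.2) (hscal0 _ (hUF p.2.2))⟩ : F0))
        ?_
      rintro ⟨u, v⟩ ⟨u', v'⟩ h
      have h' : u.1 + SplitGeom.scal v.1 = u'.1 + SplitGeom.scal v'.1 := congrArg Subtype.val h
      have hs_add : ∀ a b, SplitGeom.scal (a + b) = SplitGeom.scal a + SplitGeom.scal b :=
        fun a b => funext fun i => map_add rW _ _
      have h'' : (u.1 + u'.1) + SplitGeom.scal (v.1 + v'.1) = 0 := by
        rw [hs_add, add_add_add_comm, h', SplitGeom.add_self_vec]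
      have e1 := SplitGeom.add_eq_zero_vec h''
      have e2 := congrArg (C.cact b) e1
      rw [hsemi, map_add, map_add, hUfix b hb _ u.2, hUfix b hb _ u'.2, hUfix b hb _ v.2, hUfix b hb _ v'.2,
        e1] at e2
      have hv : v.1 + v'.1 = 0 := funext fun i =>
        (by decide : ∀ w : W, rW w = rW (rW w) → w = 0) _ (congrFun e2 i)
      rw [hv, show SplitGeom.scal 0 = 0 from funext fun i => map_zero rW] at e1
      exact Prod.ext (Subtype.ext (SplitGeom.add_eq_zero_vec e1)) (Subtype.ext (SplitGeom.add_eq_zero_vec hv))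
    have hle : Nat.card B ≤ 2 * Nat.card U * (4 * (2 * Nat.card B0)) :=
      hcard ▸ Nat.mul_le_mul hBQU (hBE.trans (Nat.mul_le_mul_left 4 hEB0))
    have hU2 : ∀ n, Nat.card F0 ≤ n * n → Nat.card U ≤ n := fun n hn => by
      by_contra hlt
      push Not at hlt
      have := Nat.mul_lt_mul_of_lt_of_lt hlt hlt
      omega
    rcases hcases with h | ⟨h, hF⟩ | ⟨h, hF⟩ | ⟨h, hF⟩ | ⟨h, hF⟩ <;> rw [h] at hle
    · exact ⟨by omega, fun _ => by omega⟩
    · have := hU2 16 hF; exact ⟨by omega, fun _ => by omega⟩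
    · have := hU2 8 hF; exact ⟨by omega, fun _ => by omega⟩
    · have := hU2 4 hF; exact ⟨by omega, fun _ => by omega⟩
    · have := hU2 2 hF; exact ⟨by omega, fun _ => by omega⟩

end Coords

end CfsgLib.LargeFischer
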