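import Cfsg.Agent.LargeFischer.Seven

/-!
# The orbits of `3.U4(3)` on singular vectors: 378 and 1701
-/

set_option autoImplicit false
set_option linter.unusedSectionVars false
set_option linter.style.haveILetI false
set_option maxRecDepth 100000
set_option maxHeartbeats 800000

namespace CfsgLib.LargeFischer

open Finset

theorem w_two_count : (Finset.univ.filter fun w : Fin 6 → W => (suppW w).card = 2).card = 135 := by
  decide +kernel

theorem w_four_count : (Finset.univ.filter fun w : Fin 6 → W => (suppW w).card = 4).card = 1215 := by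
  decide +kernel

theorem w_six_count : ∀ c : ZMod 3,
    (Finset.univ.filter fun w : Fin 6 → W => (suppW w).card = 6 ∧ classW w = c).card = 243 := by
  decide +kernel

theorem expW_rk : ∀ (k : ZMod 3) (w : W), w ≠ 0 → expW (rk k w) = k + expW w := by decide

theorem rk_one_zero : ∀ (k : ZMod 3), rk k 0 = (0 : W) := by decide

theorem orbit_arith : ∀ (a b p0 p1 p2 : Bool),
    (135 * a.toNat + 1215 * b.toNat + 243 * (p0.toNat + p1.toNat + p2.toNat)) % 7 = 0 →
    (135 * a.toNat + 1215 * b.toNat + 243 * (p0.toNat + p1.toNat + p2.toNat)) ∣ 9797760 →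
    (a = true → b = false ∧ p0.toNat + p1.toNat + p2.toNat = 1) ∧
      (b = true → a = false ∧ p0.toNat + p1.toNat + p2.toNat = 2) := by
  decide +kernel

theorem two_same : ∀ t : Finset (Fin 6), ∃ a b : Fin 6, a ≠ b ∧ (a ∈ t ↔ b ∈ t) := by decide +kernel

/-- An even permutation moves any set of coordinates onto another of the same size. -/
theorem exists_even_perm (s t : Finset (Fin 6)) (h : s.card = t.card) :
    ∃ π ∈ alternatingGroup (Fin 6), ∀ i, i ∈ s ↔ π i ∈ t := by
  let e : {i // i ∈ s} ≃ {i // i ∈ t} := Fintype.equivOfCardEq (by simpa using h)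
  let π := e.extendSubtype
  have hπ : ∀ i, i ∈ s ↔ π i ∈ t := fun i =>
    ⟨fun hi => e.extendSubtype_mem i hi, fun hi => by
      by_contra hn; exact e.extendSubtype_not_mem i hn hi⟩
  rcases Int.units_eq_one_or (Equiv.Perm.sign π) with hs | hs
  · exact ⟨π, hs, hπ⟩
  obtain ⟨a, b, hab, hp⟩ : ∃ a b, a ≠ b ∧ ∀ i, i ∈ t ↔ Equiv.swap a b i ∈ t := by
    obtain ⟨a, b, hab, hor⟩ := two_same t
    refine ⟨a, b, hab, fun i => ?_⟩
    rcases eq_or_ne i a with rfl | hia
    · rw [Equiv.swap_apply_left]; exact hor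
    rcases eq_or_ne i b with rfl | hib
    · rw [Equiv.swap_apply_right]; exact hor.symm
    · rw [Equiv.swap_apply_of_ne_of_ne hia hib]
  refine ⟨Equiv.swap a b * π, ?_, fun i => (hπ i).trans (hp _)⟩
  rw [Equiv.Perm.mem_alternatingGroup, Equiv.Perm.sign_mul, Equiv.Perm.sign_swap hab, hs]
  rfl

namespace Frame

variable {L V : Type*} [Group L] [AddCommGroup V] {S : Setting L V} (F : Frame S)

theorem coord_zero_iff (v : V) : (suppW (F.coord v)).card = 0 ↔ v = 0 := by
  rw [Finset.card_eq_zero, suppW, Finset.filter_eq_empty_iff]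
  constructor
  · intro h
    refine F.coord.injective (funext fun i => ?_)
    rw [map_zero]
    by_contra hi
    exact h (Finset.mem_univ i) hi
  · rintro rfl i -
    simp

include F in
theorem x_fix (v : V) (h : S.φ S.x v = v) : v = 0 := by
  refine F.coord.injective (funext fun i => ?_)
  have := F.coord_x v i
  rw [h] at this
  rw [map_zero]
  exact (by decide : ∀ w : W, w = rW w → w = 0) _ this

/-- Monomial transitivity. -/
theorem mono_transitive {u w : V} (hcard : (suppW (F.coord u)).card = (suppW (F.coord w)).card)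
    (hclass : (suppW (F.coord u)).card = 6 → classW (F.coord u) = classW (F.coord w)) :
    ∃ l, S.φ l u = w := by
  classical
  set a := F.coord u
  set b := F.coord w
  obtain ⟨π, hπ, hst⟩ := exists_even_perm (suppW a) (suppW b) hcard
  obtain ⟨l₁, hl₁⟩ := F.perm π hπ
  have hmem : ∀ (f : Fin 6 → W) i, i ∈ suppW f ↔ f i ≠ 0 := fun f i => by simp [suppW]
  let k0 : Fin 6 → ZMod 3 := fun j => if b j = 0 then 0 else expW (b j) - expW (a (π.symm j))
  obtain ⟨k, hk, hkb⟩ : ∃ k : Fin 6 → ZMod 3, ∑ j, k j = 0 ∧ ∀ j, b j ≠ 0 → k j = k0 j := by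
    by_cases hfull : ∀ j, b j ≠ 0
    · refine ⟨k0, ?_, fun j _ => rfl⟩
      have hb6 : suppW b = Finset.univ := Finset.filter_true_of_mem fun j _ => hfull j
      have h6 : (suppW a).card = 6 := by rw [hcard, hb6]; rfl
      have := hclass h6
      simp only [k0, if_neg (hfull _), Finset.sum_sub_distrib]
      rw [Equiv.sum_comp π.symm (fun i => expW (a i))]
      exact sub_eq_zero.2 this.symm
    · push Not at hfull
      obtain ⟨j0, hj0⟩ := hfull
      refine ⟨Function.update k0 j0 (k0 j0 - ∑ j, k0 j), ?_, fun j hj => ?_⟩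
      · rw [Finset.sum_update_of_mem (Finset.mem_univ _),
          Finset.sum_eq_add_sum_sdiff_singleton_of_mem (Finset.mem_univ j0) k0]
        abel
      · rw [Function.update_of_ne fun e => hj (by subst e; exact hj0)]
  obtain ⟨l₂, hl₂⟩ := F.diag k hk
  refine ⟨l₂ * l₁, F.coord.injective (funext fun j => ?_)⟩
  obtain ⟨i, rfl⟩ := π.surjective j
  rw [S.φ_mul, hl₂, hl₁]
  show rk (k (π i)) (a i) = b (π i)
  by_cases hb : b (π i) = 0
  · have : a i = 0 := by
      by_contra ha
      exact ((hmem b _).1 ((hst i).1 ((hmem a i).2 ha))) hb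
    rw [this, hb, rk_one_zero]
  · have ha : a i ≠ 0 := (hmem a i).1 ((hst i).2 ((hmem b _).2 hb))
    rw [hkb _ hb]
    simp only [k0, if_neg hb, Equiv.symm_apply_apply]
    calc rk (expW (b (π i)) - expW (a i)) (a i)
        = rk (expW (b (π i)) - expW (a i)) (rk (expW (a i)) (1, 0)) := by rw [← exists_rk (a i) ha]
      _ = rk (expW (b (π i))) (1, 0) := by rw [← rk_add, sub_add_cancel]
      _ = b (π i) := (exists_rk _ hb).symm

/-- The orbit as a finite set. -/
noncomputable def orb (_F : Frame S) (v : V) : Finset V := by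
  classical
  haveI := S.finite_V
  haveI := Fintype.ofFinite V
  exact Finset.univ.filter fun w => ∃ l, S.φ l v = w

theorem mem_orb {v w : V} : w ∈ F.orb v ↔ ∃ l, S.φ l v = w := by
  simp [orb]

theorem card_orb_dvd (v : V) : (F.orb v).card ∣ Nat.card L := by
  classical
  letI : MulAction L V := { smul := fun l w => S.φ l w, one_smul := S.φ_one, mul_smul := S.φ_mul }
  have h : (MulAction.orbit L v) = (F.orb v : Set V) := by
    ext w
    rw [MulAction.mem_orbit_iff, Finset.mem_coe, F.mem_orb]
    rfl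
  rw [← Set.ncard_coe_finset, ← h, ← Nat.card_coe_set_eq,
    Nat.card_congr (MulAction.orbitEquivQuotientStabilizer L v)]
  exact Subgroup.index_dvd_card _

theorem card_orb_seven {g : L} (hg : g ^ 7 = 1) (hg1 : g ≠ 1) {v : V} (hv : v ≠ 0) :
    (F.orb v).card % 7 = 0 := by
  classical
  haveI := S.finite_V
  haveI : Fact (Nat.Prime 7) := ⟨by norm_num⟩
  have hst : ∀ w ∈ F.orb v, S.φ g w ∈ F.orb v := fun w hw => by
    obtain ⟨l, rfl⟩ := F.mem_orb.1 hw
    exact F.mem_orb.2 ⟨g * l, S.φ_mul _ _ _⟩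
  let σ : Equiv.Perm {w // w ∈ F.orb v} := Equiv.ofBijective (fun w => ⟨S.φ g w.1, hst _ w.2⟩)
    ((Finite.injective_iff_bijective).1 fun a b h => Subtype.ext ((S.φ g).injective (congrArg Subtype.val h)))
  have hpow : ∀ n : ℕ, ∀ w, ((σ ^ n) w).1 = S.φ (g ^ n) w.1 := by
    intro n
    induction n with
    | zero => intro w; rw [pow_zero, pow_zero, S.φ_one]; rfl
    | succ n ih => intro w; rw [pow_succ', Equiv.Perm.mul_apply, pow_succ', S.φ_mul, ← ih]; rfl
  have h := Equiv.Perm.card_compl_support_modEq (σ := σ) (p := 7) (n := 1)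
    (Equiv.ext fun w => Subtype.ext (by rw [pow_one, hpow, hg, S.φ_one]; rfl))
  have h0 : σ.supportᶜ = ∅ := by
    ext w
    simp only [Finset.mem_compl, Equiv.Perm.mem_support, not_not, Finset.notMem_empty, iff_false]
    intro e
    obtain ⟨l, hl⟩ := F.mem_orb.1 w.2
    have hw0 : w.1 = 0 := S.seven_fixed_zero hg hg1 F.x_fix (congrArg Subtype.val e)
    rw [hw0, ← map_zero (S.φ l)] at hl
    exact hv ((S.φ l).injective hl)
  rw [h0, Finset.card_empty, Fintype.card_coe] at h
  exact h.symm

/-- The coordinate classes. -/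
theorem singular_cases {v : V} (hq : S.q v = 0) (hv : v ≠ 0) :
    (suppW (F.coord v)).card = 2 ∨ (suppW (F.coord v)).card = 4 ∨ (suppW (F.coord v)).card = 6 := by
  have h6 : (suppW (F.coord v)).card ≤ 6 := (Finset.card_le_univ _).trans (by simp)
  have h0 : (suppW (F.coord v)).card ≠ 0 := fun h => hv ((F.coord_zero_iff v).1 h)
  have h2 := (ZMod.natCast_eq_zero_iff_even).1 ((F.q_coord v).symm.trans hq)
  rw [Nat.even_iff] at h2
  omega

theorem q_of_card {v : V} (h : (suppW (F.coord v)).card % 2 = 0) : S.q v = 0 := by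
  rw [F.q_coord, ZMod.natCast_eq_zero_iff_even, Nat.even_iff]; exact h

/-- Sizes of the coordinate classes inside `V`. -/
theorem card_class (P : (Fin 6 → W) → Prop) [DecidablePred P] [Fintype V] :
    (Finset.univ.filter fun v => P (F.coord v)).card = (Finset.univ.filter P).card := by
  refine Finset.card_bij (fun v _ => F.coord v) (fun v hv => by simpa using hv)
    (fun a _ b _ h => F.coord.injective h) fun w hw => ⟨F.coord.symm w, by simpa using hw, by simp⟩

theorem class_split {n : ℕ} (hn : n = 2 ∨ n = 4) {u w : V}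
    (hu : (suppW (F.coord u)).card = n) (hw : (suppW (F.coord w)).card = n) : ∃ l, S.φ l u = w :=
  F.mono_transitive (hu.trans hw.symm) (fun h => by rcases hn with rfl | rfl <;> omega)

theorem orb_shape (hL : Nat.card L = 9797760) {v : V} (hq : S.q v = 0) (hv : v ≠ 0) :
    ∃ (a b : Bool) (p : ZMod 3 → Bool),
      (∀ w, w ∈ F.orb v ↔ ((a = true ∧ (suppW (F.coord w)).card = 2) ∨
        (b = true ∧ (suppW (F.coord w)).card = 4) ∨
        ((suppW (F.coord w)).card = 6 ∧ p (classW (F.coord w)) = true))) ∧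
      (a = true → b = false ∧ (p 0).toNat + (p 1).toNat + (p 2).toNat = 1) ∧
      (b = true → a = false ∧ (p 0).toNat + (p 1).toNat + (p 2).toNat = 2) := by
  classical
  haveI := S.finite_V
  haveI := Fintype.ofFinite V
  have hclosed : ∀ u w : V, u ∈ F.orb v → (∃ l, S.φ l u = w) → w ∈ F.orb v := by
    rintro u w hu ⟨l, rfl⟩
    obtain ⟨l', rfl⟩ := F.mem_orb.1 hu
    exact F.mem_orb.2 ⟨l * l', S.φ_mul _ _ _⟩
  let a : Bool := decide (∃ u ∈ F.orb v, (suppW (F.coord u)).card = 2)
  let b : Bool := decide (∃ u ∈ F.orb v, (suppW (F.coord u)).card = 4)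
  let p : ZMod 3 → Bool := fun c =>
    decide (∃ u ∈ F.orb v, (suppW (F.coord u)).card = 6 ∧ classW (F.coord u) = c)
  have hchar : ∀ w, w ∈ F.orb v ↔ ((a = true ∧ (suppW (F.coord w)).card = 2) ∨
      (b = true ∧ (suppW (F.coord w)).card = 4) ∨
      ((suppW (F.coord w)).card = 6 ∧ p (classW (F.coord w)) = true)) := by
    intro w
    simp only [a, b, p, decide_eq_true_eq]
    constructor
    · intro hw
      obtain ⟨l, hl⟩ := F.mem_orb.1 hw
      have hwq : S.q w = 0 := by rw [← hl, S.q_inv, hq]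
      have hw0 : w ≠ 0 := fun e => by
        rw [e, ← map_zero (S.φ l)] at hl
        exact hv ((S.φ l).injective hl)
      rcases F.singular_cases hwq hw0 with h | h | h
      · exact Or.inl ⟨⟨w, hw, h⟩, h⟩
      · exact Or.inr (Or.inl ⟨⟨w, hw, h⟩, h⟩)
      · exact Or.inr (Or.inr ⟨h, w, hw, h, rfl⟩)
    · rintro (⟨⟨u, hu, h⟩, h'⟩ | ⟨⟨u, hu, h⟩, h'⟩ | ⟨h', u, hu, h, hc⟩)
      · exact hclosed u w hu (F.class_split (Or.inl rfl) h h')
      · exact hclosed u w hu (F.class_split (Or.inr rfl) h h')
      · exact hclosed u w hu (F.mono_transitive (h.trans h'.symm) fun _ => hc)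
  refine ⟨a, b, p, hchar, ?_⟩
  have hcard : (F.orb v).card = 135 * a.toNat + 1215 * b.toNat +
      243 * ((p 0).toNat + (p 1).toNat + (p 2).toNat) := by
    have hset : (F.orb v) = (Finset.univ.filter fun w =>
        ((a = true ∧ (suppW (F.coord w)).card = 2) ∨ (b = true ∧ (suppW (F.coord w)).card = 4) ∨
        ((suppW (F.coord w)).card = 6 ∧ p (classW (F.coord w)) = true))) := by
      ext w; simp only [Finset.mem_filter, Finset.mem_univ, true_and]; exact hchar w
    rw [hset, F.card_class fun w => (a = true ∧ (suppW w).card = 2) ∨ (b = true ∧ (suppW w).card = 4) ∨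
      ((suppW w).card = 6 ∧ p (classW w) = true)]
    rw [Finset.filter_or, Finset.filter_or, Finset.card_union_of_disjoint, Finset.card_union_of_disjoint]
    · have h6 : (Finset.univ.filter fun w : Fin 6 → W => (suppW w).card = 6 ∧ p (classW w) = true).card =
          243 * ((p 0).toNat + (p 1).toNat + (p 2).toNat) := by
        rw [Finset.card_eq_sum_card_fiberwise (f := classW) (t := (Finset.univ : Finset (ZMod 3)))
          fun _ _ => Finset.mem_univ _]
        have hc : ∀ c : ZMod 3, ((Finset.univ.filter fun w : Fin 6 → W =>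
            (suppW w).card = 6 ∧ p (classW w) = true).filter fun w => classW w = c).card =
            243 * (p c).toNat := by
          intro c
          rw [Finset.filter_filter]
          cases hp : p c
          · rw [Bool.toNat_false, mul_zero, Finset.card_eq_zero, Finset.filter_eq_empty_iff]
            intro w _ hw
            rw [hw.2, hp] at hw
            exact Bool.false_ne_true hw.1.2
          · rw [Bool.toNat_true, mul_one, ← w_six_count c]
            refine congrArg Finset.card (Finset.filter_congr fun w _ => ?_)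
            constructor
            · exact fun hw => ⟨hw.1.1, hw.2⟩
            · exact fun hw => ⟨⟨hw.1, by rw [hw.2, hp]⟩, hw.2⟩
        simp only [hc, ← Finset.mul_sum]
        rw [show (Finset.univ : Finset (ZMod 3)) = {0, 1, 2} by decide, Finset.sum_insert (by decide),
          Finset.sum_insert (by decide), Finset.sum_singleton, add_assoc]
      have e1 : (Finset.univ.filter fun w : Fin 6 → W => a = true ∧ (suppW w).card = 2).card = 135 * a.toNat := by
        generalize a = a'
        cases a' <;> simp [w_two_count]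
      have e2 : (Finset.univ.filter fun w : Fin 6 → W => b = true ∧ (suppW w).card = 4).card = 1215 * b.toNat := by
        generalize b = b'
        cases b' <;> simp [w_four_count]
      omega
    · rw [Finset.disjoint_filter]; rintro w - ⟨-, h⟩ ⟨h', -⟩; omega
    · rw [Finset.disjoint_union_right]
      constructor <;> rw [Finset.disjoint_filter]
      · rintro w - ⟨-, h⟩ ⟨-, h'⟩; omega
      · rintro w - ⟨-, h⟩ ⟨h', -⟩; omega
  obtain ⟨g, hg⟩ : ∃ g : L, orderOf g = 7 := by
    haveI : Finite L := Nat.finite_of_card_ne_zero (by rw [hL]; norm_num)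
    haveI : Fact (Nat.Prime 7) := ⟨by norm_num⟩
    exact exists_prime_orderOf_dvd_card' 7 (by rw [hL]; norm_num)
  have h7 := F.card_orb_seven (g := g) (hg ▸ pow_orderOf_eq_one g)
    (fun e => by rw [e, orderOf_one] at hg; norm_num at hg) hv
  have hd := F.card_orb_dvd v
  rw [hL, hcard] at hd
  rw [hcard] at h7
  exact orbit_arith a b (p 0) (p 1) (p 2) h7 hd

theorem count_one : ∀ p : ZMod 3 → Bool, (p 0).toNat + (p 1).toNat + (p 2).toNat = 1 →
    ∃ c, ∀ d, p d = true ↔ d = c := by decide +kernel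

theorem count_two : ∀ p : ZMod 3 → Bool, (p 0).toNat + (p 1).toNat + (p 2).toNat = 2 →
    ∃ c, ∀ d, p d = true ↔ d ≠ c := by decide +kernel

theorem exists_vec : ∀ (n : Fin 7), ∃ w : Fin 6 → W, (suppW w).card = n.val :=
  fun n => ⟨fun i => if i.val < n.val then (1, 0) else 0, by revert n; decide +kernel⟩

/-- There are two orbits on singular vectors, the classes `InA c` and `InB c`. -/
theorem exists_class (hL : Nat.card L = 9797760) : ∃ c : ZMod 3,
    (∀ u w : V, F.InA c u → ((∃ l, S.φ l u = w) ↔ F.InA c w)) ∧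
    (∀ u w : V, F.InB c u → ((∃ l, S.φ l u = w) ↔ F.InB c w)) := by
  obtain ⟨w2, hw2⟩ := exists_vec 2
  obtain ⟨w4, hw4⟩ := exists_vec 4
  set v2 := F.coord.symm w2
  set v4 := F.coord.symm w4
  have h2 : (suppW (F.coord v2)).card = 2 := by rw [F.coord.apply_symm_apply]; exact hw2
  have h4 : (suppW (F.coord v4)).card = 4 := by rw [F.coord.apply_symm_apply]; exact hw4
  obtain ⟨a, b, p, hchar, ha, -⟩ := F.orb_shape hL (F.q_of_card (by rw [h2]))
    (fun e => by rw [e, (F.coord_zero_iff 0).2 rfl] at h2; omega)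
  obtain ⟨a', b', p', hchar', -, hb'⟩ := F.orb_shape hL (F.q_of_card (by rw [h4]))
    (fun e => by rw [e, (F.coord_zero_iff 0).2 rfl] at h4; omega)
  have haT : a = true := by
    rcases (hchar v2).1 (F.mem_orb.2 ⟨1, S.φ_one _⟩) with h | ⟨-, h⟩ | ⟨h, -⟩
    · exact h.1
    all_goals omega
  have hbT : b' = true := by
    rcases (hchar' v4).1 (F.mem_orb.2 ⟨1, S.φ_one _⟩) with ⟨-, h⟩ | h | ⟨h, -⟩
    · omega
    · exact h.1
    · omega
  obtain ⟨hbF, hp1⟩ := ha haT
  obtain ⟨haF, hp2⟩ := hb' hbT
  obtain ⟨c, hc⟩ := count_one p hp1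
  obtain ⟨c', hc'⟩ := count_two p' hp2
  have hA : ∀ w, w ∈ F.orb v2 ↔ F.InA c w := fun w => by
    rw [hchar, haT, hbF]
    simp [Frame.InA, hc]
  have hB : ∀ w, w ∈ F.orb v4 ↔ F.InB c' w := fun w => by
    rw [hchar', hbT, haF]
    simp [Frame.InB, hc']
  have hgen : ∀ (r : V) (u w : V), u ∈ F.orb r → ((∃ l, S.φ l u = w) ↔ w ∈ F.orb r) := by
    intro r u w hu
    obtain ⟨l0, rfl⟩ := F.mem_orb.1 hu
    rw [F.mem_orb]
    constructor
    · rintro ⟨l, rfl⟩; exact ⟨l * l0, S.φ_mul _ _ _⟩
    · rintro ⟨l, rfl⟩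
      exact ⟨l * l0⁻¹, by rw [S.φ_mul, ← S.φ_mul l0⁻¹, inv_mul_cancel, S.φ_one]⟩
  -- the two orbits are disjoint
  have hcc : c' = c := by
    by_contra hne
    obtain ⟨w6, hw6, hwc⟩ : ∃ w : Fin 6 → W, (suppW w).card = 6 ∧ classW w = c := by
      obtain ⟨w, hw⟩ := Finset.card_pos.1 (show 0 < (Finset.univ.filter fun w : Fin 6 → W =>
        (suppW w).card = 6 ∧ classW w = c).card by rw [w_six_count]; norm_num)
      exact ⟨w, (Finset.mem_filter.1 hw).2⟩
    have e1 : F.coord.symm w6 ∈ F.orb v2 := (hA _).2 (Or.inr (by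
      rw [F.coord.apply_symm_apply]; exact ⟨hw6, hwc⟩))
    have e2 : F.coord.symm w6 ∈ F.orb v4 := (hB _).2 (Or.inr (by
      rw [F.coord.apply_symm_apply]; exact ⟨hw6, hwc ▸ Ne.symm hne⟩))
    have h24 : v4 ∈ F.orb v2 := by
      rw [← hgen v2 _ v4 e1]
      exact (hgen v4 _ v4 e2).2 (F.mem_orb.2 ⟨1, S.φ_one _⟩)
    rcases (hA v4).1 h24 with h | ⟨h, -⟩ <;> omega
  subst hcc
  exact ⟨c', fun u w hu => (hgen v2 u w ((hA u).2 hu)).trans (hA w),
    fun u w hu => (hgen v4 u w ((hB u).2 hu)).trans (hB w)⟩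

theorem inA_or_inB (c : ZMod 3) {v : V} (hq : S.q v = 0) (hv : v ≠ 0) : F.InA c v ∨ F.InB c v := by
  rcases F.singular_cases hq hv with h | h | h
  · exact Or.inl (Or.inl h)
  · exact Or.inr (Or.inl h)
  · by_cases hc : classW (F.coord v) = c
    · exact Or.inl (Or.inr ⟨h, hc⟩)
    · exact Or.inr (Or.inr ⟨h, hc⟩)

theorem inA_not_inB (c : ZMod 3) {v : V} (h : F.InA c v) : ¬ F.InB c v := by
  rcases h with h | ⟨h, h'⟩ <;> rintro (g | ⟨g, g'⟩)
  all_goals first | omega | exact g' h'

theorem card_inA (c : ZMod 3) : Nat.card {v : V // F.InA c v} = 378 := by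
  classical
  haveI := S.finite_V
  haveI := Fintype.ofFinite V
  rw [Nat.card_eq_fintype_card, Fintype.card_subtype,
    show (Finset.univ.filter fun v : V => F.InA c v) = Finset.univ.filter fun v : V =>
      (suppW (F.coord v)).card = 2 ∨ ((suppW (F.coord v)).card = 6 ∧ classW (F.coord v) = c) from
      Finset.filter_congr fun v _ => Iff.rfl,
    F.card_class fun w => (suppW w).card = 2 ∨ ((suppW w).card = 6 ∧ classW w = c), Finset.filter_or,
    Finset.card_union_of_disjoint, w_two_count, w_six_count]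
  rw [Finset.disjoint_filter]; rintro w - h ⟨h', -⟩; omega

theorem card_inB (c : ZMod 3) : Nat.card {v : V // F.InB c v} = 1701 := by
  classical
  haveI := S.finite_V
  haveI := Fintype.ofFinite V
  rw [Nat.card_eq_fintype_card, Fintype.card_subtype,
    show (Finset.univ.filter fun v : V => F.InB c v) = Finset.univ.filter fun v : V =>
      (suppW (F.coord v)).card = 4 ∨ ((suppW (F.coord v)).card = 6 ∧ classW (F.coord v) ≠ c) from
      Finset.filter_congr fun v _ => Iff.rfl,
    F.card_class fun w => (suppW w).card = 4 ∨ ((suppW w).card = 6 ∧ classW w ≠ c), Finset.filter_or,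
    Finset.card_union_of_disjoint, w_four_count]
  · have : ∀ c : ZMod 3, (Finset.univ.filter fun w : Fin 6 → W =>
        (suppW w).card = 6 ∧ classW w ≠ c).card = 486 := by decide +kernel
    rw [this]
  · rw [Finset.disjoint_filter]; rintro w - h ⟨h', -⟩; omega

end Frame

end CfsgLib.LargeFischer
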