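import Cfsg.Prelude.Def_MonsterType
import Cfsg.Agent.ExtraspecialBasic.DoubleCentralizer
import Cfsg.Agent.Components.FStar
import Cfsg.Agent.LargeFischer.Orbits
import Cfsg.Agent.UFourThree.Seven
import Cfsg.Agent.Forms4.UnitarySimple

/-!
# Groups of large Fischer type: the module `Q/Z(Q)` with its action of `H/Q`
-/

set_option autoImplicit false
set_option linter.unusedSectionVars false
set_option linter.style.haveILetI false
set_option maxHeartbeats 800000

namespace CfsgLib.LargeFischer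

open Cfsg
open scoped commutatorElement

variable {G : Type*} [Group G] [Finite G]

/-- The centralizer. -/
abbrev Cz (z : G) : Subgroup G := Subgroup.centralizer ({z} : Set G)

variable {z : G} {Q : Subgroup (Cz z)} [Q.Normal]

/-- The module: `Q` modulo its derived subgroup, which is the centre. -/
abbrev QV (Q : Subgroup (Cz z)) := Additive (Abelianization Q)

/-- The class of an element of `Q`. -/
def vec (a : Q) : QV Q := Additive.ofMul (Abelianization.of a)

theorem vec_surjective : Function.Surjective (vec (Q := Q)) := fun v => by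
  obtain ⟨a, ha⟩ := QuotientGroup.mk_surjective (Additive.toMul v)
  exact ⟨a, by rw [vec]; exact congrArg Additive.ofMul ha⟩

theorem vec_mul (a b : Q) : vec (a * b) = vec a + vec b := by
  rw [vec, map_mul]; rfl

theorem vec_one : vec (1 : Q) = 0 := by rw [vec, map_one]; rfl

/-- Conjugation by an element of the centralizer, on `Q`. -/
def conjIn (h : Cz z) : Q ≃* Q := MulAut.conjNormal h

theorem conjIn_coe (h : Cz z) (a : Q) : ((conjIn h a : Q) : Cz z) = h * a * h⁻¹ :=
  MulAut.conjNormal_apply h a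

/-- Conjugation by an element of the centralizer, on the module. -/
noncomputable def actC (h : Cz z) : QV Q ≃+ QV Q :=
  MulEquiv.toAdditive (MulEquiv.abelianizationCongr (conjIn h))

theorem actC_vec (h : Cz z) (a : Q) : actC h (vec a) = vec (conjIn h a) := rfl

theorem conjIn_mul (h k : Cz z) (a : Q) : conjIn (h * k) a = conjIn h (conjIn k a) := by
  simp [conjIn, map_mul]

/-- The action of `H/Q`. -/
noncomputable def act (h : Cz z ⧸ Q) : QV Q ≃+ QV Q := actC h.out

variable (hS : IsExtraspecialCentralizerSetting z Q 6)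
include hS

omit [Q.Normal] in
theorem vec_eq_zero {a : Q} : vec a = 0 ↔ a ∈ Subgroup.center Q := by
  rw [← hS.2.2.1.1.2.2]
  exact QuotientGroup.eq_one_iff a

omit [Q.Normal] in
theorem vec_eq_iff {a b : Q} : vec a = vec b ↔ a⁻¹ * b ∈ Subgroup.center Q := by
  rw [← hS.2.2.1.1.2.2]
  exact QuotientGroup.eq

/-- The element `z` in `Q`. -/
def zin : Q := ⟨⟨z, Subgroup.mem_centralizer_singleton_iff.2 rfl⟩, by
  have hz : (⟨z, Subgroup.mem_centralizer_singleton_iff.2 rfl⟩ : Cz z) ∈ Subgroup.center (Cz z) :=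
    Subgroup.mem_center_iff.2 fun g => Subtype.ext (Subgroup.mem_centralizer_singleton_iff.1 g.2)
  conv => arg 1; rw [← hS.2.1]
  exact CfsgLib.Components.centralizer_generalizedFitting_le_self
    (Subgroup.center_le_centralizer _ hz)⟩

omit [Q.Normal] in
theorem zin_ne_one : zin hS ≠ 1 := fun h => by
  have h1 : z = 1 := congrArg (fun q : Q => ((q : Cz z) : G)) h
  have := hS.1
  rw [h1, orderOf_one] at this
  norm_num at this

omit [Q.Normal] in
theorem mem_center_cases {a : Q} : a ∈ Subgroup.center Q ↔ a = 1 ∨ a = zin hS := by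
  have hzc : zin hS ∈ Subgroup.center Q := Subgroup.mem_center_iff.2 fun g => Subtype.ext (Subtype.ext
    (Subgroup.mem_centralizer_singleton_iff.1 g.1.2))
  constructor
  · intro ha
    obtain ⟨c, hc1, hcu⟩ := (Nat.card_eq_two_iff' (⟨1, one_mem _⟩ : Subgroup.center Q)).1 hS.2.2.1.2
    by_cases h1 : a = 1
    · exact Or.inl h1
    · have e1 := hcu ⟨a, ha⟩ fun e => h1 (congrArg Subtype.val e)
      have e2 := hcu ⟨zin hS, hzc⟩ fun e => zin_ne_one hS (congrArg Subtype.val e)
      exact Or.inr (congrArg Subtype.val (e1.trans e2.symm))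
  · rintro (rfl | rfl)
    exacts [one_mem _, hzc]

theorem act_mk (h : Cz z) (v : QV Q) : act (QuotientGroup.mk h : Cz z ⧸ Q) v = actC h v := by
  obtain ⟨a, rfl⟩ := vec_surjective v
  obtain ⟨⟨q, hq⟩, he⟩ := QuotientGroup.mk_out_eq_mul Q h
  rw [act, he, actC_vec, actC_vec, conjIn_mul, ← actC_vec h, ← actC_vec h]
  congr 1
  rw [vec_eq_iff hS]
  have e : (conjIn q a)⁻¹ * a = ⁅(⟨q, hq⟩ : Q), a⁻¹⁆ := Subtype.ext (by
    simp only [Subgroup.coe_mul, Subgroup.coe_inv, conjIn_coe, commutatorElement_def]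
    group)
  rw [e]
  exact CfsgLib.ExtraspecialBasic.commutator_mem_center hS.2.2.1 _ _

theorem act_mul (a b : Cz z ⧸ Q) (v : QV Q) : act (a * b) v = act a (act b v) := by
  obtain ⟨a, rfl⟩ := QuotientGroup.mk_surjective a
  obtain ⟨b, rfl⟩ := QuotientGroup.mk_surjective b
  obtain ⟨x, rfl⟩ := vec_surjective v
  rw [← QuotientGroup.mk_mul, act_mk hS, act_mk hS, act_mk hS, actC_vec, actC_vec, actC_vec, conjIn_mul]

omit [Q.Normal] in
theorem sq_center (a : Q) : a * a = 1 ∨ a * a = zin hS := by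
  haveI : Fact (Nat.Prime 2) := ⟨Nat.prime_two⟩
  rw [← pow_two]
  exact (mem_center_cases hS).1 (CfsgLib.ExtraspecialBasic.pow_mem_center hS.2.2.1 a)

omit [Q.Normal] in
theorem comm_center (a b : Q) : ⁅a, b⁆ = 1 ∨ ⁅a, b⁆ = zin hS :=
  (mem_center_cases hS).1 (CfsgLib.ExtraspecialBasic.commutator_mem_center hS.2.2.1 a b)

omit [Q.Normal] in
theorem zin_sq : zin hS * zin hS = 1 := by
  rw [← pow_two]
  exact CfsgLib.ExtraspecialBasic.pow_center_eq_one hS.2.2.1 ((mem_center_cases hS).2 (Or.inr rfl))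

omit [Q.Normal] in
theorem sq_congr {a b : Q} (h : vec a = vec b) : a * a = b * b := by
  obtain ⟨c, hc, rfl⟩ : ∃ c ∈ Subgroup.center Q, b = a * c := ⟨a⁻¹ * b, (vec_eq_iff hS).1 h, by group⟩
  have hc2 : c * c = 1 := by
    rw [← pow_two]; exact CfsgLib.ExtraspecialBasic.pow_center_eq_one hS.2.2.1 hc
  calc a * a = a * a * (c * c) := by rw [hc2, mul_one]
    _ = a * (a * c) * c := by group
    _ = a * (c * a) * c := by rw [Subgroup.mem_center_iff.1 hc a]
    _ = a * c * (a * c) := by group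

omit [Q.Normal] in
theorem card_QV : Nat.card (QV Q) = 4096 := by
  have h : Nat.card (Q ⧸ Subgroup.center Q) = 4096 := by
    have h1 := Subgroup.card_eq_card_quotient_mul_card_subgroup (Subgroup.center Q)
    rw [hS.2.2.1.2, hS.2.2.2.1] at h1
    omega
  rw [← h]
  exact Nat.card_congr ((Additive.toMul).trans
    (QuotientGroup.quotientMulEquivOfEq (hS.2.2.1.1.2.2)).toEquiv)

/-- An element acting trivially on the module lies in `Q`. -/
theorem mem_of_act_trivial (k : Cz z) (hk : ∀ a : Q, vec (conjIn k a) = vec a) : k ∈ Q := by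
  haveI : Fact (Nat.Prime 2) := ⟨Nat.prime_two⟩
  have hE := hS.2.2.1
  have hfz : ∀ a : Q, conjIn k a * a⁻¹ ∈ Subgroup.center Q := fun a => by
    have := (vec_eq_iff hS).1 (hk a).symm
    have h2 := (inferInstance : (Subgroup.center Q).Normal).conj_mem _ this a
    simpa [mul_assoc] using h2
  let f : Q →* Subgroup.center Q := MonoidHom.mk' (fun a => ⟨conjIn k a * a⁻¹, hfz a⟩) fun a b =>
    Subtype.ext (by
      show conjIn k (a * b) * (a * b)⁻¹ = conjIn k a * a⁻¹ * (conjIn k b * b⁻¹)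
      rw [map_mul, Subgroup.mem_center_iff.1 (hfz b) (conjIn k a * a⁻¹) |>.trans rfl]
      have := Subgroup.mem_center_iff.1 (hfz b) (conjIn k a)
      calc conjIn k a * conjIn k b * (a * b)⁻¹ = (conjIn k a * (conjIn k b * b⁻¹)) * a⁻¹ := by group
        _ = (conjIn k b * b⁻¹ * conjIn k a) * a⁻¹ := by rw [this]
        _ = conjIn k b * b⁻¹ * (conjIn k a * a⁻¹) := by group)
  obtain ⟨q, hq⟩ : ∃ q : Q, ∀ a, CfsgLib.ExtraspecialBasic.commHom hE q a = f a := by
    set K := f.ker with hK
    have hZK : Subgroup.center Q ≤ K := fun c hc => by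
      rw [hK, MonoidHom.mem_ker]
      refine Subtype.ext ?_
      show conjIn k c * c⁻¹ = 1
      rw [mul_inv_eq_one]
      rcases (mem_center_cases hS).1 hc with rfl | rfl
      · exact map_one _
      · refine Subtype.ext (Subtype.ext ?_)
        rw [conjIn_coe]
        show (k : G) * z * (k : G)⁻¹ = z
        rw [Subgroup.mem_centralizer_singleton_iff.1 k.2, mul_inv_cancel_right]
    have hcard := CfsgLib.ExtraspecialBasic.card_centralizer_mul_card hE hZK
    have hidx := K.card_mul_index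
    have hle : K.index ≤ 2 := by
      rw [hK, Subgroup.index_ker]
      exact (Finite.card_subtype_le _).trans hE.2.le
    by_cases h1 : K.index = 1
    · refine ⟨1, fun a => ?_⟩
      have : a ∈ K := by rw [Subgroup.index_eq_one.1 h1]; trivial
      rw [(CfsgLib.ExtraspecialBasic.commHom_eq_one hE).2 (Commute.one_left a), MonoidHom.mem_ker.1 this]
    have h2 : K.index = 2 := by
      have : K.index ≠ 0 := Subgroup.index_ne_zero_of_finite
      omega
    rw [h2, hS.2.2.2.1] at hidx
    rw [hS.2.2.2.1] at hcard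
    have hC : Nat.card (Subgroup.centralizer (K : Set Q)) = 4 := by
      norm_num at hidx hcard ⊢
      have : Nat.card K = 4096 := by omega
      rw [this] at hcard
      exact Nat.eq_of_mul_eq_mul_right (by norm_num : 0 < 4096) (hcard.trans (by norm_num))
    obtain ⟨q, hqC, hqZ⟩ : ∃ q ∈ Subgroup.centralizer (K : Set Q), q ∉ Subgroup.center Q := by
      by_contra h
      push Not at h
      have := Subgroup.card_le_of_le (show Subgroup.centralizer (K : Set Q) ≤ Subgroup.center Q from h)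
      rw [hC, hE.2] at this
      norm_num at this
    refine ⟨q, fun a => ?_⟩
    have hker : (CfsgLib.ExtraspecialBasic.commHom hE q).ker = K := by
      have hle' : K ≤ (CfsgLib.ExtraspecialBasic.commHom hE q).ker := fun b hb => by
        rw [MonoidHom.mem_ker, CfsgLib.ExtraspecialBasic.commHom_eq_one]
        exact (Subgroup.mem_centralizer_iff.1 hqC b hb).symm
      refine (Subgroup.eq_of_le_of_card_ge hle' ?_).symm
      have h3 := (CfsgLib.ExtraspecialBasic.commHom hE q).ker.card_mul_index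
      rw [hS.2.2.2.1] at h3
      have h4 : (CfsgLib.ExtraspecialBasic.commHom hE q).ker.index ≠ 1 := fun e => hqZ
        (Subgroup.mem_center_iff.2 fun b => ((CfsgLib.ExtraspecialBasic.commHom_eq_one hE).1
          (MonoidHom.mem_ker.1 (show b ∈ (CfsgLib.ExtraspecialBasic.commHom hE q).ker by
            rw [Subgroup.index_eq_one.1 e]; trivial))).eq.symm)
      have h5 : (CfsgLib.ExtraspecialBasic.commHom hE q).ker.index ≠ 0 := Subgroup.index_ne_zero_of_finite
      nlinarith [Nat.two_le_iff (CfsgLib.ExtraspecialBasic.commHom hE q).ker.index |>.2 ⟨h5, h4⟩]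
    obtain ⟨zc, -, hzu⟩ := (Nat.card_eq_two_iff' (1 : Subgroup.center Q)).1 hE.2
    by_cases ha : a ∈ K
    · rw [MonoidHom.mem_ker.1 (hker.symm ▸ ha : a ∈ _), MonoidHom.mem_ker.1 ha]
    · rw [hzu _ fun e => ha (hker ▸ MonoidHom.mem_ker.2 e), hzu (f a) fun e => ha (MonoidHom.mem_ker.2 e)]
  have hcen : (q : Cz z)⁻¹ * k ∈ Subgroup.centralizer (Q : Set (Cz z)) := by
    rw [Subgroup.mem_centralizer_iff]
    intro a ha
    have h := congrArg (fun c : Subgroup.center Q => ((c : Q) : Cz z)) (hq ⟨a, ha⟩)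
    simp only [CfsgLib.ExtraspecialBasic.commHom_apply] at h
    change (q : Cz z) * a * (q : Cz z)⁻¹ * a⁻¹ = (conjIn k ⟨a, ha⟩ : Cz z) * a⁻¹ at h
    rw [conjIn_coe] at h
    have h2 := mul_right_cancel h
    calc a * ((q : Cz z)⁻¹ * k) = (q : Cz z)⁻¹ * ((q : Cz z) * a * (q : Cz z)⁻¹) * k := by group
      _ = (q : Cz z)⁻¹ * k * a := by rw [h2]; group
  have h1 : (q : Cz z)⁻¹ * k ∈ Q := by
    have hle := CfsgLib.Components.centralizer_generalizedFitting_le_self (G := Cz z)
    rw [hS.2.1] at hle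
    exact hle hcen
  simpa using Q.mul_mem q.2 h1

theorem act_faithful (h : Cz z ⧸ Q) (hh : ∀ v, act h v = v) : h = 1 := by
  obtain ⟨k, rfl⟩ := QuotientGroup.mk_surjective h
  refine (QuotientGroup.eq_one_iff k).2 (mem_of_act_trivial hS k fun a => ?_)
  have := hh (vec a)
  rwa [act_mk hS, actC_vec] at this

open Classical in
/-- The squaring form. -/
noncomputable def qf (_hS : IsExtraspecialCentralizerSetting z Q 6) (v : QV Q) : ZMod 2 :=
  if Function.surjInv (vec_surjective (Q := Q)) v * Function.surjInv (vec_surjective (Q := Q)) v = 1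
  then 0 else 1

theorem qf_eq_zero_iff (a : Q) : qf hS (vec a) = 0 ↔ a * a = 1 := by
  have h := sq_congr hS (Function.surjInv_eq (vec_surjective (Q := Q)) (vec a))
  unfold qf
  rw [h]
  split_ifs with h' <;> simp [h']

theorem qf_act (h : Cz z ⧸ Q) (v : QV Q) : qf hS (act h v) = qf hS v := by
  obtain ⟨k, rfl⟩ := QuotientGroup.mk_surjective h
  obtain ⟨a, rfl⟩ := vec_surjective v
  rw [act_mk hS, actC_vec]
  have hiff : qf hS (vec (conjIn k a)) = 0 ↔ qf hS (vec a) = 0 := by
    rw [qf_eq_zero_iff, qf_eq_zero_iff, ← map_mul, MulEquiv.map_eq_one_iff]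
  revert hiff
  generalize qf hS (vec (conjIn k a)) = x, qf hS (vec a) = y
  revert x y; decide

/-- The commutator form. -/
noncomputable def bf (u v : QV Q) : ZMod 2 := qf hS (u + v) - qf hS u - qf hS v

theorem bf_eq_zero_iff (a b : Q) : bf hS (vec a) (vec b) = 0 ↔ Commute a b := by
  have hexp : a * b * (a * b) = a * a * ⁅b, a⁆ * (b * b) := by
    have hc := Subgroup.mem_center_iff.1
      (CfsgLib.ExtraspecialBasic.commutator_mem_center hS.2.2.1 b a) a
    calc a * b * (a * b) = a * (⁅b, a⁆ * a) * (b * b) := by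
          simp only [commutatorElement_def]; group
      _ = a * a * ⁅b, a⁆ * (b * b) := by rw [← hc]; group
  have k0 : Commute a b ↔ ⁅b, a⁆ = 1 := by
    rw [commutatorElement_eq_one_iff_commute]
    exact ⟨Commute.symm, Commute.symm⟩
  rw [bf, k0, ← vec_mul]
  have key := qf_eq_zero_iff hS (a * b)
  have k1 := qf_eq_zero_iff hS a
  have k2 := qf_eq_zero_iff hS b
  rw [hexp] at key
  generalize qf hS (vec (a * b)) = x, qf hS (vec a) = y, qf hS (vec b) = w at key k1 k2
  rcases sq_center hS a with h1 | h1 <;> rcases sq_center hS b with h2 | h2 <;>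
    rcases comm_center hS b a with h3 | h3 <;>
    simp only [h1, h2, h3, zin_sq hS, zin_ne_one hS, one_mul, mul_one, iff_true, iff_false] at key k1 k2 ⊢ <;>
    · revert key k1 k2; revert x y w; decide

theorem bf_add (u v w : QV Q) : bf hS u (v + w) = bf hS u v + bf hS u w := by
  obtain ⟨a, rfl⟩ := vec_surjective u
  obtain ⟨b, rfl⟩ := vec_surjective v
  obtain ⟨c, rfl⟩ := vec_surjective w
  have k := bf_eq_zero_iff hS a (b * c)
  have k1 := bf_eq_zero_iff hS a b
  have k2 := bf_eq_zero_iff hS a c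
  rw [vec_mul] at k
  have hE := hS.2.2.1
  rw [← CfsgLib.ExtraspecialBasic.commHom_eq_one hE] at k k1 k2
  rw [map_mul] at k
  generalize CfsgLib.ExtraspecialBasic.commHom hE a b = p,
    CfsgLib.ExtraspecialBasic.commHom hE a c = r at k k1 k2
  generalize bf hS (vec a) (vec b + vec c) = x, bf hS (vec a) (vec b) = y, bf hS (vec a) (vec c) = t at k k1 k2
  obtain ⟨zc, hz1, hzu⟩ := (Nat.card_eq_two_iff' (1 : Subgroup.center Q)).1 hE.2
  have hsq : zc * zc = 1 := by
    rw [← pow_two]
    exact Subtype.ext (CfsgLib.ExtraspecialBasic.pow_center_eq_one hE zc.2)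
  have cases' : ∀ c : Subgroup.center Q, c = 1 ∨ c = zc := fun c => by
    by_cases h : c = 1
    · exact Or.inl h
    · exact Or.inr (hzu c h)
  rcases cases' p with h1 | h1 <;> rcases cases' r with h2 | h2 <;>
    simp only [h1, h2, hsq, hz1, one_mul, mul_one, iff_true, iff_false] at k k1 k2 <;>
    · revert k k1 k2; revert x y t; decide

theorem bf_nondeg (u : QV Q) (hu : u ≠ 0) : ∃ v, bf hS u v ≠ 0 := by
  obtain ⟨a, rfl⟩ := vec_surjective u
  by_contra h
  push Not at h
  exact hu ((vec_eq_zero hS).2 (Subgroup.mem_center_iff.2 fun b =>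
    ((bf_eq_zero_iff hS a b).1 (h (vec b))).eq.symm))

theorem QV_two (v : QV Q) : v + v = 0 := by
  obtain ⟨a, rfl⟩ := vec_surjective v
  haveI : Fact (Nat.Prime 2) := ⟨Nat.prime_two⟩
  rw [← vec_mul, vec_eq_zero hS, ← pow_two]
  exact CfsgLib.ExtraspecialBasic.pow_mem_center hS.2.2.1 a

omit hS

/-- The data of a group of large Fischer type. -/
structure Data (z : G) (Q : Subgroup (Cz z)) [Q.Normal] where
  hS : IsExtraspecialCentralizerSetting z Q 6
  L : Subgroup (Cz z ⧸ Q)
  L_normal : L.Normal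
  L_index : L.index = 2
  L_card : Nat.card L = 9797760
  x : L
  x3 : x ^ 3 = 1
  x_ne : x ≠ 1
  x_center : x ∈ Subgroup.center L
  x_normal : ∀ h : Cz z ⧸ Q, h * x * h⁻¹ = (x : Cz z ⧸ Q) ∨ h * x * h⁻¹ = (x : Cz z ⧸ Q)⁻¹
  K : Type
  fieldK : Field K
  fintypeK : Fintype K
  cardK : Fintype.card K = 9
  π : L →* Cfsg.PSU 4 K 3
  π_surj : Function.Surjective π
  π_ker : ∀ y, π y = 1 ↔ y ∈ Subgroup.zpowers x

/-- A group of large Fischer type gives the data. -/
theorem exists_data (hF : IsOfLargeFischerTypeAt z Q) : Nonempty (Data z Q) := by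
  classical
  obtain ⟨hS, N, M, hN, hM, hQN, hNM, hcN, ⟨K, iK, iF, hK, ⟨φ⟩⟩, hidx⟩ := hF
  haveI : CharP K 3 := charP_of_card_eq_prime_pow (f := 2) (p := 3) (by rw [hK]; norm_num)
  haveI : Fact (Nat.Prime 3) := ⟨by norm_num⟩
  obtain ⟨ι, hι⟩ := CfsgLib.UThree.exists_iota hK
  have hcardP : Nat.card (Cfsg.PSU 4 K 3) = 3265920 := CfsgLib.UFourThree.card_eq hι hK
  haveI hsimp : IsSimpleGroup (Cfsg.PSU 4 K 3) :=
    CfsgLib.Forms4.isSimpleGroup_PSU (by rw [hK]; norm_num) 4 (by norm_num) (by norm_num)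
  let mkQ := QuotientGroup.mk' Q
  let L : Subgroup (Cz z ⧸ Q) := M.map mkQ
  have hQM : Q ≤ M := hQN.trans hNM
  have hLn : L.Normal := hM.map mkQ (QuotientGroup.mk'_surjective Q)
  have hLidx : L.index = 2 := by
    rw [Subgroup.index_map_eq M (QuotientGroup.mk'_surjective Q) (by rw [QuotientGroup.ker_mk']; exact hQM), hidx]
  have hQpos : 0 < Nat.card Q := Nat.card_pos
  have hM_card : Nat.card M = 3265920 * Nat.card N := by
    rw [Subgroup.card_eq_card_quotient_mul_card_subgroup (N.subgroupOf M), Nat.card_congr φ.toEquiv, hcardP,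
      Nat.card_congr (Subgroup.subgroupOfEquivOfLe hNM).toEquiv]
  have himg : ∀ (T : Subgroup (Cz z)), Q ≤ T → Nat.card (T.map mkQ) * Nat.card Q = Nat.card T := by
    intro T hT
    have h1 := (mkQ.comp T.subtype).ker.card_mul_index
    rw [Subgroup.index_ker, MonoidHom.range_comp, Subgroup.range_subtype] at h1
    rw [← h1, mul_comm]
    congr 1
    refine Nat.card_congr ⟨fun a => ⟨⟨a.1, hT a.2⟩, MonoidHom.mem_ker.2 ((QuotientGroup.eq_one_iff _).2 a.2)⟩,
      fun a => ⟨a.1.1, (QuotientGroup.eq_one_iff _).1 (MonoidHom.mem_ker.1 a.2)⟩, fun a => rfl, fun a => rfl⟩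
  have hLcard : Nat.card L = 9797760 := by
    have := himg M hQM
    rw [hM_card, hcN] at this
    have h2 : Nat.card L * Nat.card Q = 9797760 * Nat.card Q := by
      rw [show Nat.card L * Nat.card Q = 3265920 * (3 * Nat.card Q) from this]; ring
    exact Nat.eq_of_mul_eq_mul_right hQpos h2
  have hNb : Nat.card (N.map mkQ) = 3 := by
    have := himg N hQN
    rw [hcN] at this
    exact Nat.eq_of_mul_eq_mul_right hQpos this
  obtain ⟨x0, hx0⟩ : ∃ x0 : N.map mkQ, orderOf x0 = 3 := exists_prime_orderOf_dvd_card' 3 (by rw [hNb])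
  have hx0L : (x0 : Cz z ⧸ Q) ∈ L := Subgroup.map_mono hNM x0.2
  let x : L := ⟨x0.1, hx0L⟩
  have hox : orderOf x = 3 := by rw [← hx0, ← Subgroup.orderOf_coe x0, ← Subgroup.orderOf_coe x]
  have hzp : Subgroup.zpowers (x0 : Cz z ⧸ Q) = N.map mkQ :=
    Subgroup.eq_of_le_of_card_ge (Subgroup.zpowers_le.2 x0.2)
      (by rw [hNb, Nat.card_zpowers, Subgroup.orderOf_coe, hx0])
  have hNn : (N.map mkQ).Normal := hN.map mkQ (QuotientGroup.mk'_surjective Q)
  have hxn : ∀ h : Cz z ⧸ Q, h * x * h⁻¹ = (x : Cz z ⧸ Q) ∨ h * x * h⁻¹ = (x : Cz z ⧸ Q)⁻¹ := by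
    intro h
    have h1 : h * x0.1 * h⁻¹ ∈ Subgroup.zpowers (x0 : Cz z ⧸ Q) := by
      rw [hzp]; exact hNn.conj_mem _ x0.2 h
    obtain ⟨k, hk⟩ := Subgroup.mem_zpowers_iff.1 h1
    have ho : orderOf (x0 : Cz z ⧸ Q) = 3 := by rw [Subgroup.orderOf_coe, hx0]
    have hk' : (x0 : Cz z ⧸ Q) ^ (k % 3) = h * x0.1 * h⁻¹ := by
      rw [← hk]
      conv_rhs => rw [← zpow_mod_orderOf, ho]
      norm_num
    rcases (by omega : k % 3 = 0 ∨ k % 3 = 1 ∨ k % 3 = 2) with e | e | e <;> rw [e] at hk'
    · exfalso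
      rw [zpow_zero, eq_comm, conj_eq_one_iff] at hk'
      rw [hk', orderOf_one] at ho
      norm_num at ho
    · left
      show h * x0.1 * h⁻¹ = x0.1
      rw [← hk', zpow_one]
    · right
      show h * x0.1 * h⁻¹ = x0.1⁻¹
      rw [← hk', eq_inv_iff_mul_eq_one, ← zpow_add_one, show (2 : ℤ) + 1 = ((3 : ℕ) : ℤ) by norm_num,
        zpow_natCast, ← ho, pow_orderOf_eq_one]
  -- the map onto `PSU(4,3)`
  let p : M →* Cfsg.PSU 4 K 3 := φ.toMonoidHom.comp (QuotientGroup.mk' _)
  have hpker : ∀ m : M, p m = 1 ↔ (m : Cz z) ∈ N := fun m => by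
    show φ _ = 1 ↔ _
    rw [MulEquiv.map_eq_one_iff]
    exact (QuotientGroup.eq_one_iff m).trans Subgroup.mem_subgroupOf
  let r : M →* L := mkQ.subgroupMap M
  have hr : Function.Surjective r := mkQ.subgroupMap_surjective M
  have hrk : r.ker ≤ p.ker := fun m hm => by
    rw [MonoidHom.mem_ker] at hm ⊢
    exact (hpker m).2 (hQN ((QuotientGroup.eq_one_iff _).1 (congrArg Subtype.val hm)))
  let π : L →* Cfsg.PSU 4 K 3 := r.liftOfSurjective hr ⟨p, hrk⟩
  have hπr : ∀ m, π (r m) = p m := fun m => MonoidHom.liftOfRightInverse_comp_apply _ _ _ ⟨p, hrk⟩ m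
  have hπs : Function.Surjective π := fun y => by
    obtain ⟨q, rfl⟩ := φ.surjective y
    obtain ⟨m, rfl⟩ := QuotientGroup.mk_surjective q
    exact ⟨r m, hπr m⟩
  have hπk : ∀ y, π y = 1 ↔ y ∈ Subgroup.zpowers x := by
    intro y
    obtain ⟨m, rfl⟩ := hr y
    rw [hπr, hpker]
    constructor
    · intro hm
      have : (r m : Cz z ⧸ Q) ∈ Subgroup.zpowers (x0 : Cz z ⧸ Q) := by rw [hzp]; exact ⟨m.1, hm, rfl⟩
      obtain ⟨k, hk⟩ := Subgroup.mem_zpowers_iff.1 this
      exact Subgroup.mem_zpowers_iff.2 ⟨k, Subtype.ext (by rw [SubgroupClass.coe_zpow]; exact hk)⟩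
    · intro hm
      obtain ⟨k, hk⟩ := Subgroup.mem_zpowers_iff.1 hm
      have : (r m : Cz z ⧸ Q) ∈ N.map mkQ := by
        rw [← hk, SubgroupClass.coe_zpow]; exact Subgroup.zpow_mem _ x0.2 k
      obtain ⟨n, hn, e⟩ := this
      have h2 : n⁻¹ * (m : Cz z) ∈ Q := QuotientGroup.eq.1 e
      simpa using N.mul_mem hn (hQN h2)
  have hxc : x ∈ Subgroup.center L := by
    let C : Subgroup L := Subgroup.centralizer ({x} : Set L)
    have hxcases : ∀ l : L, l * x * l⁻¹ = x ∨ l * x * l⁻¹ = x⁻¹ := fun l =>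
      (hxn l.1).imp (fun e => Subtype.ext e) (fun e => Subtype.ext e)
    have hmemC : ∀ l : L, l ∈ C ↔ l * x * l⁻¹ = x := fun l => by
      rw [Subgroup.mem_centralizer_singleton_iff, mul_inv_eq_iff_eq_mul]
    have hconjC : ∀ l c : L, c ∈ C → l * c * l⁻¹ ∈ C := by
      intro l c hc
      rw [hmemC] at hc ⊢
      rcases hxcases l⁻¹ with e | e <;> rw [inv_inv] at e
      · calc l * c * l⁻¹ * x * (l * c * l⁻¹)⁻¹ = l * (c * (l⁻¹ * x * l) * c⁻¹) * l⁻¹ := by group
          _ = l * (l⁻¹ * x * l) * l⁻¹ := by rw [e, hc]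
          _ = x := by group
      · calc l * c * l⁻¹ * x * (l * c * l⁻¹)⁻¹ = l * (c * (l⁻¹ * x * l) * c⁻¹) * l⁻¹ := by group
          _ = l * (c * x * c⁻¹)⁻¹ * l⁻¹ := by rw [e]; group
          _ = l * (l⁻¹ * x * l) * l⁻¹ := by rw [hc, e]
          _ = x := by group
    haveI hCn : C.Normal := ⟨fun c hc l => hconjC l c hc⟩
    have hC2 : C.index ≤ 2 := by
      rw [Subgroup.index_eq_card]
      let f : L ⧸ C → ({x, x⁻¹} : Finset L) := fun y => ⟨y.out * x * y.out⁻¹, by
        rcases hxcases y.out with e | e <;> simp [e]⟩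
      have hf : Function.Injective f := by
        intro a b hab
        have h := congrArg Subtype.val hab
        simp only [f] at h
        rw [← a.out_eq', ← b.out_eq', QuotientGroup.eq, hmemC]
        calc a.out⁻¹ * b.out * x * (a.out⁻¹ * b.out)⁻¹ = a.out⁻¹ * (b.out * x * b.out⁻¹) * a.out := by group
          _ = x := by rw [← h]; group
      refine (Nat.card_le_card_of_injective f hf).trans ?_
      rw [Nat.card_eq_finsetCard]
      exact Finset.card_le_two
    have hxC : x ∈ C := (hmemC x).2 (by group)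
    have hCtop : C = ⊤ := by
      rcases (Subgroup.Normal.map hCn π hπs).eq_bot_or_eq_top with h | h
      · exfalso
        have hle : C ≤ Subgroup.zpowers x := fun c hc =>
          (hπk c).1 (by rw [← Subgroup.mem_bot, ← h]; exact ⟨c, hc, rfl⟩)
        have h1 := Subgroup.card_le_of_le hle
        rw [Nat.card_zpowers, hox] at h1
        have h2 := C.card_mul_index
        rw [hLcard] at h2
        nlinarith
      · rw [eq_top_iff]
        intro l _
        obtain ⟨c, hc, e⟩ : π l ∈ C.map π := by rw [h]; trivial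
        have hk : c⁻¹ * l ∈ Subgroup.zpowers x := (hπk _).1 (by rw [map_mul, map_inv, e, inv_mul_cancel])
        simpa using C.mul_mem hc (Subgroup.zpowers_le.2 hxC hk)
    refine Subgroup.mem_center_iff.2 fun l => ?_
    have := (hmemC l).1 (hCtop ▸ Subgroup.mem_top l)
    exact mul_inv_eq_iff_eq_mul.1 this
  refine ⟨⟨hS, L, hLn, hLidx, hLcard, x, ?_, fun e => ?_, hxc, hxn, K, iK, iF, hK, π, hπs, hπk⟩⟩
  · rw [← hox]; exact pow_orderOf_eq_one x
  · rw [e, orderOf_one] at hox; norm_num at hox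

namespace Data

variable (D : Data z Q)

/-- The setting on `L`. -/
noncomputable def setting : Setting D.L (QV Q) where
  φ l := act l.1
  φ_mul a b v := act_mul D.hS a.1 b.1 v
  faithful l hl := Subtype.ext (act_faithful D.hS l.1 hl)
  x := D.x
  x3 := D.x3
  x_ne := D.x_ne
  x_center := D.x_center
  two := QV_two D.hS
  card_V := card_QV D.hS
  q := qf D.hS
  b := bf D.hS
  q_add u v := by unfold bf; ring
  b_add := bf_add D.hS
  nondeg := bf_nondeg D.hS
  q_inv l v := qf_act D.hS l.1 v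

theorem exists_frame : Nonempty (Frame D.setting) :=
  @Setting.exists_frame_of_psu _ _ _ _ D.setting D.K D.fieldK D.fintypeK D.cardK D.π D.π_surj D.π_ker

end Data

end CfsgLib.LargeFischer
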