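import Cfsg.Agent.LargeFischer.SplitFrame

/-!
# A perfect group cannot act on the subgroup of order sixteen

The vectors of weight two form two blocks of three; a perfect group preserving them fixes both blocks
pointwise, so cannot induce the rotation of a triple.
-/

set_option autoImplicit false
set_option maxHeartbeats 400000
set_option linter.style.haveILetI false

namespace CfsgLib.LargeFischer.SplitGeom

theorem side1 : ∀ l : W, ∀ x ∈ trip l, ∀ x' ∈ trip l, (suppW (in1 x + in1 x')).card ≠ 4 := by decide +kernel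

theorem side2 : ∀ l : W, ∀ x ∈ trip l, ∀ x' ∈ trip l, (suppW (in2 x + in2 x')).card ≠ 4 := by decide +kernel

set_option synthInstance.maxSize 2000 in
theorem small_weights : ∀ l m : W, ∀ x ∈ trip l, ∀ y ∈ trip m,
    (suppW (in1 x + in2 y)).card ∈ ([0, 2, 4] : List ℕ) := by decide +kernel

theorem trip_three : ∀ l : W, l ≠ 0 →
    (Finset.univ.filter fun x : W × W × W => x ∈ trip l ∧ x ≠ (0, 0, 0)).card = 3 := by decide +kernel

theorem rot_moves : ∀ l : W, l ≠ 0 → rot1 (in1 (l, l, 0)) ≠ in1 (l, l, 0) := by decide +kernel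

theorem in1_inj {x x' : W × W × W} (h : in1 x = in1 x') : x = x' :=
  Prod.ext (congrFun h 0) (Prod.ext (congrFun h 1) (congrFun h 2))

/-- No action of the alternating group of degree six on such a subgroup induces both rotations. -/
theorem no_action {T : AddSubgroup Vec} (hone : ones ∉ T) (hpar : ∀ v ∈ T, par v = 0)
    (hpar' : ∀ v ∈ T, par (v + ones) = 0) (hcard : Nat.card T = 16)
    (ρ : alternatingGroup (Fin 6) → (Vec ≃+ Vec)) (hmul : ∀ a b v, ρ (a * b) v = ρ a (ρ b v))
    (hT : ∀ a, ∀ v ∈ T, ρ a v ∈ T)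
    (hw : ∀ a, ∀ v ∈ T, (suppW v).card = 2 → (suppW (ρ a v)).card = 2 ∨ (suppW (ρ a v)).card = 6)
    {p₁ p₂ : alternatingGroup (Fin 6)} (h1 : ∀ v, ρ p₁ v = rot1 v) (h2 : ∀ v, ρ p₂ v = rot2 v) : False := by
  classical
  obtain ⟨l, m, hl, hm, hl1, hm1, hshape⟩ := shape hone hpar hpar' hcard (fun v hv => h1 v ▸ hT p₁ v hv)
    (fun v hv => h2 v ▸ hT p₂ v hv)
  have hρ1 : ∀ v, ρ 1 v = v := fun v => (ρ 1).injective (by rw [← hmul, one_mul])
  have hinv : ∀ a v, ρ a⁻¹ (ρ a v) = v := fun a v => by rw [← hmul, inv_mul_cancel, hρ1]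
  -- weights on `T`
  have hwt : ∀ v ∈ T, (suppW v).card = 0 ∨ (suppW v).card = 2 ∨ (suppW v).card = 4 := fun v hv => by
    obtain ⟨x, hx, y, hy, rfl⟩ := hshape v hv
    simpa using small_weights l m x hx y hy
  have htwo : ∀ a, ∀ v ∈ T, (suppW v).card = 2 → (suppW (ρ a v)).card = 2 := fun a v hv h =>
    (hw a v hv h).resolve_right fun e => by rcases hwt _ (hT a v hv) with h' | h' | h' <;> omega
  have hzero : ∀ v : Vec, (suppW v).card = 0 ↔ v = 0 := fun v => by
    simp [suppW, Finset.filter_eq_empty_iff, funext_iff]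
  have hfour : ∀ a, ∀ v ∈ T, ((suppW (ρ a v)).card = 4 ↔ (suppW v).card = 4) := by
    have key : ∀ a, ∀ v ∈ T, (suppW v).card = 4 → (suppW (ρ a v)).card = 4 := fun a v hv h => by
      rcases hwt _ (hT a v hv) with h' | h' | h'
      · rw [hzero] at h'
        rw [(ρ a).map_eq_zero_iff.1 h', (hzero 0).2 rfl] at h
        omega
      · have := htwo a⁻¹ _ (hT a v hv) h'
        rw [hinv] at this
        omega
      · exact h'
    exact fun a v hv => ⟨fun h => by simpa [hinv] using key a⁻¹ _ (hT a v hv) h, key a v hv⟩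
  -- the two blocks
  let P : Vec → Prop := fun v => ∃ x ∈ trip l, x ≠ (0, 0, 0) ∧ v = in1 x
  let P' : Vec → Prop := fun v => ∃ y ∈ trip m, y ≠ (0, 0, 0) ∧ v = in2 y
  have hP : ∀ v, P v → v ∈ T ∧ (suppW v).card = 2 := by
    rintro v ⟨x, hx, hx0, rfl⟩
    refine ⟨hl1 x hx, ?_⟩
    have := (weight_two l m x hx (0, 0, 0) (by simp [trip])).2 (by simp [hx0])
    rwa [in2_zero, add_zero] at this
  have hcase : ∀ v ∈ T, (suppW v).card = 2 → P v ∨ P' v := by
    intro v hv h
    obtain ⟨x, hx, y, hy, rfl⟩ := hshape v hv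
    rw [weight_two l m x hx y hy] at h
    by_cases hx0 : x = (0, 0, 0)
    · exact Or.inr ⟨y, hy, h.1 hx0, by rw [hx0, in1_zero, zero_add]⟩
    · refine Or.inl ⟨x, hx, hx0, ?_⟩
      rw [(not_not.1 fun hy0 => hx0 (h.2 hy0) : y = (0, 0, 0)), in2_zero, add_zero]
  have hside : ∀ u v, u ∈ T → v ∈ T → (suppW u).card = 2 → (suppW v).card = 2 →
      ((P u ↔ P v) ↔ (suppW (u + v)).card ≠ 4) := by
    intro u v hu hv h h'
    have hdis : ∀ w, P' w → ¬ P w := by
      rintro w ⟨y, hy, hy0, rfl⟩ ⟨x, hx, hx0, e⟩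
      have := mixed_weight l m x hx y hy hx0 hy0
      rw [← e, add_self_vec, (hzero 0).2 rfl] at this
      omega
    rcases hcase u hu h with hPu | hPu <;> rcases hcase v hv h' with hPv | hPv
    · refine iff_of_true (iff_of_true hPu hPv) ?_
      obtain ⟨x, hx, -, rfl⟩ := hPu; obtain ⟨x', hx', -, rfl⟩ := hPv
      exact side1 l x hx x' hx'
    · refine iff_of_false (fun e => hdis v hPv (e.1 hPu)) (not_not.2 ?_)
      obtain ⟨x, hx, hx0, rfl⟩ := hPu; obtain ⟨y, hy, hy0, rfl⟩ := hPv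
      exact mixed_weight l m x hx y hy hx0 hy0
    · refine iff_of_false (fun e => hdis u hPu (e.2 hPv)) (not_not.2 ?_)
      obtain ⟨x, hx, hx0, rfl⟩ := hPv; obtain ⟨y, hy, hy0, rfl⟩ := hPu
      rw [add_comm]
      exact mixed_weight l m x hx y hy hx0 hy0
    · refine iff_of_true (iff_of_false (hdis u hPu) (hdis v hPv)) ?_
      obtain ⟨x, hx, -, rfl⟩ := hPu; obtain ⟨x', hx', -, rfl⟩ := hPv
      exact side2 m x hx x' hx'
  have hpres : ∀ a u v, u ∈ T → v ∈ T → (suppW u).card = 2 → (suppW v).card = 2 →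
      ((P (ρ a u) ↔ P (ρ a v)) ↔ (P u ↔ P v)) := fun a u v hu hv h h' => by
    rw [hside _ _ (hT a u hu) (hT a v hv) (htwo a u hu h) (htwo a v hv h'), hside u v hu hv h h', ← map_add]
    exact not_congr (hfour a _ (T.add_mem hu hv))
  -- the blocks are fixed
  set u₀ : Vec := in1 (l, l, 0)
  have hu₀ : P u₀ := ⟨(l, l, 0), by simp [trip], by simp [hl], rfl⟩
  have hhom : ∀ a b, P (ρ (a * b) u₀) ↔ (P (ρ a u₀) ↔ P (ρ b u₀)) := fun a b => by
    obtain ⟨hu, hu2⟩ := hP u₀ hu₀
    have h := hpres a u₀ (ρ b u₀) hu (hT b _ hu) hu2 (htwo b _ hu hu2)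
    have h' : P (ρ b u₀) ↔ (P (ρ a u₀) ↔ P (ρ a (ρ b u₀))) :=
      ⟨fun hb => h.2 (iff_of_true hu₀ hb), fun e => (h.1 e).1 hu₀⟩
    rw [hmul]
    by_cases ha : P (ρ a u₀) <;> by_cases hb : P (ρ b u₀) <;> simp_all
  let χ : alternatingGroup (Fin 6) →* Multiplicative (ZMod 2) :=
    MonoidHom.mk' (fun a => Multiplicative.ofAdd (if P (ρ a u₀) then 0 else 1)) fun a b => by
      rw [← ofAdd_add]
      congr 1
      by_cases ha : P (ρ a u₀) <;> by_cases hb : P (ρ b u₀) <;> simp [hhom a b, ha, hb] <;> rfl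
  have hfix : ∀ a, ∀ v, P v → P (ρ a v) := by
    intro a v hv
    have h := alternating_perfect ▸ Abelianization.commutator_subset_ker χ
    have ha : P (ρ a u₀) := by
      by_contra ha
      have := MonoidHom.mem_ker.1 (h (Subgroup.mem_top a))
      simp [χ, ha] at this
    obtain ⟨hu, hu2⟩ := hP u₀ hu₀
    obtain ⟨hvT, hv2⟩ := hP v hv
    exact ((hpres a u₀ v hu hvT hu2 hv2).2 (iff_of_true hu₀ hv)).1 ha
  -- and fixed pointwise
  have hc3 : Nat.card {v // P v} = 3 := by
    rw [← trip_three l hl, ← Fintype.card_subtype, ← Nat.card_eq_fintype_card]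
    refine (Nat.card_congr (Equiv.ofBijective (fun x : {x : W × W × W // x ∈ trip l ∧ x ≠ (0, 0, 0)} =>
      (⟨in1 x.1, x.1, x.2.1, x.2.2, rfl⟩ : {v // P v})) ⟨fun x x' h => ?_, ?_⟩)).symm
    · exact Subtype.ext (in1_inj (congrArg Subtype.val h))
    · rintro ⟨v, x, hx, hx0, rfl⟩
      exact ⟨⟨x, hx, hx0⟩, rfl⟩
  let g : alternatingGroup (Fin 6) →* Equiv.Perm {v // P v} :=
    MonoidHom.mk' (fun a =>
      { toFun := fun v => ⟨ρ a v.1, hfix a _ v.2⟩
        invFun := fun v => ⟨ρ a⁻¹ v.1, hfix a⁻¹ _ v.2⟩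
        left_inv := fun v => Subtype.ext (hinv a v.1)
        right_inv := fun v => Subtype.ext (show ρ a (ρ a⁻¹ v.1) = v.1 by
          rw [← hmul, mul_inv_cancel, hρ1]) })
      fun a b => Equiv.ext fun v => Subtype.ext (hmul a b v.1)
  haveI : Fintype {v // P v} := Fintype.ofFinite _
  haveI : DecidableEq {v // P v} := Classical.decEq _
  have hsign : ∀ a, g a ∈ alternatingGroup {v // P v} := fun a => by
    have h := alternating_perfect ▸ Abelianization.commutator_subset_ker (Equiv.Perm.sign.comp g)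
    exact Equiv.Perm.mem_alternatingGroup.2 (MonoidHom.mem_ker.1 (h (Subgroup.mem_top a)))
  have hcomm : ∀ a b : alternatingGroup {v // P v}, a * b = b * a := by
    haveI : Nontrivial {v // P v} := Finite.one_lt_card_iff_nontrivial.1 (by rw [hc3]; norm_num)
    have h := two_mul_nat_card_alternatingGroup (α := {v // P v})
    rw [Nat.card_perm, hc3, show Nat.factorial 3 = 6 from rfl] at h
    haveI : Fact (Nat.Prime 3) := ⟨by norm_num⟩
    haveI := isCyclic_of_prime_card (p := 3) (show Nat.card (alternatingGroup {v // P v}) = 3 by omega)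
    exact fun a b => (IsCyclic.isMulCommutative).is_comm.comm a b
  let g' : alternatingGroup (Fin 6) →* alternatingGroup {v // P v} := g.codRestrict _ hsign
  have hker : g'.ker = ⊤ := by
    rw [eq_top_iff, ← alternating_perfect, commutator_def, Subgroup.commutator_le]
    intro a _ b _
    rw [MonoidHom.mem_ker, map_commutatorElement, commutatorElement_eq_one_iff_mul_comm]
    exact hcomm _ _
  have h' : g' p₁ = 1 := by rw [← MonoidHom.mem_ker, hker]; trivial
  have h : g p₁ = 1 := by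
    have := congrArg (fun a : alternatingGroup {v // P v} => (a : Equiv.Perm {v // P v})) h'
    exact this
  have : ρ p₁ u₀ = u₀ := congrArg (fun σ : Equiv.Perm {v // P v} => (σ ⟨u₀, hu₀⟩).1) h
  exact rot_moves l hl ((h1 u₀).symm.trans this)

end CfsgLib.LargeFischer.SplitGeom
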