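import Cfsg.Agent.LargeFischer.LiftX
import Cfsg.Agent.LargeFischer.SplitAction
import Cfsg.Agent.LargeFischer.Cover

/-!
# The centralizer of the scalar does not split

A section of `L` in the centralizer would give a subgroup of order sixteen of the module at the dual vector,
stable under an alternating group of degree six, which is impossible.
-/

set_option autoImplicit false
set_option linter.unusedSectionVars false
set_option linter.style.haveILetI false
set_option maxHeartbeats 1000000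

namespace CfsgLib.LargeFischer

open Cfsg
open scoped commutatorElement

/-- The group of order nine of the two triples. -/
noncomputable def pairHom : Multiplicative (ZMod 3 × ZMod 3) →* alternatingGroup (Fin 6) :=
  MonoidHom.mk' (fun p => Frame.cycle1 ^ (Multiplicative.toAdd p).1.val * Frame.cycle2 ^ (Multiplicative.toAdd p).2.val)
    (by decide +kernel)

theorem pairHom_facts : (∀ a, pairHom a ^ 3 = 1) ∧ (∀ a, pairHom a = 1 → a = 1) ∧
    pairHom (Multiplicative.ofAdd (1, 0)) = Frame.cycle1 ∧ pairHom (Multiplicative.ofAdd (0, 1)) = Frame.cycle2 := by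
  refine ⟨?_, ?_, ?_, ?_⟩ <;> decide +kernel

variable {G : Type*} [Group G] [Finite G] {z : G} {Q : Subgroup (Cz z)} [Q.Normal]

theorem toG_injective : Function.Injective (toG (Q := Q)) := fun a b h => Subtype.ext (Subtype.ext h)

namespace Gen

variable {D : Data z Q} (Y : Gen D)

theorem fix_of_stab {g : G} {x : Q} (hgx : g * z * g⁻¹ = toG x) (hnorm : Y.norm3 x = 1) {n : Cz z}
    (hn : Commute n Y.y) (hst : act (QuotientGroup.mk n : Cz z ⧸ Q) (vec x) = vec x) :
    Commute (n : G) (toG x) := by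
  rw [act_mk D.hS, actC_vec] at hst
  have hcomm : ∀ w, conjIn n (conjIn Y.y w) = conjIn Y.y (conjIn n w) := fun w => by
    rw [← conjIn_mul (Q := Q), hn.eq, conjIn_mul]
  rcases (mem_center_cases D.hS).1 ((vec_eq_iff D.hS).1 hst) with h | h
  · have e : toG (conjIn n x) = toG x := congrArg toG (inv_mul_eq_one.1 h)
    have e' : (n : G) * toG x * (n : G)⁻¹ = toG x := by
      exact (congrArg Subtype.val (conjIn_coe n x)).symm.trans e
    exact mul_inv_eq_iff_eq_mul.1 e'
  · exfalso
    have e : conjIn n x = x * zin D.hS := by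
      have h' : x = conjIn n x * zin D.hS := by rw [← h, mul_inv_cancel_left]
      conv_rhs => rw [h', mul_assoc, zin_sq, mul_one]
    have hc : ∀ w, w * zin D.hS = zin D.hS * w := fun w =>
      Subgroup.mem_center_iff.1 ((mem_center_cases D.hS).2 (Or.inr rfl)) w
    have hy : ∀ w, conjIn Y.y (w * zin D.hS) = conjIn Y.y w * zin D.hS := fun w => by
      rw [map_mul, ← zp_one D.hS, conjIn_zp]
    have h1 : Y.norm3 (conjIn n x) = 1 := by
      rw [norm3, ← hcomm, ← hcomm, ← map_mul, ← map_mul]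
      rw [show x * conjIn Y.y x * conjIn Y.y (conjIn Y.y x) = 1 from hnorm, map_one]
    rw [e, norm3, hy, hy] at h1
    apply zin_ne_one D.hS
    have hcc : zin D.hS * zin D.hS = 1 := zin_sq D.hS
    have hn' : x * conjIn Y.y x * conjIn Y.y (conjIn Y.y x) = 1 := hnorm
    generalize zin D.hS = c at h1 hc hcc ⊢
    generalize conjIn Y.y x = a, conjIn Y.y (conjIn Y.y x) = b at h1 hn'
    rw [← h1]
    calc c = x * a * b * (c * c) * c := by rw [hn', hcc, one_mul, one_mul]
      _ = x * a * (b * c) * (c * c) := by group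
      _ = x * a * (c * b) * (c * c) := by rw [← hc b]
      _ = x * (a * c) * (b * c) * c := by group
      _ = x * (c * a) * (b * c) * c := by rw [← hc a]
      _ = x * c * a * (b * c) * c := by group
      _ = x * c * a * (c * (b * c)) := by rw [← hc (b * c)]; group
      _ = x * c * (a * c) * (b * c) := by group

theorem no_section (S : D.L →* Cz z) (hS : ∀ l, (QuotientGroup.mk (S l) : Cz z ⧸ Q) = l.1)
    (hcomm : ∀ l, Commute (S l) Y.y) : False := by
  classical
  obtain ⟨g₀, x₀, hg₀, hx₀⟩ := D.exists_conj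
  obtain ⟨g, x, hgx, hx, hnorm⟩ := Y.exists_canonical hg₀ hx₀
  obtain ⟨C, hones, -⟩ := D.exists_coords_at hgx hx
  -- the dual vector
  obtain ⟨t, ht⟩ := mem_inG.1 (mem_conjQ.1 (z_mem_conjQ D hgx hx))
  obtain ⟨hxz, hx1⟩ := toG_x_ne D hx
  have htc : t ∉ Subgroup.center Q := fun h => by
    rcases (mem_center_cases D.hS).1 h with e | e
    · have h1 : g⁻¹ * z * g = 1 := by rw [← ht, e]; rfl
      exact zin_ne_one D.hS (toG_injective (show z = (1 : G) by
        calc z = g * (g⁻¹ * z * g) * g⁻¹ := by group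
          _ = 1 := by rw [h1]; group))
    · have h1 : g⁻¹ * z * g = z := by rw [← ht, e]; rfl
      exact hxz (by rw [← hgx]; nth_rewrite 1 [← h1]; group)
  obtain ⟨C2, hones2, hc2⟩ := D.exists_coords_at (g := g⁻¹) (x := t) (by rw [ht, inv_inv]) htc
  have htB : C2.F.InB C2.c (vec t) := Or.inr (by
    rw [hones2]; exact ⟨Frame.classW_ones.1, by rw [Frame.classW_ones.2]; exact hc2.symm⟩)
  -- the alternating group on the dual side
  have hPstab : ∀ π, act (C.F.permHom π).1 (vec x) = vec x := fun π => C.F.permHom_fix hones π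
  have hfix : ∀ π, Commute ((S (C.F.permHom π) : Cz z) : G) (toG x) := fun π =>
    Y.fix_of_stab hgx hnorm (hcomm _) (by rw [hS]; exact hPstab π)
  let τ : alternatingGroup (Fin 6) →* Cz z :=
    MonoidHom.mk' (fun π => ⟨g⁻¹ * (S (C.F.permHom π) : Cz z).1 * g, mem_Cz_of_commute hgx (hfix π)⟩) fun a b =>
      Subtype.ext (by
        show g⁻¹ * (S (C.F.permHom (a * b)) : Cz z).1 * g = _ * _
        rw [map_mul, map_mul, Subgroup.coe_mul]; group)
  let τb : alternatingGroup (Fin 6) →* Cz z ⧸ Q := (QuotientGroup.mk' Q).comp τ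
  haveI := D.L_normal
  have hτL : ∀ π, τb π ∈ D.L := by
    have h2 : Nat.card ((Cz z ⧸ Q) ⧸ D.L) = 2 := by rw [← Subgroup.index_eq_card, D.L_index]
    haveI : Fact (Nat.Prime 2) := ⟨Nat.prime_two⟩
    haveI := isCyclic_of_prime_card (p := 2) h2
    have htop : ((QuotientGroup.mk' D.L).comp τb).ker = ⊤ := by
      rw [eq_top_iff, ← alternating_perfect, commutator_def, Subgroup.commutator_le]
      intro a _ b _
      rw [MonoidHom.mem_ker, map_commutatorElement, commutatorElement_eq_one_iff_mul_comm]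
      exact (IsCyclic.isMulCommutative).is_comm.comm _ _
    intro π
    exact (QuotientGroup.eq_one_iff _).1 (MonoidHom.mem_ker.1 (htop ▸ Subgroup.mem_top π) :)
  have hτt : ∀ π, conjIn (τ π) t = t := fun π => by
    refine toG_injective ?_
    show ((conjIn (τ π) t : Q) : Cz z).1 = toG t
    rw [conjIn_coe]
    show g⁻¹ * (S (C.F.permHom π) : Cz z).1 * g * toG t * (g⁻¹ * (S (C.F.permHom π) : Cz z).1 * g)⁻¹ = toG t
    rw [ht]
    have hz : Commute (S (C.F.permHom π) : Cz z).1 z :=
      Subgroup.mem_centralizer_singleton_iff.1 (S (C.F.permHom π)).2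
    calc g⁻¹ * (S (C.F.permHom π) : Cz z).1 * g * (g⁻¹ * z * g) * (g⁻¹ * (S (C.F.permHom π) : Cz z).1 * g)⁻¹
        = g⁻¹ * ((S (C.F.permHom π) : Cz z).1 * z * ((S (C.F.permHom π) : Cz z).1)⁻¹) * g := by group
      _ = g⁻¹ * z * g := by rw [hz.eq, mul_inv_cancel_right]
  have hτstab : ∀ π, τb π ∈ C2.stab (vec t) ⊓ D.L := fun π => ⟨by
    show act (QuotientGroup.mk (τ π) : Cz z ⧸ Q) (vec t) = vec t
    rw [act_mk D.hS, actC_vec, hτt], hτL π⟩
  have hτinj : ∀ π, π ^ 3 = 1 → τb π = 1 → π = 1 := by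
    intro π h3 h1
    have hq : g⁻¹ * (S (C.F.permHom π) : Cz z).1 * g ∈ inG Q :=
      mem_inG.2 ⟨⟨τ π, (QuotientGroup.eq_one_iff _).1 h1⟩, rfl⟩
    have he : (C.F.permHom π).1 ∈ eImage Q g :=
      ⟨S (C.F.permHom π), ⟨mem_conjQ.2 hq, (S (C.F.permHom π)).2⟩, hS _⟩
    have h2 := (eImage_elementary D hgx hx).2 _ he
    have h3' : (C.F.permHom π).1 ^ 3 = 1 := by rw [← SubgroupClass.coe_pow, ← map_pow, h3, map_one]; rfl
    rw [pow_succ, h2, one_mul] at h3'
    exact C.F.permHom_injective ((Subtype.ext h3').trans (map_one _).symm)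
  -- matching the two groups of order nine
  set R := C2.stab (vec t) ⊓ D.L with hR
  have hRcard : Nat.card R = 5760 := C2.card_stab_L (C2.card_orbit_B htB) (by norm_num)
  let ι₁ : Multiplicative (ZMod 3 × ZMod 3) →* R := (τb.comp pairHom).codRestrict R fun a => hτstab _
  let ι₂ : Multiplicative (ZMod 3 × ZMod 3) →* R :=
    (D.L.subtype.comp (C2.F.permHom.comp pairHom)).codRestrict R fun a =>
      ⟨C2.F.permHom_fix hones2 _, (C2.F.permHom (pairHom a)).2⟩
  have hι₁ : Function.Injective ι₁ := (injective_iff_map_eq_one _).2 fun a ha =>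
    pairHom_facts.2.1 a (hτinj _ (pairHom_facts.1 a) (congrArg Subtype.val ha :))
  have hι₂ : Function.Injective ι₂ := (injective_iff_map_eq_one _).2 fun a ha =>
    pairHom_facts.2.1 a (C2.F.permHom_injective ((show C2.F.permHom (pairHom a) = 1 from
      Subtype.ext (congrArg Subtype.val ha :)).trans (map_one _).symm))
  haveI : Fact (Nat.Prime 3) := ⟨by norm_num⟩
  have h9 : ∀ (ι : Multiplicative (ZMod 3 × ZMod 3) →* R), Function.Injective ι →
      Nat.card ι.range = 3 ^ (Nat.card R).factorization 3 := fun ι hι => by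
    rw [← Nat.card_congr (MonoidHom.ofInjective hι).toEquiv, hRcard, show (5760 : ℕ) = 3 ^ 2 * 640 by norm_num,
      Nat.factorization_mul (by norm_num) (by norm_num), Finsupp.add_apply,
      Nat.Prime.factorization_pow (by norm_num), Finsupp.single_eq_same,
      Nat.factorization_eq_zero_of_not_dvd (by norm_num)]
    simp [Nat.card_eq_fintype_card]
  obtain ⟨k, hk⟩ := MulAction.exists_smul_eq R (Sylow.ofCard _ (h9 ι₁ hι₁)) (Sylow.ofCard _ (h9 ι₂ hι₂))
  have hmatch : ∀ a, ∃ b, k.1 * τb (pairHom b) = (C2.F.permHom (pairHom a)).1 * k.1 := fun a => by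
    have hmem : ι₂ a ∈ ((Sylow.ofCard _ (h9 ι₂ hι₂) : Sylow 3 R) : Subgroup R) := ⟨a, rfl⟩
    rw [← hk] at hmem
    obtain ⟨u, ⟨b, rfl⟩, hb⟩ := hmem
    refine ⟨b, ?_⟩
    have hb' : k.1 * τb (pairHom b) * k.1⁻¹ = (C2.F.permHom (pairHom a)).1 := congrArg Subtype.val hb
    rw [← hb', inv_mul_cancel_right]
  -- coordinates at the dual vector
  let co : QV Q ≃+ SplitGeom.Vec := (act k.1).trans C2.F.coord
  have hcot : co (vec t) = SplitGeom.ones := by
    show C2.F.coord (act k.1 (vec t)) = _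
    rw [C2.mem_stab.1 k.2.1, hones2]
  have hcopar : ∀ a : Q, a * a = 1 → SplitGeom.par (co (vec a)) = 0 := fun a ha => by
    rw [SplitGeom.par_eq, show co (vec a) = C2.F.coord (act k.1 (vec a)) from rfl, ← C2.F.q_coord]
    show qf D.hS (act k.1 (vec a)) = 0
    rw [qf_act, qf_eq_zero_iff D.hS]
    exact ha
  -- the subgroup of order sixteen
  set E₀ : Subgroup D.L := (eImage Q g).subgroupOf D.L with hE₀
  obtain ⟨-, hE32, -, -⟩ := image_main D hgx hx C
  have hE16 : Nat.card E₀ = 16 := by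
    have h1 : D.L.relIndex (eImage Q g) = 2 := by
      have hd := Subgroup.relIndex_dvd_index_of_normal D.L (eImage Q g)
      rw [D.L_index] at hd
      exact ((Nat.dvd_prime Nat.prime_two).1 hd).resolve_left fun e =>
        not_eImage_le D hgx hx (Subgroup.relIndex_eq_one.1 e)
    have h2 := (D.L.subgroupOf (eImage Q g)).card_mul_index
    rw [show (D.L.subgroupOf (eImage Q g)).index = 2 from h1, hE32] at h2
    have h3 : Nat.card E₀ = Nat.card (D.L.subgroupOf (eImage Q g)) :=
      Nat.card_congr ⟨fun a => ⟨⟨a.1.1, a.2⟩, a.1.2⟩, fun a => ⟨⟨a.1.1, a.2⟩, a.1.2⟩, fun _ => rfl, fun _ => rfl⟩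
    omega
  have hmem : ∀ e : E₀, ∃ q : Q, toG q = g⁻¹ * (S e.1 : Cz z).1 * g := fun e =>
    mem_inG.1 (mem_conjQ.1 (Y.lift_mem hgx hx hnorm (hcomm _) (by rw [hS]; exact e.2)))
  choose Φ hΦ using hmem
  have hΦmul : ∀ a b, Φ (a * b) = Φ a * Φ b := fun a b => toG_injective (by
    rw [show toG (Φ a * Φ b) = toG (Φ a) * toG (Φ b) from rfl, hΦ, hΦ, hΦ, Subgroup.coe_mul, map_mul,
      Subgroup.coe_mul]
    group)
  let ψ : Additive E₀ →+ SplitGeom.Vec :=
    AddMonoidHom.mk' (fun e => co (vec (Φ (Additive.toMul e)))) fun a b => by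
      rw [toMul_add, hΦmul, vec_mul, map_add]
  have hsq : ∀ e, e * e = (1 : E₀) := fun e => by
    refine Subtype.ext (Subtype.ext ?_)
    have := (eImage_elementary D hgx hx).2 _ e.2
    rwa [pow_two] at this
  have hΦ1 : Φ 1 = 1 := mul_eq_left.1 (by rw [← hΦmul, one_mul])
  have hker : ∀ (e : E₀) (u a : Q), toG a = g * toG u * g⁻¹ → vec (Φ e) = vec u → e = 1 := by
    intro e u a ha he
    obtain ⟨b, hb⟩ : ∃ b : Q, (S e.1 : Cz z).1 = toG b := by
      have hS' : (S e.1 : Cz z).1 = g * toG (Φ e) * g⁻¹ := by rw [hΦ]; group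
      rcases (mem_center_cases D.hS).1 ((vec_eq_iff D.hS).1 he.symm) with h | h
      · refine ⟨a, ?_⟩
        rw [hS', ← inv_mul_eq_one.1 h, ha]
      · refine ⟨a * x, ?_⟩
        have h' : toG (Φ e) = toG u * z := congrArg toG (show Φ e = u * zin D.hS by rw [← h, mul_inv_cancel_left])
        rw [hS', h', show toG (a * x) = toG a * toG x from rfl, ha, ← hgx]
        group
    have h1 : (QuotientGroup.mk (S e.1) : Cz z ⧸ Q) = 1 := by
      rw [show S e.1 = b.1 from Subtype.ext hb]
      exact (QuotientGroup.eq_one_iff _).2 b.2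
    exact Subtype.ext (Subtype.ext ((hS e.1).symm.trans h1))
  have hψ : Function.Injective ψ := (injective_iff_map_eq_zero ψ).2 fun e he => by
    have h1 : vec (Φ (Additive.toMul e)) = vec 1 := co.injective (by
      rw [vec_one, map_zero]; exact he)
    exact hker (Additive.toMul e) 1 1 (show (1 : G) = g * 1 * g⁻¹ by group) h1
  set T := ψ.range with hTdef
  have hone : SplitGeom.ones ∉ T := by
    rintro ⟨e, he⟩
    have h1 : vec (Φ (Additive.toMul e)) = vec t := co.injective (by rw [hcot]; exact he)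
    have h2 := hker (Additive.toMul e) t (zin D.hS) (show z = g * toG t * g⁻¹ by rw [ht]; group) h1
    rw [h2, hΦ1, vec_one] at h1
    exact htc ((vec_eq_zero D.hS).1 h1.symm)
  have hΦsq : ∀ e, Φ e * Φ e = 1 := fun e => by rw [← hΦmul, hsq, hΦ1]
  have hpar : ∀ v ∈ T, SplitGeom.par v = 0 := by
    rintro _ ⟨e, rfl⟩
    exact hcopar _ (hΦsq _)
  have hpar' : ∀ v ∈ T, SplitGeom.par (v + SplitGeom.ones) = 0 := by
    rintro _ ⟨e, rfl⟩
    rw [← hcot, AddMonoidHom.mk'_apply, ← map_add, ← vec_mul]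
    refine hcopar _ (toG_injective ?_)
    have hz : Commute (S (Additive.toMul e).1 : Cz z).1 z :=
      Subgroup.mem_centralizer_singleton_iff.1 (S (Additive.toMul e).1).2
    have hz2 : z * z = 1 := by rw [← pow_two, ← D.hS.1]; exact pow_orderOf_eq_one z
    have he2 : (S (Additive.toMul e).1 : Cz z).1 * (S (Additive.toMul e).1 : Cz z).1 = 1 := by
      rw [← Subgroup.coe_mul, ← map_mul, show (Additive.toMul e).1 * (Additive.toMul e).1 = (1 : D.L) from
        congrArg Subtype.val (hsq _), map_one]; rfl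
    show toG (Φ (Additive.toMul e)) * toG t * (toG (Φ (Additive.toMul e)) * toG t) = 1
    rw [hΦ, ht]
    generalize (S (Additive.toMul e).1 : Cz z).1 = n at hz he2
    calc g⁻¹ * n * g * (g⁻¹ * z * g) * (g⁻¹ * n * g * (g⁻¹ * z * g))
        = g⁻¹ * (n * (z * n) * z) * g := by group
      _ = g⁻¹ * (n * (n * z) * z) * g := by rw [← hz.eq]
      _ = g⁻¹ * ((n * n) * (z * z)) * g := by group
      _ = 1 := by rw [he2, hz2]; group
  have hT16 : Nat.card T = 16 := by
    rw [← hE16]
    exact (Nat.card_congr (AddMonoidHom.ofInjective hψ).toEquiv).symm.trans (Nat.card_congr Additive.toMul)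
  -- the action
  let ρ : alternatingGroup (Fin 6) → (SplitGeom.Vec ≃+ SplitGeom.Vec) := fun π =>
    co.symm.trans ((act (τb π)).trans co)
  have hρ : ∀ π w, ρ π (co w) = co (act (τb π) w) := fun π w => by simp [ρ]
  obtain ⟨b₁, hb₁⟩ := hmatch (Multiplicative.ofAdd (1, 0))
  obtain ⟨b₂, hb₂⟩ := hmatch (Multiplicative.ofAdd (0, 1))
  rw [pairHom_facts.2.2.1] at hb₁
  rw [pairHom_facts.2.2.2] at hb₂
  refine SplitGeom.no_action hone hpar hpar' hT16 ρ (fun a b v => ?_) ?_ ?_ (p₁ := pairHom b₁) (p₂ := pairHom b₂)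
    (fun v => ?_) (fun v => ?_)
  · obtain ⟨w, rfl⟩ := co.surjective v
    rw [hρ, hρ, hρ, map_mul, act_mul D.hS]
  · rintro π _ ⟨e, rfl⟩
    have hstab : (C.F.permHom π).1 ∈ C.stab (vec x) := hPstab π
    refine ⟨Additive.ofMul ⟨C.F.permHom π * (Additive.toMul e).1 * (C.F.permHom π)⁻¹,
      eImage_conj D hgx hx C hstab (Additive.toMul e).2⟩, ?_⟩
    show co (vec (Φ _)) = ρ π (co (vec (Φ (Additive.toMul e))))
    rw [hρ,
      show τb π = (QuotientGroup.mk (τ π) : Cz z ⧸ Q) from rfl, act_mk D.hS, actC_vec, toMul_ofMul]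
    congr 2
    refine toG_injective ?_
    rw [hΦ]
    show _ = ((conjIn (τ π) (Φ (Additive.toMul e)) : Q) : Cz z).1
    rw [conjIn_coe, map_mul, map_mul, map_inv]
    show _ = g⁻¹ * (S (C.F.permHom π) : Cz z).1 * g * toG (Φ (Additive.toMul e)) *
      (g⁻¹ * (S (C.F.permHom π) : Cz z).1 * g)⁻¹
    rw [hΦ, Subgroup.coe_mul, Subgroup.coe_mul, Subgroup.coe_inv]
    group
  · intro π v _ hv
    obtain ⟨w, rfl⟩ := co.surjective v
    rw [hρ]
    have hA : C2.F.InA C2.c (act k.1 w) := Or.inl hv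
    have h1 := C2.act_inA k.1 (C2.act_inA (τb π) (C2.act_inA k.1⁻¹ hA))
    rw [← act_mul D.hS k.1⁻¹, inv_mul_cancel,
      (show ∀ v : QV Q, act (1 : Cz z ⧸ Q) v = v from fun v => C2.mem_stab.1 (one_mem (C2.stab v)))] at h1
    rcases h1 with h | ⟨h, -⟩
    exacts [Or.inl h, Or.inr h]
  · obtain ⟨w, rfl⟩ := co.surjective v
    rw [hρ]
    show C2.F.coord (act k.1 (act (τb (pairHom b₁)) w)) = SplitGeom.rot1 (C2.F.coord (act k.1 w))
    rw [← act_mul D.hS, hb₁, act_mul D.hS, ← C2.F.cycle1_coord]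
    rfl
  · obtain ⟨w, rfl⟩ := co.surjective v
    rw [hρ]
    show C2.F.coord (act k.1 (act (τb (pairHom b₂)) w)) = SplitGeom.rot2 (C2.F.coord (act k.1 w))
    rw [← act_mul D.hS, hb₂, act_mul D.hS, ← C2.F.cycle2_coord]
    rfl

end Gen

end CfsgLib.LargeFischer
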