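import Cfsg.Agent.LargeFischer.Defs

/-!
# Coordinate facts for the central extension of the layer

A subgroup of singular vectors of order sixteen stable under the two three-cycles is a sum of two
components whose weight-two vectors are exactly the vectors of the components; a linear involution fixing
the all-ones vector and commuting with both cycles moves a vector of weight two to full support of class
zero.
-/

set_option autoImplicit false
set_option linter.unusedSectionVars false
set_option synthInstance.maxHeartbeats 200000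
set_option synthInstance.maxSize 4096

namespace CfsgLib.LargeFischer.SplitGeom

/-- Coordinate vectors. -/
abbrev Vec := Fin 6 → W

/-- Non-vanishing, as a bit. -/
def nz (w : W) : ZMod 2 := if w = 0 then 0 else 1

/-- The parity of the weight. -/
def par (v : Vec) : ZMod 2 := nz (v 0) + nz (v 1) + nz (v 2) + nz (v 3) + nz (v 4) + nz (v 5)

theorem par_eq (v : Vec) : par v = ((suppW v).card : ZMod 2) := by
  have key : ∀ a : W, ((if a ≠ 0 then 1 else 0 : ℕ) : ZMod 2) = nz a := by decide
  rw [suppW, Finset.card_filter, Nat.cast_sum, Fin.sum_univ_six, par, key, key, key, key, key, key]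

/-- The all-ones vector. -/
def ones : Vec := fun _ => (1, 0)

theorem par_ones : par ones = 0 := by decide

/-- The first cycle of coordinates. -/
def cyc1 : Equiv.Perm (Fin 6) := Equiv.swap 0 1 * Equiv.swap 1 2

/-- The second cycle of coordinates. -/
def cyc2 : Equiv.Perm (Fin 6) := Equiv.swap 3 4 * Equiv.swap 4 5

theorem cyc1_apply : cyc1 0 = 1 ∧ cyc1 1 = 2 ∧ cyc1 2 = 0 ∧ cyc1 3 = 3 ∧ cyc1 4 = 4 ∧ cyc1 5 = 5 := by
  decide

theorem cyc2_apply : cyc2 0 = 0 ∧ cyc2 1 = 1 ∧ cyc2 2 = 2 ∧ cyc2 3 = 4 ∧ cyc2 4 = 5 ∧ cyc2 5 = 3 := by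
  decide

/-- Rotation of the first triple. -/
def rot1 (v : Vec) : Vec := fun i => v (cyc1 i)

/-- Rotation of the second triple. -/
def rot2 (v : Vec) : Vec := fun i => v (cyc2 i)

theorem rot1_eq (v : Vec) : rot1 v = ![v 1, v 2, v 0, v 3, v 4, v 5] := by
  obtain ⟨a, b, c, d, e, f⟩ := cyc1_apply
  funext i
  fin_cases i <;> simp [rot1, a, b, c, d, e, f]

theorem rot2_eq (v : Vec) : rot2 v = ![v 0, v 1, v 2, v 4, v 5, v 3] := by
  obtain ⟨a, b, c, d, e, f⟩ := cyc2_apply
  funext i
  fin_cases i <;> simp [rot2, a, b, c, d, e, f]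

theorem eta6 (v : Vec) : v = ![v 0, v 1, v 2, v 3, v 4, v 5] := by
  funext i
  fin_cases i <;> rfl

theorem add_six (a b c d e f a' b' c' d' e' f' : W) :
    (![a, b, c, d, e, f] : Vec) + ![a', b', c', d', e', f'] =
      ![a + a', b + b', c + c', d + d', e + e', f + f'] := by
  funext i
  fin_cases i <;> rfl

theorem add_self_W : ∀ a : W, a + a = 0 := by decide

theorem add_self_vec (v : Vec) : v + v = 0 := funext fun i => add_self_W (v i)

theorem add_eq_zero_vec {u v : Vec} (h : u + v = 0) : u = v := by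
  calc u = u + (v + v) := by rw [add_self_vec, add_zero]
    _ = (u + v) + v := (add_assoc _ _ _).symm
    _ = v := by rw [h, zero_add]

/-- The triples of sum zero and even weight. -/
def trip (a : W) : List (W × W × W) := [(0, 0, 0), (a, a, 0), (0, a, a), (a, 0, a)]

theorem singular_triple : ∀ a b c : W, a + b + c = 0 → nz a + nz b + nz c = 0 →
    ∃ l : W, (a, b, c) ∈ trip l := by decide

theorem trip_sum_singular : ∀ l m : W, l ≠ 0 → ∀ a b c : W, (a, b, c) ∈ trip m → (a, b, c) ≠ (0, 0, 0) →
    (∀ x ∈ trip l, nz (x.1 + a) + nz (x.2.1 + b) + nz (x.2.2 + c) = 0) → m = l := by decide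

theorem trip_rot : ∀ l a b c : W, (a, b, c) ∈ trip l → (b, c, a) ∈ trip l := by decide

theorem trip_closed : ∀ l a b c : W, (a, b, c) ∈ trip l → (a, b, c) ≠ (0, 0, 0) →
    ∀ x ∈ trip l, x = (0, 0, 0) ∨ x = (a, b, c) ∨ x = (b, c, a) ∨ x = (c, a, b) := by decide

theorem trip_weight : ∀ l a b c : W, (a, b, c) ∈ trip l → (a, b, c) ≠ (0, 0, 0) →
    (Finset.univ.filter fun i : Fin 3 => (![a, b, c] : Fin 3 → W) i ≠ 0).card = 2 := by decide

theorem mix_parity : ∀ c a : W, nz (c + a) + nz (c + a) + nz c = nz c + nz c + nz c := by decide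

/-- A vector on the first triple. -/
def in1 (x : W × W × W) : Vec := ![x.1, x.2.1, x.2.2, 0, 0, 0]

/-- A vector on the second triple. -/
def in2 (x : W × W × W) : Vec := ![0, 0, 0, x.1, x.2.1, x.2.2]

theorem in1_zero : in1 (0, 0, 0) = 0 := by decide

theorem in2_zero : in2 (0, 0, 0) = 0 := by decide

/-- The bilinear form of the parity. -/
def bil (u v : Vec) : ZMod 2 := par (u + v) + par u + par v

theorem nz_bil : ∀ a b c : W, nz (a + (b + c)) + nz a + nz (b + c) =
    (nz (a + b) + nz a + nz b) + (nz (a + c) + nz a + nz c) := by decide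

theorem bil_add (u v w : Vec) : bil u (v + w) = bil u v + bil u w := by
  simp only [bil, par, Pi.add_apply]
  linear_combination nz_bil (u 0) (v 0) (w 0) + nz_bil (u 1) (v 1) (w 1) + nz_bil (u 2) (v 2) (w 2) +
    nz_bil (u 3) (v 3) (w 3) + nz_bil (u 4) (v 4) (w 4) + nz_bil (u 5) (v 5) (w 5)

theorem bil_comm (u v : Vec) : bil u v = bil v u := by
  simp only [bil, add_comm u v]
  ring

theorem nz_sep : ∀ a : W, a ≠ 0 → ∃ b : W, nz (a + b) + nz a + nz b = 1 := by decide

theorem bil_nondeg {u : Vec} (hu : u ≠ 0) : ∃ v, bil u v = 1 := by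
  obtain ⟨i, hi⟩ := Function.ne_iff.1 hu
  obtain ⟨b, hb⟩ := nz_sep (u i) hi
  refine ⟨Function.update 0 i b, ?_⟩
  fin_cases i <;> simp [bil, par, show nz 0 = 0 from rfl] at hb ⊢ <;>
    linear_combination (norm := (ring_nf; reduce_mod_char)) hb

/-- A subgroup of even vectors has order at most `2^6`. -/
theorem card_even_le (T : AddSubgroup Vec) (h : ∀ v ∈ T, par v = 0) : Nat.card T ≤ 64 := by
  have hsmul : ∀ (r : ZMod 2) (v : Vec), v ∈ T → r • v ∈ T := by
    intro r v hv
    fin_cases r
    · exact (zero_smul (ZMod 2) v).symm ▸ T.zero_mem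
    · exact (one_smul (ZMod 2) v).symm ▸ hv
  let P : Submodule (ZMod 2) Vec := { T with smul_mem' := fun r v hv => hsmul r v hv }
  have hcard : Nat.card T = Nat.card P := rfl
  let B : Vec →ₗ[ZMod 2] Module.Dual (ZMod 2) Vec :=
    AddMonoidHom.toZModLinearMap 2
      (AddMonoidHom.mk' (fun u => AddMonoidHom.toZModLinearMap 2 (AddMonoidHom.mk' (bil u) (bil_add u)))
        fun u v => LinearMap.ext fun w => by
          show bil (u + v) w = bil u w + bil v w
          rw [bil_comm, bil_add, bil_comm w, bil_comm w])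
  have hinj : Function.Injective B := by
    rw [injective_iff_map_eq_zero]
    intro u hu
    by_contra hne
    obtain ⟨v, hv⟩ := bil_nondeg hne
    exact zero_ne_one ((LinearMap.congr_fun hu v).symm.trans hv)
  have hle : P.map B ≤ P.dualAnnihilator := by
    rintro _ ⟨u, hu, rfl⟩
    rw [Submodule.mem_dualAnnihilator]
    intro v hv
    show bil u v = 0
    rw [bil, h _ (T.add_mem hu hv), h _ hu, h _ hv]
    rfl
  have h1 := Submodule.finrank_mono hle
  rw [← (Submodule.equivMapOfInjective B hinj P).finrank_eq] at h1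
  have h2 := Subspace.finrank_add_finrank_dualAnnihilator_eq P
  have h3 : Module.finrank (ZMod 2) Vec = 12 := by simp [Module.finrank_pi_fintype, Module.finrank_prod]
  rw [hcard, Module.natCard_eq_pow_finrank (K := ZMod 2), Nat.card_zmod]
  calc 2 ^ Module.finrank (ZMod 2) P ≤ 2 ^ 6 := Nat.pow_le_pow_right two_pos (by omega)
    _ = 64 := by norm_num

/-- A subgroup of order at least sixteen with the all-ones vector outside, all even, is moved by the first
cycle. -/
theorem moved1 {T : AddSubgroup Vec} (hone : ones ∉ T) (hpar : ∀ v ∈ T, par v = 0)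
    (hpar' : ∀ v ∈ T, par (v + ones) = 0) (hcard : 16 ≤ Nat.card T) : ∃ v ∈ T, rot1 v ≠ v := by
  by_contra hcon
  push Not at hcon
  let U : AddSubgroup Vec :=
    { carrier := {v | ∃ t ∈ T, ∃ e : Bool, ∃ x ∈ trip (1, 0), v = t + (if e then ones else 0) + in1 x}
      zero_mem' := ⟨0, T.zero_mem, false, (0, 0, 0), by simp [trip], by simp [in1_zero]⟩
      add_mem' := by
        rintro _ _ ⟨t, ht, e, x, hx, rfl⟩ ⟨t', ht', e', x', hx', rfl⟩
        refine ⟨t + t', T.add_mem ht ht', xor e e', x + x', ?_, ?_⟩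
        · have : ∀ x ∈ trip (1, 0), ∀ x' ∈ trip (1, 0), x + x' ∈ trip (1, 0) := by decide
          exact this x hx x' hx'
        · have hin : in1 x + in1 x' = in1 (x + x') := by simp [in1]
          have hs : (if e then ones else 0) + (if e' then ones else 0) = if xor e e' then ones else 0 := by
            cases e <;> cases e' <;> simp [add_self_vec]
          rw [← hin, ← hs]
          abel
      neg_mem' := by
        intro v hv
        rwa [show -v = v from neg_eq_of_add_eq_zero_left (add_self_vec v)] }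
  have hfix : ∀ t ∈ T, t 1 = t 0 ∧ t 2 = t 0 := by
    intro t ht
    have h := hcon t ht
    rw [rot1_eq] at h
    have h0 := congrFun h 0
    have h1 := congrFun h 1
    simp at h0 h1
    exact ⟨h0, h1.trans h0⟩
  have hU : ∀ v ∈ U, par v = 0 := by
    rintro _ ⟨t, ht, e, x, hx, rfl⟩
    have hu : par (t + if e then ones else 0) = 0 := by
      cases e
      · simpa using hpar t ht
      · simpa using hpar' t ht
    obtain ⟨f1, f2⟩ := hfix t ht
    set u := t + if e then ones else 0 with huDef
    have g1 : u 1 = u 0 ∧ u 2 = u 0 := by cases e <;> simp [huDef, ones, f1, f2]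
    have key : ∀ c : W, ∀ x ∈ trip (1, 0),
        nz (c + x.1) + nz (c + x.2.1) + nz (c + x.2.2) = nz c + nz c + nz c := by decide
    simp only [par, g1.1, g1.2] at hu
    simp [par, in1, g1.1, g1.2, key (u 0) x hx]
    exact hu
  have hinj : Function.Injective (fun p : T × Bool × {x : W × W × W // x ∈ trip (1, 0)} =>
      (⟨p.1.1 + (if p.2.1 then ones else 0) + in1 p.2.2.1, p.1.1, p.1.2, p.2.1, p.2.2.1, p.2.2.2, rfl⟩ : U)) := by
    rintro ⟨t, e, x⟩ ⟨t', e', x'⟩ h
    have h' : t.1 + (if e then ones else 0) + in1 x.1 = t'.1 + (if e' then ones else 0) + in1 x'.1 :=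
      congrArg Subtype.val h
    obtain ⟨a1, a2⟩ := hfix _ t.2
    obtain ⟨b1, b2⟩ := hfix _ t'.2
    have e0 := congrFun h' 0
    have e1 := congrFun h' 1
    have e2 := congrFun h' 2
    have key : ∀ c c' : W, ∀ x ∈ trip (1, 0), ∀ x' ∈ trip (1, 0), c + x.1 = c' + x'.1 →
        c + x.2.1 = c' + x'.2.1 → c + x.2.2 = c' + x'.2.2 → x = x' := by decide +kernel
    have hx : x.1 = x'.1 := by
      cases e <;> cases e' <;> simp [in1, ones, a1, a2, b1, b2] at e0 e1 e2
      · exact key _ _ _ x.2 _ x'.2 e0 e1 e2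
      · exact key _ _ _ x.2 _ x'.2 e0 e1 e2
      · exact key _ _ _ x.2 _ x'.2 e0 e1 e2
      · exact key _ _ _ x.2 _ x'.2 e0 e1 e2
    rw [hx] at h'
    have h'' := add_right_cancel h'
    have he : e = e' := by
      cases e <;> cases e' <;> simp at h'' ⊢
      · refine hone ?_
        rw [show ones = t'.1 + t.1 by rw [h'', ← add_assoc, add_self_vec, zero_add]]
        exact T.add_mem t'.2 t.2
      · refine hone ?_
        rw [show ones = t.1 + t'.1 by rw [← h'', ← add_assoc, add_self_vec, zero_add]]
        exact T.add_mem t.2 t'.2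
    subst he
    exact Prod.ext (Subtype.ext (add_right_cancel h'')) (Prod.ext rfl (Subtype.ext hx))
  have h128 := (Nat.card_le_card_of_injective _ hinj).trans (card_even_le U hU)
  have h4 : Nat.card {x : W × W × W // x ∈ trip (1, 0)} = 4 := by
    rw [Nat.card_eq_fintype_card, Fintype.card_subtype]; decide
  rw [Nat.card_prod, Nat.card_prod, h4, Nat.card_eq_fintype_card (α := Bool), Fintype.card_bool] at h128
  omega

/-- The exchange of the two triples. -/
def flip (v : Vec) : Vec := ![v 3, v 4, v 5, v 0, v 1, v 2]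

theorem flip_add (u v : Vec) : flip (u + v) = flip u + flip v := by simp [flip]

theorem flip_flip (v : Vec) : flip (flip v) = v := (eta6 v).symm ▸ by simp [flip]

theorem par_flip (v : Vec) : par (flip v) = par v := by simp [par, flip]; ring

theorem flip_ones : flip ones = ones := by decide

theorem moved2 {T : AddSubgroup Vec} (hone : ones ∉ T) (hpar : ∀ v ∈ T, par v = 0)
    (hpar' : ∀ v ∈ T, par (v + ones) = 0) (hcard : 16 ≤ Nat.card T) : ∃ v ∈ T, rot2 v ≠ v := by
  let T' := T.map (AddMonoidHom.mk' flip flip_add)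
  have hmem : ∀ {v}, v ∈ T' ↔ flip v ∈ T := fun {v} => by
    constructor
    · rintro ⟨u, hu, rfl⟩
      show flip (flip u) ∈ T
      rwa [flip_flip]
    · exact fun h => ⟨_, h, flip_flip v⟩
  obtain ⟨v, hv, hne⟩ := moved1 (T := T') (fun h => hone (flip_ones ▸ hmem.1 h))
    (fun v hv => par_flip v ▸ hpar _ (hmem.1 hv))
    (fun v hv => by rw [← par_flip, flip_add, flip_ones]; exact hpar' _ (hmem.1 hv))
    (by rwa [AddSubgroup.card_map_of_injective (fun a b h => (flip_flip a).symm.trans ((congrArg flip h).trans (flip_flip b)))])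
  refine ⟨flip v, hmem.1 hv, fun h => hne ?_⟩
  have h' := congrArg flip h
  rw [flip_flip] at h'
  refine Eq.trans ?_ h'
  simp [rot1_eq, rot2_eq, flip]

/-- The difference with the rotation lives on the first triple and has sum zero. -/
theorem diff1 {T : AddSubgroup Vec} (hpar : ∀ v ∈ T, par v = 0) (hrot : ∀ v ∈ T, rot1 v ∈ T) {v : Vec}
    (hv : v ∈ T) : ∃ l x, x ∈ trip l ∧ v + rot1 v = in1 x := by
  have hs : (v 0 + v 1) + (v 1 + v 2) + (v 2 + v 0) = 0 := by
    have : ∀ a b c : W, (a + b) + (b + c) + (c + a) = 0 := by decide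
    exact this _ _ _
  have he : v + rot1 v = in1 (v 0 + v 1, v 1 + v 2, v 2 + v 0) := by
    funext i; fin_cases i <;> simp [rot1_eq, in1, add_self_W]
  have hp := hpar _ (T.add_mem hv (hrot v hv))
  rw [he] at hp
  have hp' : nz (v 0 + v 1) + nz (v 1 + v 2) + nz (v 2 + v 0) = 0 := by
    simpa [par, in1, show nz 0 = 0 from rfl] using hp
  obtain ⟨l, hl⟩ := singular_triple _ _ _ hs hp'
  exact ⟨l, _, hl, he⟩

/-- The first component of such a subgroup. -/
theorem component1 {T : AddSubgroup Vec} (hone : ones ∉ T) (hpar : ∀ v ∈ T, par v = 0)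
    (hpar' : ∀ v ∈ T, par (v + ones) = 0) (hcard : 16 ≤ Nat.card T) (hrot : ∀ v ∈ T, rot1 v ∈ T) :
    ∃ l, l ≠ 0 ∧ (∀ x ∈ trip l, in1 x ∈ T) ∧ ∀ v ∈ T, ∃ x ∈ trip l, v + rot1 v = in1 x := by
  obtain ⟨v₀, hv₀, hne⟩ := moved1 hone hpar hpar' hcard
  obtain ⟨l, ⟨a, b, c⟩, hx, he⟩ := diff1 hpar hrot hv₀
  have hx0 : (a, b, c) ≠ (0, 0, 0) := fun h => hne (add_eq_zero_vec (by rw [he, h, in1_zero])).symm
  have hl : l ≠ 0 := by
    rintro rfl
    simp [trip] at hx
    exact hx0 (Prod.ext hx.1 (Prod.ext hx.2.1 hx.2.2))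
  have habc : in1 (a, b, c) ∈ T := he ▸ T.add_mem hv₀ (hrot _ hv₀)
  have hbca : in1 (b, c, a) ∈ T := by
    have := hrot _ habc
    rwa [show rot1 (in1 (a, b, c)) = in1 (b, c, a) by simp [rot1_eq, in1]] at this
  have hcab : in1 (c, a, b) ∈ T := by
    have := hrot _ hbca
    rwa [show rot1 (in1 (b, c, a)) = in1 (c, a, b) by simp [rot1_eq, in1]] at this
  have hall : ∀ x ∈ trip l, in1 x ∈ T := fun x hx' => by
    rcases trip_closed l a b c hx hx0 x hx' with rfl | rfl | rfl | rfl
    exacts [in1_zero ▸ T.zero_mem, habc, hbca, hcab]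
  refine ⟨l, hl, hall, fun v hv => ?_⟩
  obtain ⟨m, ⟨a', b', c'⟩, hm, he'⟩ := diff1 hpar hrot hv
  by_cases h0 : (a', b', c') = (0, 0, 0)
  · exact ⟨(0, 0, 0), by simp [trip], he'.trans (by rw [h0])⟩
  refine ⟨(a', b', c'), ?_, he'⟩
  rw [← trip_sum_singular l m hl a' b' c' hm h0 fun x hx' => ?_]
  · exact hm
  · have := hpar _ (T.add_mem (hall x hx') (he' ▸ T.add_mem hv (hrot v hv)))
    simpa [par, in1, show nz 0 = 0 from rfl] using this

/-- The second component of such a subgroup. -/
theorem component2 {T : AddSubgroup Vec} (hone : ones ∉ T) (hpar : ∀ v ∈ T, par v = 0)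
    (hpar' : ∀ v ∈ T, par (v + ones) = 0) (hcard : 16 ≤ Nat.card T) (hrot : ∀ v ∈ T, rot2 v ∈ T) :
    ∃ l, l ≠ 0 ∧ (∀ x ∈ trip l, in2 x ∈ T) ∧ ∀ v ∈ T, ∃ x ∈ trip l, v + rot2 v = in2 x := by
  let T' := T.map (AddMonoidHom.mk' flip flip_add)
  have hmem : ∀ {v}, v ∈ T' ↔ flip v ∈ T := fun {v} => by
    constructor
    · rintro ⟨u, hu, rfl⟩
      show flip (flip u) ∈ T
      rwa [flip_flip]
    · exact fun h => ⟨_, h, flip_flip v⟩
  have hfr : ∀ v, flip (rot1 v) = rot2 (flip v) := fun v => by simp [rot1_eq, rot2_eq, flip]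
  obtain ⟨l, hl, h1, h2⟩ := component1 (T := T') (fun h => hone (flip_ones ▸ hmem.1 h))
    (fun v hv => par_flip v ▸ hpar _ (hmem.1 hv))
    (fun v hv => by rw [← par_flip, flip_add, flip_ones]; exact hpar' _ (hmem.1 hv))
    (by rwa [AddSubgroup.card_map_of_injective (fun a b h => (flip_flip a).symm.trans ((congrArg flip h).trans (flip_flip b)))])
    (fun v hv => hmem.2 (hfr v ▸ hrot _ (hmem.1 hv)))
  have hin : ∀ x, flip (in1 x) = in2 x := fun x => by simp [flip, in1, in2]
  refine ⟨l, hl, fun x hx => hin x ▸ hmem.1 (h1 x hx), fun v hv => ?_⟩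
  obtain ⟨x, hx, he⟩ := h2 (flip v) (hmem.2 (by rwa [flip_flip]))
  refine ⟨x, hx, ?_⟩
  rw [← hin, ← he, flip_add, hfr, flip_flip]

theorem rot_fixed {a b c : W} (h1 : a = b) (h2 : b = c) : a + b + c = a := by
  subst h1 h2; rw [add_self_W, zero_add]

/-- The shape of a subgroup of order sixteen: its vectors of weight two are those of the two components. -/
theorem shape {T : AddSubgroup Vec} (hone : ones ∉ T) (hpar : ∀ v ∈ T, par v = 0)
    (hpar' : ∀ v ∈ T, par (v + ones) = 0) (hcard : Nat.card T = 16) (hr1 : ∀ v ∈ T, rot1 v ∈ T)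
    (hr2 : ∀ v ∈ T, rot2 v ∈ T) :
    ∃ l m, l ≠ 0 ∧ m ≠ 0 ∧ (∀ x ∈ trip l, in1 x ∈ T) ∧ (∀ x ∈ trip m, in2 x ∈ T) ∧
      ∀ v ∈ T, ∃ x ∈ trip l, ∃ y ∈ trip m, v = in1 x + in2 y := by
  obtain ⟨l, hl, hl1, -⟩ := component1 hone hpar hpar' hcard.ge hr1
  obtain ⟨m, hm, hm1, -⟩ := component2 hone hpar hpar' hcard.ge hr2
  refine ⟨l, m, hl, hm, hl1, hm1, fun v hv => ?_⟩
  let f : {x : W × W × W // x ∈ trip l} × {y : W × W × W // y ∈ trip m} → T :=
    fun p => ⟨in1 p.1.1 + in2 p.2.1, T.add_mem (hl1 _ p.1.2) (hm1 _ p.2.2)⟩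
  have hf : Function.Injective f := by
    rintro ⟨x, y⟩ ⟨x', y'⟩ h
    have h' := congrArg Subtype.val h
    have e := fun i => congrFun h' i
    refine Prod.ext (Subtype.ext ?_) (Subtype.ext ?_)
    · exact Prod.ext (by simpa [f, in1, in2] using e 0)
        (Prod.ext (by simpa [f, in1, in2] using e 1) (by simpa [f, in1, in2] using e 2))
    · exact Prod.ext (by simpa [f, in1, in2] using e 3)
        (Prod.ext (by simpa [f, in1, in2] using e 4) (by simpa [f, in1, in2] using e 5))
  have h4 : ∀ l : W, l ≠ 0 → (Finset.univ.filter fun x : W × W × W => x ∈ trip l).card = 4 := by decide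
  have hb := hf.bijective_of_nat_card_le (by
    rw [hcard, Nat.card_prod, Nat.card_eq_fintype_card, Nat.card_eq_fintype_card, Fintype.card_subtype,
      Fintype.card_subtype, h4 l hl, h4 m hm])
  obtain ⟨⟨x, y⟩, hxy⟩ := hb.2 ⟨v, hv⟩
  exact ⟨x.1, x.2, y.1, y.2, (congrArg Subtype.val hxy).symm⟩

/-- In such a subgroup the weight-two vectors are those on one triple. -/
theorem weight_two : ∀ l m : W, ∀ x ∈ trip l, ∀ y ∈ trip m,
    (suppW (in1 x + in2 y)).card = 2 ↔ ((x = (0, 0, 0)) ↔ ¬ y = (0, 0, 0)) := by decide +kernel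

theorem mixed_weight : ∀ l m : W, ∀ x ∈ trip l, ∀ y ∈ trip m, x ≠ (0, 0, 0) → y ≠ (0, 0, 0) →
    (suppW (in1 x + in2 y)).card = 4 := by decide +kernel

/-- Multiplication of all coordinates. -/
def scal (v : Vec) : Vec := fun i => rW (v i)

theorem zero_of_rW : ∀ c : W, rW c = c → c = 0 := by decide

theorem zero_of_rW2 : ∀ c : W, rW (rW c) = c → c = 0 := by decide

theorem rW_cube : ∀ c : W, rW (rW (rW c)) = c := by decide

/-- Common eigenvector of the cycles: the first triple. -/
def ev1 : Vec := in1 ((1, 0), (0, 1), (1, 1))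

/-- Common eigenvector of the cycles: the first triple, other character. -/
def ev1' : Vec := in1 ((1, 0), (1, 1), (0, 1))

theorem span1 : ∀ a b c : W, a + b + c = 0 → ∃ p q : W, (a, b, c) =
    (rk 0 p + q, rk 1 p + rk 2 q, rk 2 p + rk 1 q) := by decide

theorem mul_cases : ∀ p : W, p = 0 ∨ p = (1, 0) ∨ p = rW (1, 0) ∨ p = rW (rW (1, 0)) := by decide

/-- An additive map fixing a vector and commuting with the scalar fixes the multiples. -/
theorem fix_multiples {d : Vec ≃+ Vec} (hscal : ∀ v, d (scal v) = scal (d v)) {v : Vec} (h : d v = v) :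
    d (scal v) = scal v ∧ d (scal (scal v)) = scal (scal v) := by
  constructor
  · rw [hscal, h]
  · rw [hscal, hscal, h]

/-- A linear involution commuting with both cycles and fixing the all-ones vector is the identity or moves
`(1,ω,0,0,0,0)` to a vector of full support and class zero. -/
theorem transvection (d : Vec ≃+ Vec) (hscal : ∀ v, d (scal v) = scal (d v))
    (h1 : ∀ v, d (rot1 v) = rot1 (d v)) (h2 : ∀ v, d (rot2 v) = rot2 (d v))
    (hpar : ∀ v, par (d v) = par v) (hones : d ones = ones) (hsq : ∀ v, d (d v) = v) :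
    (∀ v, d v = v) ∨
      ((suppW (d (in1 ((1, 0), (0, 1), (0, 0))))).card = 6 ∧
        classW (d (in1 ((1, 0), (0, 1), (0, 0)))) = 0) := by
  -- the four eigenvectors are fixed
  have e1 : d (in1 ((1, 0), (0, 1), (1, 1))) = in1 ((1, 0), (0, 1), (1, 1)) := by
    set v := in1 ((1, 0), (0, 1), (1, 1)) with hv
    have a1 : rot1 (d v) = scal (d v) := by
      rw [← h1, ← hscal, show rot1 v = scal v by decide]
    have a2 : rot2 (d v) = d v := by rw [← h2, show rot2 v = v by decide]
    rw [rot1_eq] at a1
    rw [rot2_eq] at a2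
    have b0 := congrFun a1 0; have b1 := congrFun a1 1; have b3 := congrFun a1 3
    have c3 := congrFun a2 3; have c4 := congrFun a2 4
    simp [scal] at b0 b1 b3 c3 c4
    have z3 := zero_of_rW _ b3.symm
    have hshape : d v = in1 (d v 0, rW (d v 0), rW (rW (d v 0))) := by
      funext i; fin_cases i <;> simp [in1, b0, b1, z3, c3, c4]
    rcases mul_cases (d v 0) with h | h | h | h
    · rw [h] at hshape
      have : d v = 0 := hshape.trans (by decide)
      exact absurd (d.injective (this.trans (map_zero d).symm)) (by rw [hv]; decide)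
    · rw [h] at hshape; exact hshape.trans (by decide)
    · exfalso
      rw [h] at hshape
      have e : d v = scal v := hshape.trans (by rw [hv]; decide)
      have := hsq v
      rw [e, hscal, e] at this
      exact absurd this (by rw [hv]; decide)
    · exfalso
      rw [h] at hshape
      have e : d v = scal (scal v) := hshape.trans (by rw [hv]; decide)
      have := hsq v
      rw [e, hscal, hscal, e] at this
      exact absurd this (by rw [hv]; decide)
  have e1' : d (in1 ((1, 0), (1, 1), (0, 1))) = in1 ((1, 0), (1, 1), (0, 1)) := by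
    set v := in1 ((1, 0), (1, 1), (0, 1)) with hv
    have a1 : rot1 (d v) = scal (scal (d v)) := by
      rw [← h1, ← hscal, ← hscal, show rot1 v = scal (scal v) by decide]
    have a2 : rot2 (d v) = d v := by rw [← h2, show rot2 v = v by decide]
    rw [rot1_eq] at a1
    rw [rot2_eq] at a2
    have b0 := congrFun a1 0; have b1 := congrFun a1 1; have b3 := congrFun a1 3
    have c3 := congrFun a2 3; have c4 := congrFun a2 4
    simp [scal] at b0 b1 b3 c3 c4
    have z3 := zero_of_rW2 _ b3.symm
    have hshape : d v = in1 (d v 0, rW (rW (d v 0)), rW (d v 0)) := by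
      funext i; fin_cases i <;> simp [in1, b0, b1, z3, c3, c4, rW_cube]
    rcases mul_cases (d v 0) with h | h | h | h
    · rw [h] at hshape
      have : d v = 0 := hshape.trans (by decide)
      exact absurd (d.injective (this.trans (map_zero d).symm)) (by rw [hv]; decide)
    · rw [h] at hshape; exact hshape.trans (by decide)
    · exfalso
      rw [h] at hshape
      have e : d v = scal v := hshape.trans (by rw [hv]; decide)
      have := hsq v
      rw [e, hscal, e] at this
      exact absurd this (by rw [hv]; decide)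
    · exfalso
      rw [h] at hshape
      have e : d v = scal (scal v) := hshape.trans (by rw [hv]; decide)
      have := hsq v
      rw [e, hscal, hscal, e] at this
      exact absurd this (by rw [hv]; decide)
  have f1 : d (in2 ((1, 0), (0, 1), (1, 1))) = in2 ((1, 0), (0, 1), (1, 1)) := by
    set v := in2 ((1, 0), (0, 1), (1, 1)) with hv
    have a2 : rot2 (d v) = scal (d v) := by
      rw [← h2, ← hscal, show rot2 v = scal v by decide]
    have a1 : rot1 (d v) = d v := by rw [← h1, show rot1 v = v by decide]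
    rw [rot1_eq] at a1
    rw [rot2_eq] at a2
    have b0 := congrFun a2 3; have b1 := congrFun a2 4; have b3 := congrFun a2 0
    have c3 := congrFun a1 0; have c4 := congrFun a1 1
    simp [scal] at b0 b1 b3 c3 c4
    have z3 := zero_of_rW _ b3.symm
    have hshape : d v = in2 (d v 3, rW (d v 3), rW (rW (d v 3))) := by
      funext i; fin_cases i <;> simp [in2, b0, b1, z3, c3, c4]
    rcases mul_cases (d v 3) with h | h | h | h
    · rw [h] at hshape
      have : d v = 0 := hshape.trans (by decide)
      exact absurd (d.injective (this.trans (map_zero d).symm)) (by rw [hv]; decide)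
    · rw [h] at hshape; exact hshape.trans (by decide)
    · exfalso
      rw [h] at hshape
      have e : d v = scal v := hshape.trans (by rw [hv]; decide)
      have := hsq v
      rw [e, hscal, e] at this
      exact absurd this (by rw [hv]; decide)
    · exfalso
      rw [h] at hshape
      have e : d v = scal (scal v) := hshape.trans (by rw [hv]; decide)
      have := hsq v
      rw [e, hscal, hscal, e] at this
      exact absurd this (by rw [hv]; decide)
  have f1' : d (in2 ((1, 0), (1, 1), (0, 1))) = in2 ((1, 0), (1, 1), (0, 1)) := by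
    set v := in2 ((1, 0), (1, 1), (0, 1)) with hv
    have a2 : rot2 (d v) = scal (scal (d v)) := by
      rw [← h2, ← hscal, ← hscal, show rot2 v = scal (scal v) by decide]
    have a1 : rot1 (d v) = d v := by rw [← h1, show rot1 v = v by decide]
    rw [rot1_eq] at a1
    rw [rot2_eq] at a2
    have b0 := congrFun a2 3; have b1 := congrFun a2 4; have b3 := congrFun a2 0
    have c3 := congrFun a1 0; have c4 := congrFun a1 1
    simp [scal] at b0 b1 b3 c3 c4
    have z3 := zero_of_rW2 _ b3.symm
    have hshape : d v = in2 (d v 3, rW (rW (d v 3)), rW (d v 3)) := by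
      funext i; fin_cases i <;> simp [in2, b0, b1, z3, c3, c4, rW_cube]
    rcases mul_cases (d v 3) with h | h | h | h
    · rw [h] at hshape
      have : d v = 0 := hshape.trans (by decide)
      exact absurd (d.injective (this.trans (map_zero d).symm)) (by rw [hv]; decide)
    · rw [h] at hshape; exact hshape.trans (by decide)
    · exfalso
      rw [h] at hshape
      have e : d v = scal v := hshape.trans (by rw [hv]; decide)
      have := hsq v
      rw [e, hscal, e] at this
      exact absurd this (by rw [hv]; decide)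
    · exfalso
      rw [h] at hshape
      have e : d v = scal (scal v) := hshape.trans (by rw [hv]; decide)
      have := hsq v
      rw [e, hscal, hscal, e] at this
      exact absurd this (by rw [hv]; decide)
  -- the fixed space of the cycles
  set u := in1 ((1, 0), (1, 0), (1, 0)) with hu
  set u' := in2 ((1, 0), (1, 0), (1, 0)) with hu'
  have huu : ones = u + u' := by decide
  have a1 : rot1 (d u) = d u := by rw [← h1, show rot1 u = u by decide]
  have a2 : rot2 (d u) = d u := by rw [← h2, show rot2 u = u by decide]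
  rw [rot1_eq] at a1
  rw [rot2_eq] at a2
  have b0 := congrFun a1 0; have b1 := congrFun a1 1
  have c3 := congrFun a2 3; have c4 := congrFun a2 4
  simp at b0 b1 c3 c4
  have hshape : d u = in1 (d u 0, d u 0, d u 0) + in2 (d u 3, d u 3, d u 3) := by
    funext i; fin_cases i <;> simp [in1, in2, b0, b1, c3, c4]
  have hu'eq : d u' = ones + d u := by
    conv_rhs => rw [← hones, huu, map_add]
    rw [add_comm (d u), add_assoc, add_self_vec, add_zero]
  have hswap : (d u = u ∧ d u' = u') ∨ (d u = u' ∧ d u' = u) := by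
    have key : ∀ a b : W, par (in1 (a, a, a) + in2 (b, b, b)) = par u →
        par (ones + (in1 (a, a, a) + in2 (b, b, b))) = par u' →
        in1 (a, a, a) + in2 (b, b, b) = u ∨ in1 (a, a, a) + in2 (b, b, b) = u' := by
      rw [hu, hu']; decide +kernel
    rcases key _ _ (hshape ▸ hpar u) (by rw [← hshape, ← hu'eq, hpar]) with h | h
    · left
      rw [← hshape] at h
      exact ⟨h, by rw [hu'eq, h, huu, add_comm u, add_assoc, add_self_vec, add_zero]⟩
    · right
      rw [← hshape] at h
      exact ⟨h, by rw [hu'eq, h, huu, add_assoc, add_self_vec, add_zero]⟩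
  rcases hswap with ⟨g, g'⟩ | ⟨g, g'⟩
  · left
    intro v
    have hdec : ∀ a b c : W, ∃ p q r : W, (a, b, c) = (p + q + r, rW p + rW (rW q) + r, rW (rW p) + rW q + r) := by
      decide
    have hm : ∀ (w : Vec), d w = w → ∀ p : W, d (fun i => rk (expW p) (w i)) = fun i => rk (expW p) (w i) := by
      intro w hw p
      have k : ∀ c : W, rk (expW 0) c = c ∧ rk (expW (1, 0)) c = c := by decide
      rcases mul_cases p with rfl | rfl | rfl | rfl
      · simpa only [(k _).1] using hw
      · simpa only [(k _).2] using hw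
      · exact (fix_multiples hscal hw).1
      · exact (fix_multiples hscal hw).2
    obtain ⟨p, q, r, hpqr⟩ := hdec (v 0) (v 1) (v 2)
    obtain ⟨p', q', r', hpqr'⟩ := hdec (v 3) (v 4) (v 5)
    have hone : ∀ (p : W) (w : Vec), d w = w →
        d (if p = 0 then 0 else fun i => rk (expW p) (w i)) = if p = 0 then 0 else fun i => rk (expW p) (w i) := by
      intro p w hw
      split_ifs
      · exact map_zero d
      · exact hm w hw p
    have hv : v = (if p = 0 then 0 else fun i => rk (expW p) (in1 ((1, 0), (0, 1), (1, 1)) i)) +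
        (if q = 0 then 0 else fun i => rk (expW q) (in1 ((1, 0), (1, 1), (0, 1)) i)) +
        (if r = 0 then 0 else fun i => rk (expW r) (u i)) +
        (if p' = 0 then 0 else fun i => rk (expW p') (in2 ((1, 0), (0, 1), (1, 1)) i)) +
        (if q' = 0 then 0 else fun i => rk (expW q') (in2 ((1, 0), (1, 1), (0, 1)) i)) +
        (if r' = 0 then 0 else fun i => rk (expW r') (u' i)) := by
      have k0 : ∀ p : W, (if p = 0 then (0 : W) else rk (expW p) 0) = 0 := by decide
      have k1 : ∀ p : W, (if p = 0 then (0 : W) else rk (expW p) (1, 0)) = p := by decide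
      have k2 : ∀ p : W, (if p = 0 then (0 : W) else rk (expW p) (0, 1)) = rW p := by decide
      have k3 : ∀ p : W, (if p = 0 then (0 : W) else rk (expW p) (1, 1)) = rW (rW p) := by decide
      simp only [Prod.mk.injEq] at hpqr hpqr'
      funext i
      have sel : ∀ (p : W) (f : Vec), (if p = 0 then (0 : Vec) else fun i => rk (expW p) (f i)) i =
          if p = 0 then (0 : W) else rk (expW p) (f i) := fun p f => by split_ifs <;> rfl
      simp only [Pi.add_apply, sel]
      fin_cases i <;> simp [hu, hu', in1, in2, k0, k1, k2, k3, hpqr.1, hpqr.2.1, hpqr.2.2, hpqr'.1, hpqr'.2.1,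
        hpqr'.2.2]
    rw [hv, map_add, map_add, map_add, map_add, map_add, hone _ _ e1, hone _ _ e1', hone _ _ g, hone _ _ f1,
      hone _ _ f1', hone _ _ g']
  · right
    have hv : in1 ((1, 0), (0, 1), (0, 0)) = scal (scal u) + (in1 ((0, 1), (1, 0), (1, 1))) := by
      rw [hu]; decide
    have hw : in1 ((0, 1), (1, 0), (1, 1)) = scal (in1 ((1, 0), (1, 1), (0, 1))) := by decide
    have : d (in1 ((1, 0), (0, 1), (0, 0))) = scal (scal u') + in1 ((0, 1), (1, 0), (1, 1)) := by
      rw [hv, map_add, hscal, hscal, g, hw, hscal, e1']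
    rw [this, hu']
    decide

end CfsgLib.LargeFischer.SplitGeom
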