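import Cfsg.Agent.LargeFischer.Orbits
import Cfsg.Agent.LargeFischer.SplitGeom
import Mathlib.GroupTheory.SpecificGroups.Alternating.Centralizer

/-!
# Frames at a vector of the large class

Coordinates can be chosen so that a given singular vector with orbit of size 1701 has all coordinates one,
with the two classes of the orbit decomposition; then the coordinate permutations fix it.
-/

set_option autoImplicit false
set_option linter.unusedSectionVars false

namespace CfsgLib.LargeFischer

variable {L V : Type*} [Group L] [AddCommGroup V]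

/-- The orbit of a vector. -/
def Setting.orbit (S : Setting L V) (v : V) : Set V := {w | ∃ l, S.φ l v = w}

/-- The vector lies in an orbit of size 378. -/
def Setting.Small (S : Setting L V) (v : V) : Prop := Nat.card (S.orbit v) = 378

/-- The vector lies in an orbit of size 1701. -/
def Setting.Large (S : Setting L V) (v : V) : Prop := Nat.card (S.orbit v) = 1701

theorem Setting.orbit_eq {S : Setting L V} {v w : V} (h : w ∈ S.orbit v) : S.orbit w = S.orbit v := by
  obtain ⟨l, rfl⟩ := h
  ext u
  constructor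
  · rintro ⟨m, rfl⟩; exact ⟨m * l, S.φ_mul _ _ _⟩
  · rintro ⟨m, rfl⟩
    exact ⟨m * l⁻¹, by rw [S.φ_mul, ← S.φ_mul l⁻¹, inv_mul_cancel, S.φ_one]⟩

theorem Setting.Large.not_small {S : Setting L V} {v : V} (h : S.Large v) : ¬ S.Small v := fun h' => by
  rw [Setting.Small, h] at h'
  norm_num at h'

namespace Frame

variable {S : Setting L V} (F : Frame S)

/-- The classes, read off the orbit sizes. -/
theorem small_iff {c : ZMod 3}
    (hA : ∀ u w : V, F.InA c u → ((∃ l, S.φ l u = w) ↔ F.InA c w))
    (hB : ∀ u w : V, F.InB c u → ((∃ l, S.φ l u = w) ↔ F.InB c w)) {v : V} :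
    (F.InA c v → S.Small v) ∧ (F.InB c v → S.Large v) :=
  ⟨fun h => (Nat.card_congr (Equiv.subtypeEquivRight fun w => hA v w h)).trans (F.card_inA c),
    fun h => (Nat.card_congr (Equiv.subtypeEquivRight fun w => hB v w h)).trans (F.card_inB c)⟩

/-- The coordinates moved by an element. -/
noncomputable def moved (l : L) : Frame S where
  coord := (S.φ l).trans F.coord
  coord_x v i := by
    show F.coord (S.φ l (S.φ S.x v)) i = rW (F.coord (S.φ l v) i)
    rw [← S.φ_mul, ← Subgroup.mem_center_iff.1 S.x_center l |>.symm, S.φ_mul, F.coord_x]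
  diag k hk := by
    obtain ⟨m, hm⟩ := F.diag k hk
    refine ⟨l⁻¹ * m * l, fun v i => ?_⟩
    show F.coord (S.φ l (S.φ (l⁻¹ * m * l) v)) i = rk (k i) (F.coord (S.φ l v) i)
    rw [← S.φ_mul, ← mul_assoc, ← mul_assoc, mul_inv_cancel, one_mul, S.φ_mul, hm]
  perm π hπ := by
    obtain ⟨m, hm⟩ := F.perm π hπ
    refine ⟨l⁻¹ * m * l, fun v i => ?_⟩
    show F.coord (S.φ l (S.φ (l⁻¹ * m * l) v)) (π i) = F.coord (S.φ l v) i
    rw [← S.φ_mul, ← mul_assoc, ← mul_assoc, mul_inv_cancel, one_mul, S.φ_mul, hm]
  q_coord v := by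
    show S.q v = _
    rw [← S.q_inv l v]
    exact F.q_coord _

theorem moved_coord (l : L) (v : V) : (F.moved l).coord v = F.coord (S.φ l v) := rfl

/-- Scaling of the last coordinate. -/
def lastScale : (Fin 6 → W) ≃+ (Fin 6 → W) where
  toFun w i := rk (if i = 5 then 1 else 0) (w i)
  invFun w i := rk (if i = 5 then 2 else 0) (w i)
  left_inv w := funext fun i => by
    have : ∀ (b : Bool) (a : W), rk (if b then 2 else 0) (rk (if b then 1 else 0) a) = a := by decide
    simpa using this (decide (i = 5)) (w i)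
  right_inv w := funext fun i => by
    have : ∀ (b : Bool) (a : W), rk (if b then 1 else 0) (rk (if b then 2 else 0) a) = a := by decide
    simpa using this (decide (i = 5)) (w i)
  map_add' u w := funext fun i => by
    have : ∀ (k : ZMod 3) (a b : W), rk k (a + b) = rk k a + rk k b := by decide
    exact this _ _ _

/-- Coordinates with the last one scaled. -/
noncomputable def twist : Frame S where
  coord := F.coord.trans lastScale
  coord_x v i := by
    show rk _ (F.coord (S.φ S.x v) i) = rW (rk _ (F.coord v i))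
    rw [F.coord_x]
    exact (by decide : ∀ (k : ZMod 3) (a : W), rk k (rW a) = rW (rk k a)) _ _
  diag k hk := by
    obtain ⟨m, hm⟩ := F.diag k hk
    refine ⟨m, fun v i => ?_⟩
    show rk _ (F.coord (S.φ m v) i) = rk (k i) (rk _ (F.coord v i))
    rw [hm, ← rk_add, ← rk_add, add_comm]
  perm π hπ := by
    obtain ⟨m, hm⟩ := F.perm π hπ
    let e : Fin 6 → ZMod 3 := fun i => if i = 5 then 1 else 0
    obtain ⟨d, hd⟩ := F.diag (fun j => e (π.symm j) - e j) (by
      rw [Finset.sum_sub_distrib, Equiv.sum_comp π.symm e, sub_self])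
    refine ⟨d * m, fun v i => ?_⟩
    show rk (e (π i)) (F.coord (S.φ (d * m) v) (π i)) = rk (e i) (F.coord v i)
    rw [S.φ_mul, hd, hm, ← rk_add, Equiv.symm_apply_apply, add_sub_cancel]
  q_coord v := by
    rw [F.q_coord]
    show _ = ((suppW fun i => rk (if i = 5 then 1 else 0) (F.coord v i)).card : ZMod 2)
    simp only [suppW, ne_eq, suppW_rk]

theorem twist_coord (v : V) (i : Fin 6) : F.twist.coord v i = rk (if i = 5 then 1 else 0) (F.coord v i) := rfl

theorem classW_ones : (suppW SplitGeom.ones).card = 6 ∧ classW SplitGeom.ones = 0 := by decide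

theorem classW_twist : classW (fun i => rk (if i = (5 : Fin 6) then 1 else 0) (SplitGeom.ones i)) = 1 := by decide

/-- Coordinates in which a given large vector is all ones. -/
theorem exists_at (hL : Nat.card L = 9797760) (F : Frame S) {v : V} (hq : S.q v = 0) (hv : v ≠ 0)
    (hlarge : S.Large v) : ∃ (F' : Frame S) (c : ZMod 3), F'.coord v = SplitGeom.ones ∧ c ≠ 0 ∧
      (∀ u w : V, F'.InA c u → ((∃ l, S.φ l u = w) ↔ F'.InA c w)) ∧
      (∀ u w : V, F'.InB c u → ((∃ l, S.φ l u = w) ↔ F'.InB c w)) := by
  have key : ∀ (F₁ : Frame S) (c₁ : ZMod 3), c₁ ≠ 0 →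
      (∀ u w : V, F₁.InB c₁ u → ((∃ l, S.φ l u = w) ↔ F₁.InB c₁ w)) →
      (∀ u w : V, F₁.InA c₁ u → ((∃ l, S.φ l u = w) ↔ F₁.InA c₁ w)) →
      ∃ F' : Frame S, F'.coord v = SplitGeom.ones := by
    intro F₁ c₁ hc₁ hB hA
    have hvB : F₁.InB c₁ v := (F₁.inA_or_inB c₁ hq hv).resolve_left fun h =>
      hlarge.not_small ((F₁.small_iff hA hB).1 h)
    obtain ⟨l, hl⟩ := (hB v (F₁.coord.symm SplitGeom.ones) hvB).2 (Or.inr (by
      rw [AddEquiv.apply_symm_apply]
      exact ⟨classW_ones.1, classW_ones.2 ▸ hc₁.symm⟩))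
    exact ⟨F₁.moved l, by rw [moved_coord, hl, AddEquiv.apply_symm_apply]⟩
  obtain ⟨c, hA, hB⟩ := F.exists_class hL
  obtain ⟨F', hF'⟩ : ∃ F' : Frame S, F'.coord v = SplitGeom.ones := by
    by_cases hc : c = 0
    · subst hc
      obtain ⟨c₁, hA₁, hB₁⟩ := F.twist.exists_class hL
      refine key F.twist c₁ (fun h0 => ?_) hB₁ hA₁
      -- the all-ones vector of `F` is small, and in the twisted coordinates has class one
      have h1 : S.Small (F.coord.symm SplitGeom.ones) := (F.small_iff hA hB).1 (Or.inr (by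
        rw [AddEquiv.apply_symm_apply]; exact classW_ones))
      refine ((F.twist.small_iff hA₁ hB₁).2 (Or.inr ?_)).not_small h1
      have e : F.twist.coord (F.coord.symm SplitGeom.ones) =
          fun i => rk (if i = 5 then 1 else 0) (SplitGeom.ones i) := funext fun i => by
        rw [twist_coord, AddEquiv.apply_symm_apply]
      rw [e, classW_twist, h0]
      exact ⟨by decide, by decide⟩
    · exact key F c hc hB hA
  obtain ⟨c', hA', hB'⟩ := F'.exists_class hL
  refine ⟨F', c', hF', fun h0 => ?_, hA', hB'⟩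
  exact hlarge.not_small ((F'.small_iff hA' hB').1 (Or.inr (by rw [hF', h0]; exact classW_ones)))

/-- The coordinate permutations as a homomorphism. -/
noncomputable def permHom : alternatingGroup (Fin 6) →* L :=
  MonoidHom.mk' (fun π => (F.perm π.1 π.2).choose) fun π ρ => by
    refine eq_of_inv_mul_eq_one (S.faithful _ fun v => ?_)
    refine F.coord.injective (funext fun j => ?_)
    have h : S.φ ((F.perm (π * ρ).1 (π * ρ).2).choose) v =
        S.φ ((F.perm π.1 π.2).choose * (F.perm ρ.1 ρ.2).choose) v := by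
      refine F.coord.injective (funext fun j => ?_)
      obtain ⟨i, rfl⟩ := (π.1 * ρ.1).surjective j
      show F.coord _ ((π * ρ).1 i) = F.coord _ ((π * ρ).1 i)
      rw [(F.perm (π * ρ).1 (π * ρ).2).choose_spec, S.φ_mul, Subgroup.coe_mul, Equiv.Perm.mul_apply,
        (F.perm π.1 π.2).choose_spec, (F.perm ρ.1 ρ.2).choose_spec]
    rw [S.φ_mul, ← h, ← S.φ_mul, inv_mul_cancel, S.φ_one]

theorem permHom_coord (π : alternatingGroup (Fin 6)) (v : V) (i : Fin 6) :
    F.coord (S.φ (F.permHom π) v) (π.1 i) = F.coord v i := (F.perm π.1 π.2).choose_spec v i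

theorem permHom_fix {v : V} (hv : F.coord v = SplitGeom.ones) (π : alternatingGroup (Fin 6)) :
    S.φ (F.permHom π) v = v := by
  refine F.coord.injective (funext fun j => ?_)
  obtain ⟨i, rfl⟩ := π.1.surjective j
  rw [permHom_coord, hv]
  rfl

theorem permHom_injective : Function.Injective F.permHom := by
  rw [injective_iff_map_eq_one]
  intro π hπ
  refine Subtype.ext (Equiv.ext fun i => ?_)
  by_contra hne
  have h := F.permHom_coord π (F.coord.symm (Function.update 0 i (1, 0))) i
  rw [hπ, S.φ_one, AddEquiv.apply_symm_apply, Function.update_self, Function.update_of_ne (show π.1 i ≠ i by simpa using hne), Pi.zero_apply] at h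
  exact absurd h (by decide)

/-- The element rotating the first triple. -/
noncomputable def cycle1 : alternatingGroup (Fin 6) := ⟨SplitGeom.cyc1.symm, Equiv.Perm.mem_alternatingGroup.2 (by decide)⟩

/-- The element rotating the second triple. -/
noncomputable def cycle2 : alternatingGroup (Fin 6) := ⟨SplitGeom.cyc2.symm, Equiv.Perm.mem_alternatingGroup.2 (by decide)⟩

theorem cycle1_coord (v : V) : F.coord (S.φ (F.permHom cycle1) v) = SplitGeom.rot1 (F.coord v) :=
  funext fun i => by
    have h := F.permHom_coord cycle1 v (SplitGeom.cyc1 i)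
    simpa [cycle1, SplitGeom.rot1] using h

theorem cycle2_coord (v : V) : F.coord (S.φ (F.permHom cycle2) v) = SplitGeom.rot2 (F.coord v) :=
  funext fun i => by
    have h := F.permHom_coord cycle2 v (SplitGeom.cyc2 i)
    simpa [cycle2, SplitGeom.rot2] using h

theorem cycles_commute : Commute cycle1 cycle2 ∧ cycle1 ^ 3 = 1 ∧ cycle2 ^ 3 = 1 :=
  ⟨Subtype.ext (Equiv.ext (by decide)), Subtype.ext (Equiv.ext (by decide)), Subtype.ext (Equiv.ext (by decide))⟩

end Frame

theorem alternating_perfect : commutator (alternatingGroup (Fin 6)) = ⊤ :=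
  commutator_alternatingGroup_eq_top (by simp)

end CfsgLib.LargeFischer
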