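import Cfsg.Agent.LargeFischer.Pair
import Cfsg.Agent.LargeFischer.SplitFrame

/-!
# The outer half of the centralizer inverts the scalar

Otherwise an element outside `L` of the elementary image of a conjugate of `Q`, fixed by a group of order
nine of the stabiliser, would be a transvection exchanging the two orbit classes.
-/

set_option autoImplicit false
set_option linter.unusedSectionVars false
set_option linter.style.haveILetI false
set_option maxHeartbeats 1000000

namespace CfsgLib.LargeFischer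

open Cfsg

/-- Two commuting permutations of order dividing three have a common fixed point on a set of order prime to
three. -/
theorem exists_common_fixed {α : Type*} [Finite α] (f g : Equiv.Perm α) (hf : f ^ 3 = 1) (hg : g ^ 3 = 1)
    (hc : f * g = g * f) (h : ¬ 3 ∣ Nat.card α) : ∃ a, f a = a ∧ g a = a := by
  classical
  haveI := Fintype.ofFinite α
  haveI : Fact (Nat.Prime 3) := ⟨by norm_num⟩
  have key : ∀ {β : Type _} [Fintype β] [DecidableEq β] (u : Equiv.Perm β), u ^ 3 = 1 →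
      Fintype.card {b // u b = b} % 3 = Fintype.card β % 3 := by
    intro β _ _ u hu
    have h1 := Equiv.Perm.card_compl_support_modEq (σ := u) (p := 3) (n := 1) (by rwa [pow_one])
    rw [Fintype.card_subtype]
    refine Eq.trans ?_ h1
    congr 1
    exact congrArg Finset.card (by ext b; simp [Equiv.Perm.mem_support])
  have hst : ∀ a, f (g a) = g a ↔ f a = a := fun a => by
    rw [show f (g a) = g (f a) from DFunLike.congr_fun hc a, g.injective.eq_iff]
  let g' : Equiv.Perm {a // f a = a} := g.subtypePerm fun a => hst a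
  have hg' : g' ^ 3 = 1 := Equiv.ext fun a => Subtype.ext (by
    simp only [g', Equiv.Perm.subtypePerm_pow, Equiv.Perm.subtypePerm_apply, hg]
    rfl)
  have h1 := key f hf
  have h2 := key g' hg'
  by_contra hcon
  push Not at hcon
  have h0 : Fintype.card {b // g' b = b} = 0 := by
    rw [Fintype.card_eq_zero_iff]
    exact ⟨fun b => hcon b.1.1 b.1.2 (congrArg Subtype.val b.2)⟩
  rw [Nat.card_eq_fintype_card] at h
  omega

variable {G : Type*} [Group G] [Finite G] {z : G} {Q : Subgroup (Cz z)} [Q.Normal]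

theorem Data.exists_conj (D : Data z Q) :
    ∃ (g : G) (x₀ : Q), g * z * g⁻¹ = toG x₀ ∧ x₀ ∉ Subgroup.center Q := by
  obtain ⟨g, ⟨hc, hQ⟩, hne⟩ := D.hS.2.2.2.2
  refine ⟨g, ⟨⟨g * z * g⁻¹, hc⟩, hQ⟩, rfl, fun h => ?_⟩
  rcases (mem_center_cases D.hS).1 h with e | e
  · have h1 : g * z * g⁻¹ = 1 := congrArg toG e
    rw [conj_eq_one_iff] at h1
    have := D.hS.1
    rw [h1, orderOf_one] at this
    norm_num at this
  · exact hne (congrArg toG e)

/-- Coordinates in which the class of a conjugate of `z` is all ones. -/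
theorem Data.exists_coords_at (D : Data z Q) {g : G} {x : Q} (hgx : g * z * g⁻¹ = toG x)
    (hx : x ∉ Subgroup.center Q) :
    ∃ C : Coords D, C.F.coord (vec x) = SplitGeom.ones ∧ C.c ≠ 0 := by
  obtain ⟨C₀⟩ := D.exists_coords
  obtain ⟨hB, -⟩ := image_main D hgx hx C₀
  obtain ⟨F, c, hcoord, hc, hA, hB'⟩ := C₀.F.exists_at D.L_card (C₀.q_zero_of (Or.inr hB))
    (C₀.ne_zero_of (Or.inr hB)) (C₀.card_orbit_B hB)
  exact ⟨⟨F, c, hA, hB'⟩, hcoord, hc⟩

/-- The image of the conjugate is not inside `L`. -/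
theorem not_eImage_le (D : Data z Q) {g : G} {x : Q} (hgx : g * z * g⁻¹ = toG x)
    (hx : x ∉ Subgroup.center Q) : ¬ eImage Q g ≤ D.L := by
  intro hle
  obtain ⟨C⟩ := D.exists_coords
  obtain ⟨hB, -⟩ := image_main D hgx hx C
  obtain ⟨hn, ⟨e⟩⟩ := stab_quot D hgx hx C _ rfl
  haveI := D.L_normal
  have hX : C.stab (vec x) ≤ D.L := by
    intro h hh
    let χ : ↥(C.stab (vec x)) ⧸ (eImage Q g).subgroupOf (C.stab (vec x)) →* (Cz z ⧸ Q) ⧸ D.L :=
      QuotientGroup.lift _ ((QuotientGroup.mk' D.L).comp (C.stab (vec x)).subtype) fun a ha =>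
        MonoidHom.mem_ker.2 ((QuotientGroup.eq_one_iff _).2 (hle (Subgroup.mem_subgroupOf.1 ha)))
    have h2 : Nat.card ((Cz z ⧸ Q) ⧸ D.L) = 2 := by rw [← Subgroup.index_eq_card, D.L_index]
    have hcomm : ∀ u v : (Cz z ⧸ Q) ⧸ D.L, u * v = v * u := fun u v => by
      haveI := (isCyclic_of_prime_card (p := 2) h2)
      exact (IsCyclic.isMulCommutative).is_comm.comm u v
    have htop : ((χ.comp e.symm.toMonoidHom)).ker = ⊤ := by
      rw [eq_top_iff, ← alternating_perfect, commutator_def, Subgroup.commutator_le]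
      intro a _ b _
      rw [MonoidHom.mem_ker, map_commutatorElement, commutatorElement_eq_one_iff_mul_comm]
      exact hcomm _ _
    have h1 : (χ.comp e.symm.toMonoidHom) (e (QuotientGroup.mk ⟨h, hh⟩)) = 1 :=
      MonoidHom.mem_ker.1 (htop ▸ Subgroup.mem_top _)
    rw [MonoidHom.comp_apply, MulEquiv.coe_toMonoidHom, MulEquiv.symm_apply_apply] at h1
    exact (QuotientGroup.eq_one_iff _).1 h1
  have h1 := C.card_stab (Or.inr hB)
  rw [inf_eq_left.2 hX] at h1
  have h2 : 0 < Nat.card (C.stab (vec x)) := Nat.card_pos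
  omega

/-- The outer half inverts the scalar. -/
theorem Data.outer_inverts (D : Data z Q) {h : Cz z ⧸ Q} (hh : h ∉ D.L) :
    h * D.x * h⁻¹ = (D.x : Cz z ⧸ Q)⁻¹ := by
  classical
  refine (D.x_normal h).resolve_left fun hfix => ?_
  have hxL : ∀ l : Cz z ⧸ Q, l ∈ D.L → Commute (D.x : Cz z ⧸ Q) l := fun l hl =>
    (congrArg Subtype.val (Subgroup.mem_center_iff.1 D.x_center ⟨l, hl⟩)).symm
  have hxc : ∀ k : Cz z ⧸ Q, Commute (D.x : Cz z ⧸ Q) k := by
    intro k
    by_cases hk : k ∈ D.L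
    · exact hxL k hk
    have h1 : Commute (D.x : Cz z ⧸ Q) h := (mul_inv_eq_iff_eq_mul.1 hfix).symm
    have h2 : h⁻¹ * k ∈ D.L := (Subgroup.mul_mem_iff_of_index_two D.L_index).2
      ⟨fun h' => absurd ((inv_mem_iff).1 h') hh, fun h' => absurd h' hk⟩
    simpa using h1.mul_right (hxL _ h2)
  obtain ⟨g, x, hgx, hx⟩ := D.exists_conj
  obtain ⟨C, hones, hc⟩ := D.exists_coords_at hgx hx
  obtain ⟨-, hE32, -, -⟩ := image_main D hgx hx C
  set E := eImage Q g with hE
  obtain ⟨hcyc, h31, h32⟩ := Frame.cycles_commute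
  set a : Cz z ⧸ Q := (C.F.permHom Frame.cycle1).1 with ha
  set b : Cz z ⧸ Q := (C.F.permHom Frame.cycle2).1 with hb
  have hastab : a ∈ C.stab (vec x) := C.F.permHom_fix hones Frame.cycle1
  have hbstab : b ∈ C.stab (vec x) := C.F.permHom_fix hones Frame.cycle2
  have ha3 : a ^ 3 = 1 := by rw [ha, ← SubgroupClass.coe_pow, ← map_pow, h31, map_one]; rfl
  have hb3 : b ^ 3 = 1 := by rw [hb, ← SubgroupClass.coe_pow, ← map_pow, h32, map_one]; rfl
  have hab : a * b = b * a := congrArg Subtype.val (hcyc.map C.F.permHom).eq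
  haveI := D.L_normal
  -- conjugation on the coset outside `L`
  let K := D.L.subgroupOf E
  have hK : K.index = 2 := by
    obtain ⟨e, he, heL⟩ := SetLike.not_le_iff_exists.1 (not_eImage_le D hgx hx)
    rw [Subgroup.index_eq_two_iff]
    refine ⟨⟨e, he⟩, fun u => ?_⟩
    simp only [K, Subgroup.mem_subgroupOf, Subgroup.coe_mul]
    have h1 := Subgroup.mul_mem_iff_of_index_two D.L_index (a := (u : Cz z ⧸ Q)) (b := e)
    by_cases hu : (u : Cz z ⧸ Q) ∈ D.L
    · exact Or.inr ⟨hu, fun h' => heL ((h1.1 h').1 hu)⟩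
    · exact Or.inl ⟨h1.2 ⟨fun h' => absurd h' hu, fun h' => absurd h' heL⟩, hu⟩
  let T := {u : Cz z ⧸ Q // u ∈ E ∧ u ∉ D.L}
  have hT : Nat.card T = 16 := by
    have h1 := K.card_mul_index
    rw [hK, hE32] at h1
    have h2 : Nat.card T = Nat.card ↥((K : Set E)ᶜ) :=
      Nat.card_congr ⟨fun u => ⟨⟨u.1, u.2.1⟩, u.2.2⟩, fun u => ⟨u.1.1, u.1.2, u.2⟩, fun _ => rfl, fun _ => rfl⟩
    have h3 := Set.ncard_add_ncard_compl (K : Set E)
    rw [← Nat.card_coe_set_eq, ← Nat.card_coe_set_eq, ← h2] at h3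
    rw [show Nat.card ↥(K : Set E) = Nat.card K from rfl, hE32] at h3
    omega
  have hmk : ∀ k, k ∈ C.stab (vec x) → ∀ u : T, k * u.1 * k⁻¹ ∈ E ∧ k * u.1 * k⁻¹ ∉ D.L := fun k hk u =>
    ⟨eImage_conj D hgx hx C hk u.2.1, fun h' => u.2.2 (by
      have := D.L_normal.conj_mem _ h' k⁻¹
      simpa [mul_assoc] using this)⟩
  let mkP : (k : Cz z ⧸ Q) → k ∈ C.stab (vec x) → Equiv.Perm T := fun k hk =>
    { toFun := fun u => ⟨k * u.1 * k⁻¹, hmk k hk u⟩
      invFun := fun u => ⟨k⁻¹ * u.1 * k⁻¹⁻¹, hmk k⁻¹ ((C.stab (vec x)).inv_mem hk) u⟩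
      left_inv := fun u => Subtype.ext (show k⁻¹ * (k * u.1 * k⁻¹) * k⁻¹⁻¹ = u.1 by group)
      right_inv := fun u => Subtype.ext (show k * (k⁻¹ * u.1 * k⁻¹⁻¹) * k⁻¹ = u.1 by group) }
  have hcube : ∀ k hk, k ^ 3 = 1 → mkP k hk ^ 3 = 1 := fun k hk hk3 => Equiv.ext fun u => Subtype.ext (by
    simp only [pow_succ, pow_zero, one_mul, Equiv.Perm.mul_apply, Equiv.Perm.one_apply, mkP, Equiv.coe_fn_mk]
    have h3 : k * k * k = 1 := by rw [← hk3, pow_succ, pow_succ, pow_one]
    calc k * (k * (k * u.1 * k⁻¹) * k⁻¹) * k⁻¹ = (k * k * k) * u.1 * (k * k * k)⁻¹ := by group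
      _ = u.1 := by rw [h3]; group)
  obtain ⟨⟨d, hdE, hdL⟩, hda, hdb⟩ := exists_common_fixed (mkP a hastab) (mkP b hbstab) (hcube a hastab ha3)
    (hcube b hbstab hb3) (Equiv.ext fun u => Subtype.ext (by
      show a * (b * u.1 * b⁻¹) * a⁻¹ = b * (a * u.1 * a⁻¹) * b⁻¹
      calc a * (b * u.1 * b⁻¹) * a⁻¹ = a * b * u.1 * (a * b)⁻¹ := by group
        _ = _ := by rw [hab]; group)) (by rw [hT]; norm_num)
  have hda' : Commute a d := mul_inv_eq_iff_eq_mul.1 (congrArg Subtype.val hda)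
  have hdb' : Commute b d := mul_inv_eq_iff_eq_mul.1 (congrArg Subtype.val hdb)
  -- in coordinates
  let dd : SplitGeom.Vec ≃+ SplitGeom.Vec := C.F.coord.symm.trans ((act d).trans C.F.coord)
  have hdd : ∀ v, dd (C.F.coord v) = C.F.coord (act d v) := fun v => by simp [dd]
  have hsq : d * d = 1 := by
    rw [← pow_two]
    exact (eImage_elementary D hgx hx).2 d hdE
  have hone : ∀ v : QV Q, act (1 : Cz z ⧸ Q) v = v := fun v => by
    have h' := act_mul D.hS 1 1 v
    rw [one_mul] at h'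
    exact (act 1).injective h'.symm
  have hcoordx : ∀ v, C.F.coord (act (D.x : Cz z ⧸ Q) v) = SplitGeom.scal (C.F.coord v) :=
    fun v => funext fun i => C.F.coord_x v i
  rcases SplitGeom.transvection dd
    (fun w => by
      obtain ⟨v, rfl⟩ := C.F.coord.surjective w
      rw [← hcoordx, hdd, hdd, ← hcoordx, ← act_mul D.hS, ← act_mul D.hS, (hxc d).eq])
    (fun w => by
      obtain ⟨v, rfl⟩ := C.F.coord.surjective w
      rw [← C.F.cycle1_coord, hdd, hdd, ← C.F.cycle1_coord]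
      congr 1
      show act d (act a v) = act a (act d v)
      rw [← act_mul D.hS, ← act_mul D.hS, hda'.eq])
    (fun w => by
      obtain ⟨v, rfl⟩ := C.F.coord.surjective w
      rw [← C.F.cycle2_coord, hdd, hdd, ← C.F.cycle2_coord]
      congr 1
      show act d (act b v) = act b (act d v)
      rw [← act_mul D.hS, ← act_mul D.hS, hdb'.eq])
    (fun w => by
      obtain ⟨v, rfl⟩ := C.F.coord.surjective w
      rw [hdd, SplitGeom.par_eq, SplitGeom.par_eq, ← C.F.q_coord, ← C.F.q_coord]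
      exact qf_act D.hS d v)
    (by rw [← hones, hdd, C.mem_stab.1 (eImage_le_stab D hgx C hdE)])
    (fun w => by
      obtain ⟨v, rfl⟩ := C.F.coord.surjective w
      rw [hdd, hdd, ← act_mul D.hS, hsq, hone]) with h1 | ⟨h6, h0⟩
  · refine hdL ?_
    have : d = 1 := act_faithful D.hS d fun v => C.F.coord.injective (by rw [← hdd]; exact h1 _)
    rw [this]
    exact one_mem _
  · set v := C.F.coord.symm (SplitGeom.in1 ((1, 0), (0, 1), (0, 0))) with hv
    have hA : C.F.InA C.c v := Or.inl (by rw [hv, AddEquiv.apply_symm_apply]; decide)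
    refine C.F.inA_not_inB C.c (C.act_inA d hA) (Or.inr ?_)
    rw [← hdd, hv, AddEquiv.apply_symm_apply, h0]
    exact ⟨h6, Ne.symm hc⟩

end CfsgLib.LargeFischer
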