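import Cfsg.Agent.LargeFischer.Coords

/-!
# A conjugate of `z` in `Q` and the corresponding conjugate of `Q`
-/

set_option autoImplicit false
set_option linter.unusedSectionVars false
set_option linter.style.haveILetI false
set_option maxRecDepth 100000
set_option maxHeartbeats 800000

namespace CfsgLib.LargeFischer

open Cfsg
open scoped commutatorElement

theorem pow_two_le_sixteen : ∀ m : ℕ, (∃ k, m = 2 ^ k) → m ∣ 72 → m ≤ 8 := by
  rintro m ⟨k, rfl⟩ h
  by_contra hlt
  have : 4 ≤ k := by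
    by_contra hk
    interval_cases k <;> simp at hlt
  have h16 := (Nat.pow_dvd_pow 2 this).trans h
  norm_num at h16

variable {G : Type*} [Group G] [Finite G] {z : G} {Q : Subgroup (Cz z)} [Q.Normal]

/-- An element of `Q` in `G`. -/
abbrev toG (x : Q) : G := ((x : Cz z) : G)

/-- `Q` as a subgroup of `G`. -/
abbrev inG (Q : Subgroup (Cz z)) : Subgroup G := Q.map (Cz z).subtype

/-- A conjugate of `Q`. -/
abbrev conjQ (Q : Subgroup (Cz z)) (g : G) : Subgroup G := (inG Q).map (MulAut.conj g).toMonoidHom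

/-- The image of a conjugate of `Q` in `H/Q`. -/
abbrev eImage (Q : Subgroup (Cz z)) [Q.Normal] (g : G) : Subgroup (Cz z ⧸ Q) :=
  ((conjQ Q g ⊓ Cz z).subgroupOf (Cz z)).map (QuotientGroup.mk' Q)

theorem mem_inG {a : G} : a ∈ inG Q ↔ ∃ q : Q, toG q = a :=
  ⟨fun ⟨c, hc, e⟩ => ⟨⟨c, hc⟩, e⟩, fun ⟨q, e⟩ => ⟨q.1, q.2, e⟩⟩

theorem mem_conjQ {g a : G} : a ∈ conjQ Q g ↔ g⁻¹ * a * g ∈ inG Q := by
  constructor
  · rintro ⟨b, hb, rfl⟩
    simpa [mul_assoc] using hb
  · intro h
    exact ⟨_, h, by simp [mul_assoc]⟩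

theorem inG_le : inG Q ≤ Cz z := by
  rintro _ ⟨c, -, rfl⟩; exact c.2

theorem inG_conj {h a : G} (hh : h ∈ Cz z) (ha : a ∈ inG Q) : h * a * h⁻¹ ∈ inG Q := by
  obtain ⟨q, rfl⟩ := mem_inG.1 ha
  exact ⟨⟨h, hh⟩ * q * ⟨h, hh⟩⁻¹,
    (inferInstance : Q.Normal).conj_mem (q : Cz z) q.2 _, rfl⟩

section setting

variable (hS : IsExtraspecialCentralizerSetting z Q 6)
include hS

theorem zin_coe : toG (zin hS) = z := rfl

theorem card_centralizer_elem {a : Q} (ha : a ∉ Subgroup.center Q) :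
    Nat.card (Subgroup.centralizer ({a} : Set Q)) = 4096 := by
  haveI : Fact (Nat.Prime 2) := ⟨Nat.prime_two⟩
  have hE := hS.2.2.1
  have h1 := (CfsgLib.ExtraspecialBasic.commHom hE a).ker.card_mul_index
  have hker : (CfsgLib.ExtraspecialBasic.commHom hE a).ker = Subgroup.centralizer ({a} : Set Q) := by
    ext b
    rw [MonoidHom.mem_ker, CfsgLib.ExtraspecialBasic.commHom_eq_one, Subgroup.mem_centralizer_singleton_iff]
    exact ⟨fun h => h.eq.symm, fun h => h.symm⟩
  rw [hker, hS.2.2.2.1] at h1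
  have h2 : (Subgroup.centralizer ({a} : Set Q)).index ≤ 2 := by
    rw [← hker, Subgroup.index_ker]
    exact (Finite.card_subtype_le _).trans hE.2.le
  have h3 : (Subgroup.centralizer ({a} : Set Q)).index ≠ 1 := fun e =>
    ha (Subgroup.mem_center_iff.2 fun b =>
      Subgroup.mem_centralizer_singleton_iff.1 (by rw [Subgroup.index_eq_one.1 e]; trivial))
  have h4 : (Subgroup.centralizer ({a} : Set Q)).index ≠ 0 := Subgroup.index_ne_zero_of_finite
  rw [show (Subgroup.centralizer ({a} : Set Q)).index = 2 by omega] at h1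
  exact Nat.eq_of_mul_eq_mul_right (by norm_num : 0 < 2) (h1.trans (by norm_num))

/-- Elements of `Q` with the same class as `x` are conjugate to it inside `Q`. -/
theorem conj_of_vec_eq {x y : Q} (hx : x ∉ Subgroup.center Q) (h : vec x = vec y) :
    ∃ b : Q, b * x * b⁻¹ = y := by
  rcases (mem_center_cases hS).1 ((vec_eq_iff hS).1 h) with h1 | h1
  · exact ⟨1, by rw [inv_mul_eq_one.1 h1]; group⟩
  · obtain ⟨b, hb⟩ : ∃ b : Q, ¬ Commute b x := by
      by_contra h'
      push Not at h'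
      exact hx (Subgroup.mem_center_iff.2 fun b => (h' b).eq)
    refine ⟨b, ?_⟩
    rcases comm_center hS b x with e | e
    · exact absurd (commutatorElement_eq_one_iff_commute.1 e) hb
    · have hy : y = x * zin hS := inv_mul_eq_iff_eq_mul.1 h1
      rw [hy, Subgroup.mem_center_iff.1 ((mem_center_cases hS).2 (Or.inr rfl)) x, ← e,
        commutatorElement_def]
      group

end setting

variable (D : Data z Q) {g : G} {x : Q} (hgx : g * z * g⁻¹ = toG x) (hx : x ∉ Subgroup.center Q)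

include D hgx in
theorem x_mem_conjQ : toG x ∈ conjQ Q g := by
  rw [mem_conjQ, ← hgx]
  exact mem_inG.2 ⟨zin D.hS, by show z = _; group⟩

include D in
theorem comm_inG {a b : G} (ha : a ∈ inG Q) (hb : b ∈ inG Q) : ⁅a, b⁆ = 1 ∨ ⁅a, b⁆ = z := by
  obtain ⟨p, rfl⟩ := mem_inG.1 ha
  obtain ⟨q, rfl⟩ := mem_inG.1 hb
  rcases comm_center D.hS p q with h | h
  · exact Or.inl (congrArg toG h)
  · exact Or.inr (congrArg toG h)

include D in
theorem sq_inG {a : G} (ha : a ∈ inG Q) : a * a = 1 ∨ a * a = z := by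
  obtain ⟨p, rfl⟩ := mem_inG.1 ha
  rcases sq_center D.hS p with h | h
  · exact Or.inl (congrArg toG h)
  · exact Or.inr (congrArg toG h)

include D hgx in
theorem comm_conjQ {a b : G} (ha : a ∈ conjQ Q g) (hb : b ∈ conjQ Q g) :
    ⁅a, b⁆ = 1 ∨ ⁅a, b⁆ = toG x := by
  obtain ⟨a', ha', rfl⟩ := ha
  obtain ⟨b', hb', rfl⟩ := hb
  rw [← map_commutatorElement]
  rcases comm_inG D ha' hb' with h | h <;> rw [h]
  · exact Or.inl (map_one _)
  · exact Or.inr hgx

include D hgx in
theorem sq_conjQ {a : G} (ha : a ∈ conjQ Q g) : a * a = 1 ∨ a * a = toG x := by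
  obtain ⟨a', ha', rfl⟩ := ha
  rw [← map_mul]
  rcases sq_inG D ha' with h | h <;> rw [h]
  · exact Or.inl (map_one _)
  · exact Or.inr hgx

include hgx in
theorem mem_Cz_of_commute {h : G} (hh : Commute h (toG x)) : g⁻¹ * h * g ∈ Cz z := by
  rw [Subgroup.mem_centralizer_singleton_iff]
  have h' := hh.eq
  rw [← hgx] at h'
  calc g⁻¹ * h * g * z = g⁻¹ * (h * (g * z * g⁻¹)) * g := by group
    _ = g⁻¹ * (g * z * g⁻¹ * h) * g := by rw [h']
    _ = z * (g⁻¹ * h * g) := by group

include hgx in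
theorem conjQ_conj {h a : G} (hh : Commute h (toG x)) (ha : a ∈ conjQ Q g) :
    h * a * h⁻¹ ∈ conjQ Q g := by
  rw [mem_conjQ] at ha ⊢
  have := inG_conj (Q := Q) (mem_Cz_of_commute hgx hh) ha
  convert this using 1
  group

include D hx in
theorem toG_x_ne : toG x ≠ z ∧ toG x ≠ 1 := by
  refine ⟨fun h => hx ?_, fun h => hx ?_⟩
  · rw [show x = zin D.hS from Subtype.ext (Subtype.ext h)]
    exact (mem_center_cases D.hS).2 (Or.inr rfl)
  · rw [show x = 1 from Subtype.ext (Subtype.ext h)]; exact one_mem _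

include D hgx hx in
/-- `z` lies in the conjugate. -/
theorem z_mem_conjQ : z ∈ conjQ Q g := by
  classical
  by_contra hzg
  have hS := D.hS
  haveI : Fact (Nat.Prime 2) := ⟨Nat.prime_two⟩
  obtain ⟨hxz, hx1⟩ := toG_x_ne D hx
  have hxm := x_mem_conjQ D hgx
  -- elements of both
  have hboth : ∀ u : Q, toG u ∈ conjQ Q g → u = 1 ∨ u = x := by
    intro u hu
    let K : Subgroup Q :=
      { carrier := {a | vec a = 0 ∨ vec a = vec x}
        one_mem' := Or.inl vec_one
        mul_mem' := by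
          intro a b ha hb
          show vec (a * b) = 0 ∨ vec (a * b) = vec x
          rw [vec_mul]
          rcases ha with ha | ha <;> rcases hb with hb | hb <;> rw [ha, hb] <;> simp [QV_two hS]
        inv_mem' := by
          intro a ha
          have h : vec a⁻¹ = vec a := by
            have h1 : vec a⁻¹ + vec a = 0 := by rw [← vec_mul, inv_mul_cancel, vec_one]
            calc vec a⁻¹ = vec a⁻¹ + (vec a + vec a) := by rw [QV_two hS, add_zero]
              _ = vec a := by rw [← add_assoc, h1, zero_add]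
          show vec a⁻¹ = 0 ∨ vec a⁻¹ = vec x
          rwa [h] }
    have hZK : Subgroup.center Q ≤ K := fun c hc => Or.inl ((vec_eq_zero hS).2 hc)
    have hu' : u ∈ Subgroup.centralizer ((Subgroup.centralizer (K : Set Q) : Subgroup Q) : Set Q) := by
      rw [Subgroup.mem_centralizer_iff]
      intro a ha
      have hax : Commute a x := (Subgroup.mem_centralizer_iff.1 ha x (Or.inr rfl)).symm
      rcases comm_center hS a u with h | h
      · exact (commutatorElement_eq_one_iff_commute.1 h).eq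
      · refine absurd ?_ hzg
        have hm : ⁅toG a, toG u⁆ ∈ conjQ Q g := by
          rw [commutatorElement_def]
          exact mul_mem (conjQ_conj hgx (congrArg toG hax.eq) hu) (inv_mem hu)
        have e : ⁅toG a, toG u⁆ = z := congrArg toG h
        rwa [e] at hm
    rw [CfsgLib.ExtraspecialBasic.centralizer_centralizer hS.2.2.1 hZK] at hu'
    rcases hu' with h | h
    · rcases (mem_center_cases hS).1 ((vec_eq_zero hS).1 h) with rfl | rfl
      · exact Or.inl rfl
      · exact absurd hu hzg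
    · rcases (mem_center_cases hS).1 ((vec_eq_iff hS).1 h) with e | e
      · exact Or.inr (inv_mul_eq_one.1 e)
      · refine absurd ?_ hzg
        have := mul_mem (inv_mem hu) hxm
        rwa [show (toG u)⁻¹ * toG x = z from congrArg toG e] at this
  -- the image of `C_Q(x)` modulo the conjugate
  let T := Subgroup.centralizer ({x} : Set Q)
  let ψ : T →* Cz z ⧸ Q := MonoidHom.mk' (fun a => QuotientGroup.mk ⟨g⁻¹ * toG a.1 * g, mem_Cz_of_commute hgx
      (congrArg toG (Subgroup.mem_centralizer_singleton_iff.1 a.2))⟩) fun a b => by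
    rw [← QuotientGroup.mk_mul]
    congr 1
    refine Subtype.ext ?_
    show g⁻¹ * (toG a.1 * toG b.1) * g = g⁻¹ * toG a.1 * g * (g⁻¹ * toG b.1 * g)
    group
  have hk : Nat.card ψ.ker ≤ 2 := by
    have : ∀ a : ψ.ker, a.1.1 = 1 ∨ a.1.1 = x := fun a => hboth _ (by
      have h := (QuotientGroup.eq_one_iff _).1 (MonoidHom.mem_ker.1 a.2)
      rw [mem_conjQ]
      exact mem_inG.2 ⟨⟨_, h⟩, rfl⟩)
    have hinj : Function.Injective fun a : ψ.ker => decide (a.1.1 = 1) := by
      intro a b hab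
      have hab' : (a.1.1 = 1) ↔ (b.1.1 = 1) := by simpa using hab
      refine Subtype.ext (Subtype.ext ?_)
      rcases this a with ha | ha <;> rcases this b with hb | hb
      · rw [ha, hb]
      · rw [ha, hab'.1 ha]
      · rw [hb, hab'.2 hb]
      · rw [ha, hb]
    simpa using Nat.card_le_card_of_injective _ hinj
  have h1 := ψ.ker.card_mul_index
  rw [Subgroup.index_ker, card_centralizer_elem hS hx] at h1
  have h2 := Subgroup.card_subgroup_dvd_card ψ.range
  have hH : Nat.card (Cz z ⧸ Q) = 19595520 := by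
    rw [← D.L.card_mul_index, D.L_card, D.L_index]
  rw [hH] at h2
  have hk0 : 0 < Nat.card ψ.ker := Nat.card_pos
  rcases (by omega : Nat.card ψ.ker = 1 ∨ Nat.card ψ.ker = 2) with e | e <;> rw [e] at h1
  · rw [show Nat.card ψ.range = 4096 by omega] at h2
    norm_num at h2
  · rw [show Nat.card ψ.range = 2048 by omega] at h2
    norm_num at h2

include D hgx hx in
/-- The part of the conjugate centralizing `z`. -/
theorem card_part : Nat.card (conjQ Q g ⊓ Cz z : Subgroup G) = 4096 := by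
  have hzg := z_mem_conjQ D hgx hx
  obtain ⟨y, hy⟩ := mem_inG.1 (mem_conjQ.1 hzg)
  obtain ⟨hxz, -⟩ := toG_x_ne D hx
  have hyc : y ∉ Subgroup.center Q := by
    intro hc
    rcases (mem_center_cases D.hS).1 hc with rfl | rfl
    · have h1 : g⁻¹ * z * g = 1 := hy.symm
      have : z = 1 := by
        calc z = g * (g⁻¹ * z * g) * g⁻¹ := by group
          _ = 1 := by rw [h1]; group
      exact zin_ne_one D.hS (Subtype.ext (Subtype.ext this))
    · have h1 : g⁻¹ * z * g = z := hy.symm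
      refine hxz ?_
      rw [← hgx]
      calc g * z * g⁻¹ = g * (g⁻¹ * z * g) * g⁻¹ := by rw [h1]
        _ = z := by group
  rw [← card_centralizer_elem D.hS hyc]
  refine (Nat.card_congr (Equiv.ofBijective (fun a : Subgroup.centralizer ({y} : Set Q) =>
    (⟨g * toG a.1 * g⁻¹, ?_, ?_⟩ : (conjQ Q g ⊓ Cz z : Subgroup G))) ⟨?_, ?_⟩)).symm
  · show g * toG a.1 * g⁻¹ ∈ conjQ Q g
    rw [mem_conjQ]
    refine mem_inG.2 ⟨a.1, ?_⟩
    group
  · show g * toG a.1 * g⁻¹ ∈ Cz z
    rw [Subgroup.mem_centralizer_singleton_iff]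
    have hc : toG a.1 * toG y = toG y * toG a.1 :=
      congrArg toG (Subgroup.mem_centralizer_singleton_iff.1 a.2)
    rw [hy] at hc
    calc g * toG a.1 * g⁻¹ * z = g * (toG a.1 * (g⁻¹ * z * g)) * g⁻¹ := by group
      _ = g * ((g⁻¹ * z * g) * toG a.1) * g⁻¹ := by rw [hc]
      _ = z * (g * toG a.1 * g⁻¹) := by group
  · intro a b hab
    have := congrArg Subtype.val hab
    simp only at this
    exact Subtype.ext (Subtype.ext (Subtype.ext (mul_left_cancel (mul_right_cancel this))))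
  · rintro ⟨a, haQ, haz⟩
    obtain ⟨q, hq⟩ := mem_inG.1 (mem_conjQ.1 haQ)
    refine ⟨⟨q, Subgroup.mem_centralizer_singleton_iff.2 (Subtype.ext (Subtype.ext ?_))⟩, Subtype.ext ?_⟩
    · show toG q * toG y = toG y * toG q
      rw [hq, hy]
      have hc : a * z = z * a := Subgroup.mem_centralizer_singleton_iff.1 haz
      calc g⁻¹ * a * g * (g⁻¹ * z * g) = g⁻¹ * (a * z) * g := by group
        _ = g⁻¹ * (z * a) * g := by rw [hc]
        _ = g⁻¹ * z * g * (g⁻¹ * a * g) := by group
    · show g * toG q * g⁻¹ = a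
      rw [hq]; group

include D hgx hx in
/-- The meeting with the conjugate is elementary abelian, of order at most `2^7`. -/
theorem meet_facts : Cfsg.IsElementaryAbelian 2 (inG Q ⊓ conjQ Q g : Subgroup G) ∧
    Nat.card (inG Q ⊓ conjQ Q g : Subgroup G) ≤ 128 := by
  haveI : Fact (Nat.Prime 2) := ⟨Nat.prime_two⟩
  obtain ⟨hxz, -⟩ := toG_x_ne D hx
  have hzg := z_mem_conjQ D hgx hx
  have hcomm : ∀ a ∈ inG Q ⊓ conjQ Q g, ∀ b ∈ inG Q ⊓ conjQ Q g, a * b = b * a := by
    intro a ha b hb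
    rcases comm_inG D ha.1 hb.1 with h | h
    · exact (commutatorElement_eq_one_iff_commute.1 h).eq
    rcases comm_conjQ D hgx ha.2 hb.2 with h' | h'
    · exact (commutatorElement_eq_one_iff_commute.1 h').eq
    · exact absurd (h'.symm.trans h) hxz
  have hsq : ∀ a ∈ inG Q ⊓ conjQ Q g, a * a = 1 := by
    intro a ha
    rcases sq_inG D ha.1 with h | h
    · exact h
    rcases sq_conjQ D hgx ha.2 with h' | h'
    · exact h'
    · exact absurd (h'.symm.trans h) hxz
  refine ⟨⟨⟨⟨fun a b => Subtype.ext (hcomm a.1 a.2 b.1 b.2)⟩⟩, fun a ha => by rw [pow_two]; exact hsq a ha⟩, ?_⟩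
  let K : Subgroup Q := (inG Q ⊓ conjQ Q g).comap ((Cz z).subtype.comp Q.subtype)
  have hZK : Subgroup.center Q ≤ K := fun c hc => by
    rcases (mem_center_cases D.hS).1 hc with rfl | rfl
    · exact one_mem _
    · exact ⟨mem_inG.2 ⟨zin D.hS, rfl⟩, hzg⟩
  have hle : K ≤ Subgroup.centralizer (K : Set Q) := fun a ha =>
    Subgroup.mem_centralizer_iff.2 fun b hb => Subtype.ext (Subtype.ext (hcomm _ hb _ ha))
  have hc := CfsgLib.ExtraspecialBasic.card_centralizer_mul_card D.hS.2.2.1 hZK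
  rw [D.hS.2.2.2.1] at hc
  norm_num at hc
  have h2 := Subgroup.card_le_of_le hle
  have h3 : Nat.card K * Nat.card K ≤ 16384 := (Nat.mul_le_mul_right _ h2).trans hc.le
  have hcard : Nat.card K = Nat.card (inG Q ⊓ conjQ Q g : Subgroup G) := by
    refine Nat.card_congr (Equiv.ofBijective (fun a => ⟨toG a.1, a.2⟩) ⟨fun a b h => ?_, ?_⟩)
    · have h' : toG a.1 = toG b.1 := by simpa using congrArg Subtype.val h
      exact Subtype.ext (Subtype.ext (Subtype.ext h'))
    · rintro ⟨a, ha⟩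
      obtain ⟨q, rfl⟩ := mem_inG.1 ha.1
      exact ⟨⟨q, ha⟩, rfl⟩
  rw [hcard] at h3
  by_contra hlt
  push Not at hlt
  have := Nat.mul_le_mul hlt hlt
  omega

include D hgx hx in
theorem card_eImage_mul :
    Nat.card (eImage Q g) * Nat.card (inG Q ⊓ conjQ Q g : Subgroup G) = 4096 := by
  rw [← card_part D hgx hx]
  set R := (conjQ Q g ⊓ Cz z).subgroupOf (Cz z) with hR
  rw [← Nat.card_congr (Subgroup.subgroupOfEquivOfLe (inf_le_right : conjQ Q g ⊓ Cz z ≤ Cz z)).toEquiv]
  let φ := (QuotientGroup.mk' Q).comp R.subtype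
  have h1 := φ.ker.card_mul_index
  rw [Subgroup.index_ker, MonoidHom.range_comp, Subgroup.range_subtype] at h1
  rw [← h1, mul_comm]
  congr 1
  let f : φ.ker → (inG Q ⊓ conjQ Q g : Subgroup G) := fun a => ⟨((a.1 : Cz z) : G),
    mem_inG.2 ⟨⟨_, (QuotientGroup.eq_one_iff _).1 (MonoidHom.mem_ker.1 a.2)⟩, rfl⟩, a.1.2.1⟩
  refine (Nat.card_congr (Equiv.ofBijective f ⟨fun a b h => ?_, fun b => ?_⟩)).symm
  · have h' := congrArg Subtype.val h
    exact Subtype.ext (Subtype.ext (Subtype.ext h'))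
  · obtain ⟨q, hq⟩ := mem_inG.1 b.2.1
    refine ⟨⟨⟨⟨b.1, inG_le b.2.1⟩, b.2.2, inG_le b.2.1⟩, MonoidHom.mem_ker.2 ((QuotientGroup.eq_one_iff _).2 ?_)⟩,
      Subtype.ext rfl⟩
    show (⟨b.1, inG_le b.2.1⟩ : Cz z) ∈ Q
    rw [show (⟨b.1, inG_le b.2.1⟩ : Cz z) = q.1 from Subtype.ext hq.symm]
    exact q.2

include D hgx hx in
theorem eImage_elementary : Cfsg.IsElementaryAbelian 2 (eImage Q g) := by
  have hxQ : ∀ c : Cz z, (c : G) = 1 ∨ (c : G) = toG x → (QuotientGroup.mk c : Cz z ⧸ Q) = 1 := by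
    rintro c (h | h)
    · rw [show c = 1 from Subtype.ext h]; rfl
    · rw [show c = x.1 from Subtype.ext h]; exact (QuotientGroup.eq_one_iff _).2 x.2
  refine ⟨?_, ?_⟩
  · refine ⟨⟨fun u v => Subtype.ext ?_⟩⟩
    obtain ⟨u, a, ha, rfl⟩ := u
    obtain ⟨v, b, hb, rfl⟩ := v
    refine (commutatorElement_eq_one_iff_commute.1 ?_).eq
    rw [← map_commutatorElement]
    exact hxQ _ (comm_conjQ D hgx ha.1 hb.1)
  · rintro _ ⟨a, ha, rfl⟩
    rw [pow_two, ← map_mul]
    exact hxQ _ (sq_conjQ D hgx ha.1)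

variable (C : Coords D)

include hx in
/-- Every element of the stabiliser of the class of `x` comes from one commuting with `x`. -/
theorem exists_commuting {h : Cz z ⧸ Q} (hh : h ∈ C.stab (vec x)) :
    ∃ k : Cz z, (QuotientGroup.mk k : Cz z ⧸ Q) = h ∧ Commute (k : G) (toG x) := by
  obtain ⟨k, rfl⟩ := QuotientGroup.mk_surjective h
  rw [C.mem_stab, act_mk D.hS, actC_vec] at hh
  have hkx : conjIn k x ∉ Subgroup.center Q := fun e => hx ((vec_eq_zero D.hS).1 (by
    rw [← hh]; exact (vec_eq_zero D.hS).2 e))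
  obtain ⟨b, hb⟩ := conj_of_vec_eq D.hS hkx hh
  refine ⟨b.1 * k, ?_, ?_⟩
  · rw [QuotientGroup.mk_mul, (QuotientGroup.eq_one_iff _).2 b.2, one_mul]
  · have := congrArg toG hb
    simp only [toG, Subgroup.coe_mul, Subgroup.coe_inv, conjIn_coe] at this
    show ((b.1 : Cz z) : G) * (k : G) * toG x = toG x * (((b.1 : Cz z) : G) * (k : G))
    conv_rhs => arg 1; rw [toG, ← this]
    group

include hgx in
theorem eImage_le_stab : eImage Q g ≤ C.stab (vec x) := by
  rintro _ ⟨a, ha, rfl⟩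
  rw [QuotientGroup.mk'_apply, C.mem_stab, act_mk D.hS, actC_vec]
  have hax : Commute (a : G) (toG x) := by
    obtain ⟨b, hb, e⟩ := ha.1
    have h1 : Commute b z := Subgroup.mem_centralizer_singleton_iff.1 (inG_le hb)
    have := h1.map (MulAut.conj g).toMonoidHom
    rwa [show (MulAut.conj g).toMonoidHom z = toG x from hgx, show (MulAut.conj g).toMonoidHom b = (a : G) from e] at this
  congr 1
  refine Subtype.ext (Subtype.ext ?_)
  rw [conjIn_coe]
  show (a : G) * toG x * (a : G)⁻¹ = toG x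
  rw [hax.eq, mul_inv_cancel_right]

include hgx hx in
theorem eImage_conj {h : Cz z ⧸ Q} (hh : h ∈ C.stab (vec x)) {a : Cz z ⧸ Q} (ha : a ∈ eImage Q g) :
    h * a * h⁻¹ ∈ eImage Q g := by
  obtain ⟨k, rfl, hk⟩ := exists_commuting D hx C hh
  obtain ⟨a, ha, rfl⟩ := ha
  exact ⟨k * a * k⁻¹, ⟨conjQ_conj hgx hk ha.1,
    (Cz z).mul_mem ((Cz z).mul_mem k.2 a.2) ((Cz z).inv_mem k.2)⟩, by simp⟩

include hgx hx in
theorem vec_singular : C.F.InA C.c (vec x) ∨ C.F.InB C.c (vec x) := by
  refine C.cases ((qf_eq_zero_iff D.hS x).2 (Subtype.ext (Subtype.ext ?_))) fun e => hx ((vec_eq_zero D.hS).1 e)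
  show toG x * toG x = 1
  have hz2 : z * z = 1 := by rw [← pow_two, ← D.hS.1]; exact pow_orderOf_eq_one z
  rw [← hgx]
  calc g * z * g⁻¹ * (g * z * g⁻¹) = g * (z * z) * g⁻¹ := by group
    _ = 1 := by rw [hz2, mul_one, mul_inv_cancel]

include hgx hx in
/-- The main count: the class lies in the orbit of 1701 and the image has order 32. -/
theorem image_main : C.F.InB C.c (vec x) ∧ Nat.card (eImage Q g) = 32 ∧
    Nat.card (inG Q ⊓ conjQ Q g : Subgroup G) = 128 ∧
    ∃ ι : alternatingGroup (Fin 6) →* (Cz z ⧸ Q), (∀ π, ι π ∈ C.stab (vec x)) ∧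
      (∀ π, ι π ∈ eImage Q g → π = 1) := by
  classical
  haveI : Fact (Nat.Prime 2) := ⟨Nat.prime_two⟩
  set E := eImage Q g with hE
  have hprod := card_eImage_mul D hgx hx
  obtain ⟨helem, hle⟩ := meet_facts D hgx hx
  have hE32 : 32 ≤ Nat.card E := by
    have h := Nat.mul_le_mul_left (Nat.card E) hle
    rw [hprod] at h
    omega
  have hsing := vec_singular D hgx hx C
  obtain ⟨ι, hι, hιmem⟩ := C.exists_alt hsing
  set S := C.stab (vec x) ⊓ D.L with hSdef
  have hEp : IsPGroup 2 E := fun a => ⟨1, by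
    refine Subtype.ext ?_
    rw [SubgroupClass.coe_pow]
    exact (eImage_elementary D hgx hx).2 a.1 a.2⟩
  -- the part in `L`
  set N := E ⊓ D.L with hN
  have hNE : Nat.card E ≤ 2 * Nat.card N := by
    haveI := D.L_normal
    have h1 := ((QuotientGroup.mk' D.L).comp E.subtype).ker.card_mul_index
    rw [Subgroup.index_ker] at h1
    have h2 : Nat.card ((QuotientGroup.mk' D.L).comp E.subtype).range ≤ 2 := by
      refine (Finite.card_subtype_le _).trans (le_of_eq ?_)
      rw [← Subgroup.index_eq_card, D.L_index]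
    have h3 : Nat.card ((QuotientGroup.mk' D.L).comp E.subtype).ker = Nat.card N :=
      Nat.card_congr ⟨fun a => ⟨a.1.1, a.1.2, (QuotientGroup.eq_one_iff _).1 (MonoidHom.mem_ker.1 a.2)⟩,
        fun b => ⟨⟨b.1, b.2.1⟩, MonoidHom.mem_ker.2 ((QuotientGroup.eq_one_iff _).2 b.2.2)⟩,
        fun a => rfl, fun b => rfl⟩
    rw [← h1, h3, mul_comm 2]
    exact Nat.mul_le_mul_left _ h2
  have hNS : N ≤ S := inf_le_inf (eImage_le_stab D hgx C) le_rfl
  haveI hnorm : (N.subgroupOf S).Normal := ⟨fun a ha b => by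
    rw [Subgroup.mem_subgroupOf] at ha ⊢
    exact ⟨eImage_conj D hgx hx C b.2.1 ha.1, D.L_normal.conj_mem _ ha.2 b.1⟩⟩
  have hNp : IsPGroup 2 N := hEp.to_le inf_le_left
  haveI := alternatingGroup.isSimpleGroup (α := Fin 6) (by simp)
  let ι' : alternatingGroup (Fin 6) →* S := ι.codRestrict S hιmem
  have hA6 : Nat.card (alternatingGroup (Fin 6)) = 360 := by
    rw [Nat.card_eq_fintype_card, card_alternatingGroup]; simp [Nat.factorial]
  have htriv : ∀ π, ι π ∈ N → π = 1 := by
    intro π hπ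
    have hnK : ((N.subgroupOf S).comap ι').Normal := inferInstance
    rcases hnK.eq_bot_or_eq_top with h | h
    · have : π ∈ (N.subgroupOf S).comap ι' := hπ
      rwa [h, Subgroup.mem_bot] at this
    · exfalso
      have hsub : ∀ σ, ι σ ∈ N := fun σ => by
        have : σ ∈ (N.subgroupOf S).comap ι' := by rw [h]; trivial
        exact this
      have hr : ι.range ≤ N := by rintro _ ⟨σ, rfl⟩; exact hsub σ
      have hd := Subgroup.card_dvd_of_le hr
      rw [← Nat.card_congr (MonoidHom.ofInjective hι).toEquiv, hA6] at hd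
      obtain ⟨k, hk⟩ := IsPGroup.iff_card.1 hNp
      rw [hk] at hd
      have h5 : 5 ∣ 2 ^ k := dvd_trans (by norm_num) hd
      have := Nat.Prime.dvd_of_dvd_pow (by norm_num) h5
      norm_num at this
  have hdvd : Nat.card N * 360 ∣ Nat.card S := by
    have hq : Function.Injective ((QuotientGroup.mk' (N.subgroupOf S)).comp ι') := by
      rw [injective_iff_map_eq_one]
      intro σ hσ
      exact htriv σ ((QuotientGroup.eq_one_iff (ι' σ)).1 hσ)
    have h1 := Subgroup.card_dvd_of_injective _ hq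
    rw [hA6] at h1
    rw [Subgroup.card_eq_card_quotient_mul_card_subgroup (N.subgroupOf S),
      Nat.card_congr (Subgroup.subgroupOfEquivOfLe hNS).toEquiv, mul_comm]
    exact Nat.mul_dvd_mul_right h1 _
  obtain ⟨k, hk⟩ := IsPGroup.iff_card.1 hNp
  rcases hsing with hA | hB
  · exfalso
    rw [C.card_stab_L (C.card_orbit_A hA) (m := 25920) (by norm_num),
      show (25920 : ℕ) = 72 * 360 by norm_num] at hdvd
    have := pow_two_le_sixteen _ ⟨k, hk⟩ ((Nat.mul_dvd_mul_iff_right (by norm_num)).1 hdvd)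
    omega
  · rw [C.card_stab_L (C.card_orbit_B hB) (m := 5760) (by norm_num),
      show (5760 : ℕ) = 16 * 360 by norm_num] at hdvd
    have hN16 := Nat.le_of_dvd (by norm_num) ((Nat.mul_dvd_mul_iff_right (by norm_num)).1 hdvd)
    have hE' : Nat.card E = 32 := by omega
    rw [hE'] at hprod
    refine ⟨hB, hE', by omega, ι, fun π => (hιmem π).1, fun π hπ => htriv π ⟨hπ, (hιmem π).2⟩⟩

include hgx hx in
/-- The stabiliser modulo the image is the alternating group of degree six. -/
theorem stab_quot (X : Subgroup (Cz z ⧸ Q)) (hX : X = C.stab (vec x)) :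
    ∃ _ : ((eImage Q g).subgroupOf X).Normal,
      Nonempty (↥X ⧸ (eImage Q g).subgroupOf X ≃* alternatingGroup (Fin 6)) := by
  subst hX
  obtain ⟨hB, hE, -, ι, hιX, htriv⟩ := image_main D hgx hx C
  haveI hn : ((eImage Q g).subgroupOf (C.stab (vec x))).Normal := ⟨fun a ha b => by
    rw [Subgroup.mem_subgroupOf] at ha ⊢
    exact eImage_conj D hgx hx C b.2 ha⟩
  refine ⟨hn, ⟨(MulEquiv.ofBijective
    ((QuotientGroup.mk' ((eImage Q g).subgroupOf (C.stab (vec x)))).comp (ι.codRestrict _ hιX)) ?_).symm⟩⟩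
  have hinj : Function.Injective
      ((QuotientGroup.mk' ((eImage Q g).subgroupOf (C.stab (vec x)))).comp (ι.codRestrict _ hιX)) := by
    rw [injective_iff_map_eq_one]
    intro σ hσ
    exact htriv σ ((QuotientGroup.eq_one_iff (ι.codRestrict _ hιX σ)).1 hσ)
  refine (Nat.bijective_iff_injective_and_card _).2 ⟨hinj, ?_⟩
  have h1 := Subgroup.card_eq_card_quotient_mul_card_subgroup ((eImage Q g).subgroupOf (C.stab (vec x)))
  rw [C.card_stab (Or.inr hB), C.card_stab_L (C.card_orbit_B hB) (m := 5760) (by norm_num),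
    Nat.card_congr (Subgroup.subgroupOfEquivOfLe (eImage_le_stab D hgx C)).toEquiv, hE] at h1
  rw [Nat.card_eq_fintype_card, card_alternatingGroup, Fintype.card_fin]
  simp only [Nat.factorial]
  omega

end CfsgLib.LargeFischer
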