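import Cfsg.Agent.UFourThree.Seven

/-!
# A parabolic subgroup `3^4:A6` of `PSU(4,3)` with explicit matrices
-/

set_option autoImplicit false
set_option linter.unusedSectionVars false
set_option linter.style.haveILetI false
set_option maxRecDepth 100000

namespace CfsgLib.LargeFischer

open Matrix CfsgLib.UThree CfsgLib.UFourThree

/-- Vectors over the field with three elements. -/
abbrev V4 := Fin 4 → ZMod 3

/-- The codes of a basis of the normal subgroup `3^4`. -/
def uCodes : List (List (List ℕ)) :=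
  [[[4, 4, 0, 0], [5, 7, 0, 0], [0, 0, 1, 0], [0, 0, 0, 1]],
   [[1, 0, 0, 0], [0, 1, 0, 0], [0, 0, 4, 4], [0, 0, 5, 7]],
   [[1, 0, 1, 7], [0, 1, 4, 2], [2, 5, 1, 0], [8, 1, 0, 1]],
   [[1, 0, 3, 4], [0, 1, 5, 6], [3, 4, 1, 0], [5, 6, 0, 1]]]

/-- The codes of four elements normalising it, of orders five, three, three, three. -/
def gCodes : List (List (List ℕ)) :=
  [[[5, 3, 2, 0], [1, 5, 0, 2], [1, 0, 8, 1], [0, 1, 6, 8]],
   [[1, 0, 2, 7], [0, 1, 8, 2], [1, 7, 1, 0], [8, 1, 0, 1]],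
   [[1, 0, 6, 4], [0, 1, 7, 6], [6, 8, 1, 0], [5, 6, 0, 1]],
   [[1, 0, 1, 7], [0, 1, 8, 1], [2, 7, 1, 0], [8, 2, 0, 1]]]

/-- Their matrices on the normal subgroup. -/
def tList : List (List (List ℕ)) :=
  [[[2, 1, 2, 1], [1, 0, 0, 0], [1, 0, 1, 0], [1, 0, 0, 2]],
   [[1, 1, 0, 2], [0, 1, 0, 0], [0, 0, 1, 0], [0, 1, 0, 1]],
   [[1, 1, 1, 0], [0, 1, 0, 0], [0, 2, 1, 0], [0, 0, 0, 1]],
   [[1, 0, 0, 0], [1, 1, 0, 2], [0, 0, 1, 0], [1, 0, 0, 1]]]

/-- Entry of the matrix of the `g`-th element. -/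
def tEnt (g i j : Fin 4) : ZMod 3 :=
  ((((tList.getD g.val []).getD i.val []).getD j.val 0 : ℕ) : ZMod 3)

/-- The action on the normal subgroup. -/
def tv (g : Fin 4) (v : V4) : V4 := fun i =>
  tEnt g i 0 * v 0 + tEnt g i 1 * v 1 + tEnt g i 2 * v 2 + tEnt g i 3 * v 3

/-- The code of an element of the normal subgroup. -/
def codeA (v : V4) : List (List ℕ) :=
  mul4 (pow4 (uCodes.getD 0 []) (v 0).val) (mul4 (pow4 (uCodes.getD 1 []) (v 1).val)
    (mul4 (pow4 (uCodes.getD 2 []) (v 2).val) (pow4 (uCodes.getD 3 []) (v 3).val)))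

theorem parabolic_facts :
    (∀ i : Fin 4, colsOK (uCodes.getD i.val []) = true ∧ pow4 (uCodes.getD i.val []) 3 = diag4 1 1) ∧
    (∀ i : Fin 4, colsOK (gCodes.getD i.val []) = true ∧
      pow4 (gCodes.getD i.val []) (if i = 0 then 5 else 3) = diag4 1 1) ∧
    (∀ i j : Fin 4, mul4 (uCodes.getD i.val []) (uCodes.getD j.val []) =
      mul4 (uCodes.getD j.val []) (uCodes.getD i.val [])) ∧
    (∀ v : V4, (∀ i j : Fin 4, get4 (codeA v) i j < 9) ∧
      (v ≠ 0 → ∃ i j : Fin 4, get4 (codeA v) i j ≠ if i = j then 1 else 0)) ∧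
    (∀ g : Fin 4, ∀ j : Fin 4, mul4 (gCodes.getD g.val []) (uCodes.getD j.val []) =
      mul4 (codeA (fun i => tEnt g i j)) (gCodes.getD g.val [])) ∧
    mul4 (gCodes.getD 1 []) (gCodes.getD 2 []) = mul4 (gCodes.getD 2 []) (gCodes.getD 1 []) := by
  refine ⟨?_, ?_, ?_, ?_, ?_, ?_⟩ <;> decide +kernel

/-- A power of an element of order three, indexed by `ZMod 3`. -/
theorem pow_val_add {H : Type*} [Group H] {y : H} (hy : y ^ 3 = 1) (a b : ZMod 3) :
    y ^ (a + b).val = y ^ a.val * y ^ b.val := by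
  rw [← pow_add, ZMod.val_add, ← pow_eq_pow_mod _ hy]

/-- A product of powers of four elements. -/
def prod4 {H : Type*} [Group H] (u : Fin 4 → H) (v : V4) : H :=
  u 0 ^ (v 0).val * (u 1 ^ (v 1).val * (u 2 ^ (v 2).val * u 3 ^ (v 3).val))

theorem prod4_add {H : Type*} [Group H] (u : Fin 4 → H) (h3 : ∀ i, u i ^ 3 = 1)
    (hc : ∀ i j, Commute (u i) (u j)) (v w : V4) :
    prod4 u (v + w) = prod4 u v * prod4 u w := by
  have h : ∀ (i j : Fin 4) (a b : ℕ), Commute (u i ^ a) (u j ^ b) := fun i j a b =>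
    ((hc i j).pow_left a).pow_right b
  have sw : ∀ x y z w : H, Commute y z → x * y * (z * w) = x * z * (y * w) := fun x y z w h => by
    rw [mul_assoc, ← mul_assoc y, h.eq]; group
  simp only [prod4, Pi.add_apply, pow_val_add (h3 _)]
  rw [sw (u 2 ^ (v 2).val) _ _ _ (h 2 3 _ _), sw (u 1 ^ (v 1).val) (u 1 ^ (w 1).val) _ _
    ((h 1 2 _ _).mul_right (h 1 3 _ _)), sw (u 0 ^ (v 0).val) (u 0 ^ (w 0).val) _ _
    ((h 0 1 _ _).mul_right ((h 0 2 _ _).mul_right (h 0 3 _ _)))]

theorem prod4_conj {H : Type*} [Group H] (u : Fin 4 → H) (g : H) (v : V4) :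
    g * prod4 u v * g⁻¹ = prod4 (fun i => g * u i * g⁻¹) v := by
  simp only [prod4, conj_pow]
  group

theorem prod4_single {H : Type*} [Group H] (u : Fin 4 → H) (i : Fin 4) :
    prod4 u (Pi.single i 1) = u i := by
  fin_cases i <;> simp [prod4, show (1 : ZMod 3).val = 1 from rfl]

theorem eq_sum_single : ∀ v : V4,
    v = (v 0).val • (Pi.single 0 1 : V4) + (v 1).val • (Pi.single 1 1 : V4) +
      (v 2).val • (Pi.single 2 1 : V4) + (v 3).val • (Pi.single 3 1 : V4) := by decide +kernel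

/-- A map turning sums into products is determined on the basis. -/
theorem map_eq_prod4 {H : Type*} [Group H] (a : V4 → H) (ha : ∀ v w, a (v + w) = a v * a w) (v : V4) :
    a v = prod4 (fun i => a (Pi.single i 1)) v := by
  have h0 : a 0 = 1 := mul_left_cancel (a := a 0) (by rw [← ha, add_zero, mul_one])
  have hn : ∀ (n : ℕ) (x : V4), a (n • x) = a x ^ n := fun n x => by
    induction n with
    | zero => rw [zero_smul, h0, pow_zero]
    | succ n ih => rw [succ_nsmul, ha, ih, pow_succ]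
  conv_lhs => rw [eq_sum_single v]
  simp only [prod4, ha, hn, mul_assoc]

theorem zmod3_triple : ∀ x : ZMod 3, x + (x + x) = 0 := by decide

variable {F : Type*} [Field F] [Fintype F]

/-- An explicit elementary abelian subgroup of order 81 of `PSU(4,3)` with four elements normalising it. -/
theorem exists_parabolic (hF : Fintype.card F = 9) :
    ∃ (a : V4 → Cfsg.PSU 4 F 3) (g : Fin 4 → Cfsg.PSU 4 F 3),
      (∀ v w, a (v + w) = a v * a w) ∧ Function.Injective a ∧
      (∀ k v, g k * a v * (g k)⁻¹ = a (tv k v)) ∧ g 0 ^ 5 = 1 ∧ g 1 ^ 3 = 1 ∧ g 2 ^ 3 = 1 ∧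
      g 1 * g 2 = g 2 * g 1 := by
  haveI : CharP F 3 := charP_of_card_eq_prime_pow (f := 2) (p := 3) (by rw [hF]; norm_num)
  haveI : Fact (Nat.Prime 3) := ⟨by norm_num⟩
  obtain ⟨ι, hι⟩ := exists_iota hF
  obtain ⟨hu, hg, hcom, hcode, hrel, hg12⟩ := parabolic_facts
  choose U hU using fun i : Fin 4 => exists_elt hι hF (n := 3) (by norm_num) (hu i).1 (hu i).2
  choose G hG using fun i : Fin 4 => exists_elt hι hF (n := if i = 0 then 5 else 3)
    (by split_ifs <;> norm_num) (hg i).1 (hg i).2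
  let toM : Cfsg.SU 4 F 3 →* Matrix (Fin 4) (Fin 4) F :=
    (Cfsg.slToMat 4 F).comp (Cfsg.SU 4 F 3).subtype
  have hinj : Function.Injective toM := fun a b e => Subtype.ext (Subtype.ext e)
  have hUM : ∀ i, toM (U i) = mat4 ι (uCodes.getD i.val []) := hU
  have hGM : ∀ i, toM (G i) = mat4 ι (gCodes.getD i.val []) := hG
  have hU3 : ∀ i, U i ^ 3 = 1 := fun i => hinj (by
    rw [map_pow, hUM, ← mat4_pow hι, (hu i).2, mat4_one, map_one])
  have hUc : ∀ i j, Commute (U i) (U j) := fun i j => hinj (by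
    rw [map_mul, map_mul, hUM, hUM, ← mat4_mul hι, hcom i j, mat4_mul hι])
  have hUA : ∀ v, toM (prod4 U v) = mat4 ι (codeA v) := fun v => by
    simp only [prod4, codeA, map_mul, map_pow, mat4_mul hι, mat4_pow hι, hUM]
    rfl
  let q := QuotientGroup.mk' (Subgroup.center (Cfsg.SU 4 F 3))
  let a : V4 → Cfsg.PSU 4 F 3 := fun v => q (prod4 U v)
  have ha : ∀ v w, a (v + w) = a v * a w := fun v w => by
    show q _ = q _ * q _
    rw [← map_mul, prod4_add U hU3 hUc]
  have hrel' : ∀ k j, G k * U j = prod4 U (fun i => tEnt k i j) * G k := fun k j => hinj (by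
    rw [map_mul, map_mul, hUA, hGM, hUM, ← mat4_mul hι, ← mat4_mul hι, hrel k j])
  have hz4 : ∀ z ∈ Subgroup.center (Cfsg.SU 4 F 3), z ^ 4 = 1 := by
    intro z hz
    have hc := CfsgLib.Forms4.card_center_SU (n := 4) (q := 3) (F := F) (by rw [hF]; norm_num)
      (by norm_num)
    have := pow_card_eq_one' (x := (⟨z, hz⟩ : Subgroup.center (Cfsg.SU 4 F 3)))
    rw [hc] at this
    exact congrArg Subtype.val this
  refine ⟨a, fun k => q (G k), ha, ?_, fun k v => ?_, ?_, ?_, ?_, ?_⟩
  · intro v w e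
    by_contra hne
    have h1 : a (v - w) = 1 := by
      have := ha (v - w) w
      rw [sub_add_cancel, e] at this
      exact mul_eq_right.1 this.symm
    have h4 := hz4 _ ((QuotientGroup.eq_one_iff _).1 h1)
    have h3 : prod4 U (v - w) ^ 3 = 1 := by
      have h0 : (v - w) + ((v - w) + (v - w)) = 0 := by
        funext i
        exact zmod3_triple ((v - w) i)
      have := congrArg (prod4 U) h0
      rw [prod4_add U hU3 hUc, prod4_add U hU3 hUc] at this
      rw [pow_succ', pow_two, this]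
      simp [prod4]
    have h5 : prod4 U (v - w) = 1 := by
      calc prod4 U (v - w) = prod4 U (v - w) * prod4 U (v - w) ^ 3 := by rw [h3, mul_one]
        _ = 1 := by rw [← pow_succ', h4]
    obtain ⟨i, j, hij⟩ := (hcode (v - w)).2 (sub_ne_zero.2 hne)
    have h6 := congrFun (congrFun ((hUA (v - w)).symm.trans ((congrArg toM h5).trans (map_one toM))) i) j
    refine hij ?_
    by_cases h : i = j
    · subst h
      rw [if_pos rfl]
      refine val9_injOn hι ((hcode (v - w)).1 i i) (by norm_num) ?_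
      rw [val9_one]
      simpa [mat4] using h6
    · rw [if_neg h]
      refine val9_injOn hι ((hcode (v - w)).1 i j) (by norm_num) ?_
      rw [val9_zero]
      simpa [mat4, h] using h6
  · have hb : ∀ j, q (G k) * a (Pi.single j 1) * (q (G k))⁻¹ = a (tv k (Pi.single j 1)) := by
      intro j
      have e : tv k (Pi.single j 1) = fun i => tEnt k i j := by
        funext i
        fin_cases j <;> simp [tv]
      show q (G k) * q (prod4 U (Pi.single j 1)) * (q (G k))⁻¹ = q (prod4 U (tv k (Pi.single j 1)))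
      rw [e, prod4_single, ← map_inv, ← map_mul, ← map_mul, hrel', mul_inv_cancel_right]
    have hadd : ∀ v w, tv k (v + w) = tv k v + tv k w := fun v w => by
      funext i; simp only [tv, Pi.add_apply]; ring
    rw [map_eq_prod4 a ha v, prod4_conj]
    simp only [hb]
    exact (map_eq_prod4 (fun x => a (tv k x)) (fun x y => by rw [hadd, ha]) v).symm
  all_goals simp only [← map_pow, ← map_mul]
  · rw [show G 0 ^ 5 = 1 from hinj (by
      rw [map_pow, hGM, ← mat4_pow hι, map_one]
      have := (hg 0).2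
      rw [if_pos rfl] at this
      rw [this, mat4_one]), map_one]
  · rw [show G 1 ^ 3 = 1 from hinj (by
      rw [map_pow, hGM, ← mat4_pow hι, map_one]
      have := (hg 1).2
      rw [if_neg (by decide)] at this
      rw [this, mat4_one]), map_one]
  · rw [show G 2 ^ 3 = 1 from hinj (by
      rw [map_pow, hGM, ← mat4_pow hι, map_one]
      have := (hg 2).2
      rw [if_neg (by decide)] at this
      rw [this, mat4_one]), map_one]
  · rw [show G 1 * G 2 = G 2 * G 1 from hinj (by
      rw [map_mul, map_mul, hGM, hGM, ← mat4_mul hι, ← mat4_mul hι]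
      exact congrArg (mat4 ι) hg12)]

end CfsgLib.LargeFischer
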