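import Cfsg.Agent.LargeFischer.RootGeom

/-!
# Root elements: classification, fixed spaces and moved lines
-/

set_option autoImplicit false
set_option maxHeartbeats 1000000

namespace CfsgLib.LargeFischer.RootGeom

open SplitGeom

/-- The small class, on coordinates. -/
def TypeA (c : ZMod 3) (v : Vec) : Prop :=
  (suppW v).card = 2 ∨ ((suppW v).card = 6 ∧ classW v = c)

/-- The multiple of the scalar vector. -/
def sc (s l : W) : W := (if s.1 = 1 then l else 0) + (if s.2 = 1 then rW l else 0)

/-- A vector on the first coordinate. -/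
def first (a : W) : Vec := ![a, 0, 0, 0, 0, 0]

theorem sel_ones_even : ∀ χ : Fin 6 → Bool, sel χ ones = 0 →
    (Finset.univ.filter fun i => χ i = true).card % 2 = 0 := by decide +kernel

theorem radical_pair : ∀ a b : W, (nz (a + (1, 0)) + nz a + nz (1, 0) + (nz (b + (1, 0)) + nz b + nz (1, 0)) = 0) →
    (nz (a + (0, 1)) + nz a + nz (0, 1) + (nz (b + (0, 1)) + nz b + nz (0, 1)) = 0) → a = b := by decide +kernel

theorem bil_pairV (d : Vec) {i : Fin 6} (hi : i ≠ 5) (u : W) : SplitGeom.bil d (pairV i 5 u) =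
    nz (d i + u) + nz (d i) + nz u + (nz (d 5 + u) + nz (d 5) + nz u) := by
  have e : ∀ j : Fin 6, nz (d j + 0) + nz (d j) + nz (0 : W) = 0 := fun j =>
    (by decide : ∀ a : W, nz (a + 0) + nz a + nz (0 : W) = 0) (d j)
  fin_cases i <;> simp [SplitGeom.bil, par, pairV, show nz (0 : W) = 0 from rfl] at hi ⊢ <;>
    (ring_nf; reduce_mod_char)

/-- The vectors orthogonal to all of sum zero are constant. -/
theorem const_of_orth {d : Vec} (h : ∀ v, sumW v = 0 → SplitGeom.bil d v = 0) : d = mult (d 5) := by
  funext i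
  show d i = d 5
  by_cases hi : i = 5
  · rw [hi]
  have hs : ∀ u, sumW (pairV i 5 u) = 0 := fun u => by
    fin_cases i <;> simp [sumW, pairV, add_self_W] at hi ⊢
  refine radical_pair _ _ ?_ ?_ <;> rw [← bil_pairV d hi] <;> exact h _ (hs _)

theorem ext_test : ∀ c : ZMod 3, c ≠ 0 → ∀ l : W, l ≠ 0 →
    (∃ a b : Fin 6, ∃ y : W, a ≠ b ∧ y ≠ 0 ∧
      ¬ TypeA c ((fun i => if i = a then (1, 0) else if i = b then y else 0) + mult (sc ((1, 0) + y) l))) ∧
    ∀ p q : Fin 6, p < q → ∃ a b : Fin 6, ∃ y : W, a ≠ b ∧ y ≠ 0 ∧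
      ¬ TypeA c (root c p q (fun i => if i = a then (1, 0) else if i = b then y else 0) + mult (sc ((1, 0) + y) l)) := by
  unfold TypeA
  decide +kernel

theorem two_points {a b : Fin 6} (hab : a ≠ b) (x y : W) :
    sumW (fun i => if i = a then x else if i = b then y else 0) = x + y := by
  rw [sumW_eq, Fintype.sum_eq_add a b hab fun i hi => by simp [hi.1, hi.2]]
  simp [Ne.symm hab]

theorem two_points_card {a b : Fin 6} (hab : a ≠ b) {x y : W} (hx : x ≠ 0) (hy : y ≠ 0) :
    (suppW fun i => if i = a then x else if i = b then y else 0).card = 2 := by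
  rw [suppW, show (Finset.univ.filter fun i => (if i = a then x else if i = b then y else 0) ≠ 0) = {a, b} by
    ext i; by_cases h1 : i = a <;> by_cases h2 : i = b <;> simp [h1, h2, hx, hy, Ne.symm hab]]
  exact Finset.card_pair hab

theorem key_bil : ∀ c : ZMod 3, c ≠ 0 → ∀ p q : Fin 6, p < q → ∀ i : Fin 6, i ≠ 5 →
    SplitGeom.bil (root c p q (first (1, 0))) (root c p q (pairV i 5 (1, 0))) =
        SplitGeom.bil (first (1, 0)) (pairV i 5 (1, 0)) ∧
      SplitGeom.bil (root c p q (first (1, 0))) (root c p q (pairV i 5 (0, 1))) =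
        SplitGeom.bil (first (1, 0)) (pairV i 5 (0, 1)) := by decide +kernel

/-- An element moving vectors of sum zero along the all-ones vector is the identity or a root element. -/
theorem classify {c : ZMod 3} (hc : c ≠ 0) (e : Vec ≃+ Vec) (hscal : ∀ v, e (scal v) = scal (e v))
    (hpar : ∀ v, par (e v) = par v) (hone : e ones = ones)
    (hA : ∀ v, (suppW v).card = 2 → TypeA c (e v))
    (hline : ∀ v, sumW v = 0 → ∃ l, e v + v = mult l) :
    (∀ v, e v = v) ∨ ∃ p q : Fin 6, p < q ∧ ∀ v, e v = root c p q v := by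
  classical
  set g : Vec → W := fun v => (e v + v) 0 with hg
  have hgl : ∀ v, sumW v = 0 → e v = v + mult (g v) := fun v hv => by
    obtain ⟨l, hl⟩ := hline v hv
    rw [show g v = l from congrFun hl 0, ← hl, add_comm (e v) v, ← add_assoc, add_self_vec, zero_add]
  have hgadd : ∀ u v, g (u + v) = g u + g v := fun u v => by
    simp only [hg, map_add, Pi.add_apply]; abel
  have hgscal : ∀ v, g (scal v) = rW (g v) := fun v => by
    simp only [hg, Pi.add_apply, hscal, scal, map_add]
  have hrk : ∀ (k : ZMod 3) (a : W), rk k (rW a) = rW (rk k a) := by decide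
  have hrk0 : ∀ k : ZMod 3, rk k 0 = 0 := by decide
  set χ : Fin 6 → Bool := fun i => decide (i ≠ 5 ∧ g (pairV i 5 (1, 0)) ≠ 0) with hχ
  have hsum5 : ∀ (i : Fin 6) (a : W), i ≠ 5 → sumW (pairV i 5 a) = 0 := fun i a hi => by
    fin_cases i <;> simp [sumW, pairV, add_self_W] at hi ⊢
  have hgp : ∀ i : Fin 6, i ≠ 5 → ∀ a : W, g (pairV i 5 a) = rk (-c) (if χ i then a else 0) := by
    intro i hi
    have h1 : g (pairV i 5 (1, 0)) = rk (-c) (if χ i then (1, 0) else 0) := by
      have h := hA (pairV i 5 (1, 0)) (by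
        rw [suppW, show (Finset.univ.filter fun j => pairV i 5 (1, 0) j ≠ 0) = {i, 5} by
          ext j; simp [pairV]; tauto]
        exact Finset.card_pair hi)
      rw [hgl _ (hsum5 i _ hi)] at h
      rcases value_cases c hc i 5 hi _ h with h' | h' <;> simp [hχ, hi, h', hrk0]
      rw [if_neg ((by decide : ∀ k : ZMod 3, rk k (((1 : ZMod 2), (0 : ZMod 2)) : W) ≠ 0) _)]
    intro a
    have hω : g (pairV i 5 (rW (1, 0))) = rk (-c) (if χ i then rW (1, 0) else 0) := by
      rw [← scal_pairV, hgscal, h1, ← hrk]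
      congr 1; split_ifs <;> simp
    rcases W_span (1, 0) (by decide) a with rfl | rfl | rfl | rfl
    · have h0 := hgadd 0 0
      rw [add_zero, add_self_W] at h0
      rw [show pairV i 5 0 = 0 from funext fun j => by simp [pairV], h0, ite_self, hrk0]
    · exact h1
    · exact hω
    · rw [← scal_pairV, hgscal, hω, ← hrk]
      congr 1; split_ifs <;> simp
  let G : Vec →+ W := AddMonoidHom.mk' g hgadd
  have hgsel : ∀ v, sumW v = 0 → g v = rk (-c) (sel χ v) := by
    intro v hv
    have hdec : v = ∑ i ∈ Finset.univ.erase 5, pairV i 5 (v i) := by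
      funext j
      rw [Finset.sum_apply]
      by_cases hj : j = 5
      · subst hj
        have h1 := Finset.add_sum_erase Finset.univ v (Finset.mem_univ 5)
        rw [← sumW_eq, hv] at h1
        simp only [pairV, or_true, if_true]
        exact ((by decide : ∀ a b : W, a + b = 0 → b = a) _ _ h1).symm
      · rw [Finset.sum_eq_single j]
        · simp [pairV]
        · intro r _ hr
          simp [pairV, hj, Ne.symm hr]
        · simp [hj]
    let R : W →+ W := AddMonoidHom.mk' (rk (-c)) (rk_map_add _)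
    conv_lhs => rw [hdec]
    show G _ = R _
    rw [map_sum, sel, map_sum, ← Finset.add_sum_erase Finset.univ _ (Finset.mem_univ 5)]
    rw [show χ 5 = false by simp [hχ], if_neg (by simp), map_zero, zero_add]
    exact Finset.sum_congr rfl fun i hi => hgp i (Finset.ne_of_mem_erase hi) (v i)
  have hev := sel_ones_even χ (by
    have h := hgsel ones (by decide)
    simp only [hg, hone, add_self_vec, Pi.zero_apply] at h
    exact (by decide : ∀ (k : ZMod 3) (a : W), 0 = rk k a → a = 0) _ _ h)
  -- the candidate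
  obtain ⟨r, hradd, hrscal, hr0, hrinv, hkey⟩ : ∃ r : Vec → Vec, (∀ u v, r (u + v) = r u + r v) ∧
      (∀ v, r (scal v) = scal (r v)) ∧ (∀ v, sumW v = 0 → e v = r v) ∧
      (∀ v, sumW v = 0 → sumW (r v) = 0 ∧ r (r v) = v) ∧
      ((∀ i : Fin 6, i ≠ 5 → SplitGeom.bil (r (first (1, 0))) (r (pairV i 5 (1, 0))) = SplitGeom.bil (first (1, 0)) (pairV i 5 (1, 0)) ∧
          SplitGeom.bil (r (first (1, 0))) (r (pairV i 5 (0, 1))) = SplitGeom.bil (first (1, 0)) (pairV i 5 (0, 1))) ∧
        ((r = id) ∨ ∃ p q : Fin 6, p < q ∧ r = root c p q)) := by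
    rcases sel_cases hev with h | ⟨p, q, hpq, h⟩
    · refine ⟨id, fun _ _ => rfl, fun _ => rfl, fun v hv => ?_, fun v hv => ⟨hv, rfl⟩, fun i _ => ⟨rfl, rfl⟩, Or.inl rfl⟩
      rw [hgl v hv, hgsel v hv, h v hv, hrk0]
      exact add_zero v
    · refine ⟨root c p q, root_add c p q, fun v => ?_, fun v hv => ?_, fun v hv => ?_, ?_, Or.inr ⟨p, q, hpq, rfl⟩⟩
      · have hs : sumW (scal v) = rW (sumW v) := by simp [sumW, scal, map_add]
        funext i
        simp only [root, hs, scal]
        simp only [← map_add, hrk]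
        split_ifs <;> simp [map_add]
      · rw [hgl v hv, hgsel v hv, h v hv]
        funext i
        simp [root, mult, hv, hrk0]
      · have h1 : root c p q v = v + mult (rk (-c) (v p + v q)) := by
          funext i; simp [root, mult, hv, hrk0]
        have h2 : sumW (root c p q v) = 0 := by
          rw [h1, sumW_add, hv, zero_add]
          simp [sumW, mult, add_self_W]
        refine ⟨h2, ?_⟩
        have hm : ∀ k, root c p q (mult k) = mult k := fun k =>
          (root_fix_iff hpq.ne _).2 ⟨by simp [sumW, mult, add_self_W], rfl⟩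
        rw [h1, root_add, hm, h1, add_assoc, add_self_vec, add_zero]
      · exact key_bil c hc p q hpq
  obtain ⟨hkey, hr⟩ := hkey
  set d := e (first (1, 0)) + r (first (1, 0)) with hd
  have hbil : ∀ u v, SplitGeom.bil (e u) (e v) = SplitGeom.bil u v := fun u v => by simp [SplitGeom.bil, ← map_add, hpar]
  have hbadd : ∀ u v w, SplitGeom.bil (u + v) w = SplitGeom.bil u w + SplitGeom.bil v w := fun u v w => by
    rw [SplitGeom.bil_comm, SplitGeom.bil_add, SplitGeom.bil_comm w, SplitGeom.bil_comm w]
  have horth : ∀ v, sumW v = 0 → SplitGeom.bil d v = 0 := by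
    have h0 : ∀ i : Fin 6, i ≠ 5 → ∀ a, SplitGeom.bil d (r (pairV i 5 a)) = 0 := by
      intro i hi
      have h1 : ∀ a, SplitGeom.bil (r (first (1, 0))) (r (pairV i 5 a)) = SplitGeom.bil (first (1, 0)) (pairV i 5 a) →
          SplitGeom.bil d (r (pairV i 5 a)) = 0 := fun a ha => by
        rw [hd, hbadd, ← hr0 _ (hsum5 i a hi), hbil, hr0 _ (hsum5 i a hi), ha]
        exact (by decide : ∀ b : ZMod 2, b + b = 0) _
      have e1 := h1 _ (hkey i hi).1
      have e2 := h1 _ (hkey i hi).2
      intro a
      rcases W_span (1, 0) (by decide) a with rfl | rfl | rfl | rfl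
      · rw [← add_self_W (1, 0), pairV_add, hradd, SplitGeom.bil_add, e1]; rfl
      · exact e1
      · exact e2
      · rw [show rW (rW ((1, 0) : W)) = (1, 0) + (0, 1) from rfl, pairV_add, hradd, SplitGeom.bil_add, e1, e2]; rfl
    intro v hv
    obtain ⟨hv', hvv⟩ := hrinv v hv
    rw [← hvv]
    generalize r v = u at hv' ⊢
    have hdec : u = pairV 0 5 (u 0) + pairV 1 5 (u 1) + pairV 2 5 (u 2) + pairV 3 5 (u 3) + pairV 4 5 (u 4) := by
      funext j
      fin_cases j <;> simp [pairV]
      exact (by decide : ∀ a b : W, a + b = 0 → b = a) _ _ hv'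
    rw [hdec]
    simp only [hradd, SplitGeom.bil_add, h0 0 (by decide), h0 1 (by decide), h0 2 (by decide), h0 3 (by decide),
      h0 4 (by decide), add_zero]
  have hdm := const_of_orth horth
  have hsc : ∀ (s : W), e (first s) + r (first s) = mult (sc s (d 5)) := by
    intro s
    have hr00 : r 0 = 0 := by have h := hradd 0 0; rwa [add_zero, eq_comm, add_eq_left] at h
    have hω : e (first (0, 1)) + r (first (0, 1)) = mult (rW (d 5)) := by
      rw [show first (0, 1) = scal (first (1, 0)) by decide, hscal, hrscal]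
      funext i
      have := congrFun hdm i
      simp only [hd, Pi.add_apply, scal, mult, ← map_add] at this ⊢
      rw [this]
    rcases (by decide : ∀ s : W, s = 0 ∨ s = (1, 0) ∨ s = (0, 1) ∨ s = (1, 0) + (0, 1)) s with rfl | rfl | rfl | rfl
    · rw [show first 0 = 0 by decide, map_zero, hr00, add_zero]
      funext i; simp [mult, sc]
    · rw [← hd, hdm]
      funext i; simp [mult, sc]
    · rw [hω]; funext i; simp [mult, sc]
    · rw [show first ((1, 0) + (0, 1)) = first (1, 0) + first (0, 1) by decide, map_add, hradd, add_add_add_comm,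
        ← hd, hω, hdm]
      funext i; simp [mult, sc, show ((1, 0) + (0, 1) : W) = (1, 1) from rfl]
  have hform : ∀ v, e v = r v + mult (sc (sumW v) (d 5)) := by
    intro v
    have h0 : sumW (v + first (sumW v)) = 0 := by
      rw [sumW_add, show sumW (first (sumW v)) = sumW v by simp [sumW, first], add_self_W]
    have h1 := hr0 _ h0
    rw [map_add, hradd] at h1
    rw [← hsc (sumW v)]
    calc e v = e v + e (first (sumW v)) + e (first (sumW v)) := by rw [add_assoc, add_self_vec, add_zero]
      _ = _ := by rw [h1]; abel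
  have hl : d 5 = 0 := by
    by_contra hl
    obtain ⟨ht1, ht2⟩ := ext_test c hc (d 5) hl
    have fin : ∀ {a b : Fin 6} {y : W}, a ≠ b → y ≠ 0 →
        ¬ TypeA c (r (fun i => if i = a then (1, 0) else if i = b then y else 0) + mult (sc ((1, 0) + y) (d 5))) →
        False := fun {a b y} hab hy hnot => hnot (by
      have h := hA _ (two_points_card hab (x := (1, 0)) (by decide) hy)
      rwa [hform, two_points hab] at h)
    rcases hr with rfl | ⟨p, q, hpq, rfl⟩
    · obtain ⟨a, b, y, hab, hy, h⟩ := ht1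
      exact fin hab hy h
    · obtain ⟨a, b, y, hab, hy, h⟩ := ht2 p q hpq
      exact fin hab hy h
  have hfin : ∀ v, e v = r v := fun v => by
    rw [hform v, hl]
    funext i; simp [mult, sc]
  rcases hr with rfl | ⟨p, q, hpq, rfl⟩
  exacts [Or.inl hfin, Or.inr ⟨p, q, hpq, hfin⟩]

end CfsgLib.LargeFischer.RootGeom
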