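import Cfsg.Agent.LargeFischer.SplitFrame

/-!
# The root elements at the all-ones vector

The elementary group of order sixteen at the all-ones vector consists of the maps `root c p q`, one for each
pair of coordinates.
-/

set_option autoImplicit false
set_option maxHeartbeats 1000000

namespace CfsgLib.LargeFischer.RootGeom

open SplitGeom

/-- The sum of the coordinates. -/
def sumW (v : Vec) : W := v 0 + v 1 + v 2 + v 3 + v 4 + v 5

theorem sumW_eq (v : Vec) : sumW v = ∑ i, v i := by rw [Fin.sum_univ_six]; rfl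

theorem sumW_add (u v : Vec) : sumW (u + v) = sumW u + sumW v := by simp [sumW]; abel

/-- A vector on a pair. -/
def pairV (p q : Fin 6) (a : W) : Vec := fun i => if i = p ∨ i = q then a else 0

theorem pairV_add (p q : Fin 6) (a b : W) : pairV p q (a + b) = pairV p q a + pairV p q b := by
  funext i; simp only [pairV, Pi.add_apply]; split_ifs <;> simp

theorem scal_pairV (p q : Fin 6) (a : W) : scal (pairV p q a) = pairV p q (rW a) := by
  funext i; simp only [scal, pairV]; split_ifs <;> simp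

theorem W_span : ∀ a : W, a ≠ 0 → ∀ b : W, b = 0 ∨ b = a ∨ b = rW a ∨ b = rW (rW a) := by decide

theorem exists_others : ∀ x q r : Fin 6, x ≠ q → x ≠ r → q ≠ r →
    ∃ s t : Fin 6, s ≠ t ∧ s ≠ x ∧ s ≠ q ∧ s ≠ r ∧ t ≠ x ∧ t ≠ q ∧ t ≠ r := by decide +kernel

theorem swap_swap_mem {a b c d : Fin 6} (h1 : a ≠ b) (h2 : c ≠ d) :
    Equiv.swap a b * Equiv.swap c d ∈ alternatingGroup (Fin 6) := by
  simp [Equiv.Perm.mem_alternatingGroup, Equiv.Perm.sign_swap h1, Equiv.Perm.sign_swap h2]

theorem four_quads {v : Vec} (hsum : sumW v = 0) (hne : ∃ i j, v i ≠ v j) :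
    v 0 + v 1 ≠ v 2 + v 3 ∨ v 0 + v 1 ≠ v 4 + v 5 ∨ v 0 + v 2 ≠ v 1 + v 4 ∨ v 0 + v 2 ≠ v 3 + v 5 := by
  by_contra h
  push Not at h
  obtain ⟨h1, h2, h3, h4⟩ := h
  have e1 : v 0 + v 1 = 0 := by
    have : sumW v = (v 0 + v 1) + (v 2 + v 3) + (v 4 + v 5) := by simp only [sumW]; abel
    rwa [← h1, ← h2, hsum, add_self_W, zero_add, eq_comm] at this
  have e2 : v 0 + v 2 = 0 := by
    have : sumW v = (v 0 + v 2) + (v 1 + v 4) + (v 3 + v 5) := by simp only [sumW]; abel
    rwa [← h3, ← h4, hsum, add_self_W, zero_add, eq_comm] at this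
  have key : ∀ a b : W, a + b = 0 → b = a := by decide
  obtain ⟨i, j, hij⟩ := hne
  have d1 := key _ _ e1
  have d2 := key _ _ e2
  have d3 := key _ _ (h1 ▸ e1)
  have d4 := key _ _ (h3 ▸ e2)
  have d5 := key _ _ (h2 ▸ e1)
  have hall : ∀ k, v k = v 0 := by
    intro k
    fin_cases k
    exacts [rfl, d1, d2, d3.trans d2, d4.trans d1, d5.trans (d4.trans d1)]
  exact hij ((hall i).trans (hall j).symm)

/-- An invariant subgroup with a non-constant vector of sum zero contains all of them. -/
theorem sumZero_mem {S : AddSubgroup Vec}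
    (hperm : ∀ π ∈ alternatingGroup (Fin 6), ∀ v ∈ S, (fun i => v (π i)) ∈ S)
    (hscal : ∀ v ∈ S, scal v ∈ S) {v : Vec} (hv : v ∈ S) (hsum : sumW v = 0) (hne : ∃ i j, v i ≠ v j)
    {u : Vec} (hu : sumW u = 0) : u ∈ S := by
  have hz : ∀ a b : W, a ≠ b → a + b ≠ 0 := by decide
  obtain ⟨x, q, a, hxq, ha, hmem⟩ : ∃ x q : Fin 6, ∃ a : W, x ≠ q ∧ a ≠ 0 ∧ pairV x q a ∈ S := by
    have step : ∀ i j k l m n : Fin 6, ([i, j, k, l, m, n] : List (Fin 6)).Nodup →
        v i + v j ≠ v k + v l → ∃ x q : Fin 6, ∃ a : W, x ≠ q ∧ a ≠ 0 ∧ pairV x q a ∈ S := by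
      intro i j k l m n hd hne'
      simp only [List.nodup_cons, List.mem_cons, List.not_mem_nil, or_false, not_or, List.nodup_nil,
        and_true, not_false_eq_true] at hd
      obtain ⟨⟨hij, hik, hil, him, hin⟩, ⟨hjk, hjl, hjm, hjn⟩, ⟨hkl, hkm, hkn⟩, ⟨hlm, hln⟩, hmn⟩ := hd
      set σ₁ := Equiv.swap i j * Equiv.swap k l
      set σ₂ := Equiv.swap i k * Equiv.swap m n
      have hw : (fun t => v t + v (σ₁ t)) ∈ S := S.add_mem hv (hperm σ₁ (swap_swap_mem hij hkl) v hv)
      have hw2 := S.add_mem hw (hperm σ₂ (swap_swap_mem hik hmn) _ hw)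
      refine ⟨i, k, v i + v j + (v k + v l), hik, hz _ _ hne', ?_⟩
      refine Eq.mp (congrArg (· ∈ S) (funext fun t => ?_)) hw2
      have ht : t = i ∨ t = j ∨ t = k ∨ t = l ∨ t = m ∨ t = n := by
        by_contra h
        push Not at h
        obtain ⟨h1, h2, h3, h4, h5, h6⟩ := h
        have hsix : ([t, i, j, k, l, m, n] : List (Fin 6)).Nodup := by
          simp only [List.nodup_cons, List.mem_cons, List.not_mem_nil, or_false, not_or, List.nodup_nil,
            and_true, not_false_eq_true]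
          exact ⟨⟨h1, h2, h3, h4, h5, h6⟩, ⟨hij, hik, hil, him, hin⟩, ⟨hjk, hjl, hjm, hjn⟩,
            ⟨hkl, hkm, hkn⟩, ⟨hlm, hln⟩, hmn⟩
        simpa using List.Nodup.length_le_card hsix
      simp only [σ₁, σ₂, pairV, Pi.add_apply, Equiv.Perm.mul_apply, Equiv.swap_apply_def]
      rcases ht with rfl | rfl | rfl | rfl | rfl | rfl <;>
        simp [hij, hik, hil, him, hin, hjk, hjl, hjm, hjn, hkl, hkm, hkn, hlm, hln, hmn, Ne.symm hij, Ne.symm hik,
          Ne.symm hil, Ne.symm him, Ne.symm hin, Ne.symm hjk, Ne.symm hjl, Ne.symm hjm, Ne.symm hjn, Ne.symm hkl, Ne.symm hkm, Ne.symm hkn,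
          Ne.symm hlm, Ne.symm hln, Ne.symm hmn, add_self_W] <;> abel
    rcases four_quads hsum hne with h | h | h | h
    exacts [step 0 1 2 3 4 5 (by decide) h, step 0 1 4 5 2 3 (by decide) h, step 0 2 1 4 3 5 (by decide) h,
      step 0 2 3 5 1 4 (by decide) h]
  have hall : ∀ r : Fin 6, r ≠ x → ∀ b : W, pairV x r b ∈ S := by
    intro r hr b
    have h0 : pairV x r a ∈ S := by
      by_cases hrq : r = q
      · rwa [hrq]
      obtain ⟨s, t, hst, hsx, hsq, hsr, htx, htq, htr⟩ := exists_others x q r hxq (Ne.symm hr) (Ne.symm hrq)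
      refine Eq.mp (congrArg (· ∈ S) (funext fun i => ?_))
        (hperm _ (swap_swap_mem (a := q) (b := r) (c := s) (d := t) (Ne.symm hrq) hst) _ hmem)
      simp only [pairV, Equiv.Perm.mul_apply, Equiv.swap_apply_def]
      split_ifs <;> first | rfl | grind
    rcases W_span a ha b with rfl | rfl | rfl | rfl
    · exact Eq.mp (congrArg (· ∈ S) (funext fun i => by simp [pairV])) S.zero_mem
    · exact h0
    · rw [← scal_pairV]; exact hscal _ h0
    · rw [← scal_pairV, ← scal_pairV]; exact hscal _ (hscal _ h0)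
  have hu' : u = ∑ r ∈ Finset.univ.erase x, pairV x r (u r) := by
    funext i
    rw [Finset.sum_apply]
    by_cases hi : i = x
    · subst hi
      have h1 := Finset.add_sum_erase Finset.univ u (Finset.mem_univ i)
      rw [← sumW_eq, hu] at h1
      simp only [pairV, true_or, if_true]
      exact ((by decide : ∀ a b : W, a + b = 0 → b = a) _ _ h1).symm
    · rw [Finset.sum_eq_single i]
      · simp [pairV]
      · intro r _ hr
        simp [pairV, hi, Ne.symm hr]
      · simp [hi]
  rw [hu']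
  exact sum_mem fun r hr => hall r (Finset.ne_of_mem_erase hr) _

/-- The root element of a pair. -/
def root (c : ZMod 3) (p q : Fin 6) (v : Vec) : Vec := fun i =>
  v i + rk (-c) (v p + v q) + (if i = p ∨ i = q then rk c (sumW v) else 0) + sumW v

theorem root_symm (c : ZMod 3) (p q : Fin 6) : root c p q = root c q p := by
  funext v i
  simp only [root, add_comm (v p), or_comm]

theorem rk_map_add : ∀ (k : ZMod 3) (a b : W), rk k (a + b) = rk k a + rk k b := by decide

theorem root_add (c : ZMod 3) (p q : Fin 6) (u v : Vec) : root c p q (u + v) = root c p q u + root c p q v := by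
  funext i
  simp only [root, Pi.add_apply, sumW_add, rk_map_add, add_add_add_comm (u p)]
  split_ifs <;> abel

theorem root_fix_iff {c : ZMod 3} {p q : Fin 6} (hpq : p ≠ q) (v : Vec) :
    root c p q v = v ↔ sumW v = 0 ∧ v p = v q := by
  have key : ∀ (k : ZMod 3) (a : W), rk k a = 0 ↔ a = 0 := by decide
  constructor
  · intro h
    obtain ⟨r, hrp, hrq⟩ := (by decide : ∀ p q : Fin 6, ∃ r, r ≠ p ∧ r ≠ q) p q
    have h1 := congrFun h r
    have h2 := congrFun h p
    simp only [root, hrp, hrq, or_self, if_false, add_zero, true_or, if_true] at h1 h2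
    have key3 : ∀ b x y s : W, b + x + y + s = b → x + s = 0 → y = 0 := by decide
    have hx : rk (-c) (v p + v q) + sumW v = 0 := by
      revert h1; generalize rk (-c) (v p + v q) = x, sumW v = s, v r = a; revert x s a; decide
    have hs : rk c (sumW v) = 0 := key3 _ _ _ _ h2 hx
    have hs' := (key _ _).1 hs
    refine ⟨hs', ?_⟩
    rw [hs', add_zero, key] at hx
    exact (by decide : ∀ a b : W, a + b = 0 → a = b) _ _ hx
  · rintro ⟨hs, he⟩
    funext i
    simp only [root, hs, he, add_self_W, (key _ _).2 rfl, ite_self, add_zero]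

/-- Multiples of the all-ones vector. -/
def mult (a : W) : Vec := fun _ => a

theorem value_cases : ∀ c : ZMod 3, c ≠ 0 → ∀ p q : Fin 6, p ≠ q → ∀ l : W,
    (suppW (pairV p q (1, 0) + mult l)).card = 2 ∨
      ((suppW (pairV p q (1, 0) + mult l)).card = 6 ∧ classW (pairV p q (1, 0) + mult l) = c) →
    l = 0 ∨ l = rk (-c) (1, 0) := by decide +kernel

/-- The selected sum. -/
def sel (χ : Fin 6 → Bool) (v : Vec) : W := ∑ i, if χ i then v i else 0

theorem chi_cases : ∀ χ : Fin 6 → Bool, (Finset.univ.filter fun i => χ i = true).card % 2 = 0 →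
    (∀ i, χ i = χ 0) ∨ ∃ p q : Fin 6, p < q ∧
      ((∀ i, χ i = decide (i = p ∨ i = q)) ∨ ∀ i, χ i = !decide (i = p ∨ i = q)) := by decide +kernel

theorem sel_cases {χ : Fin 6 → Bool} (h : (Finset.univ.filter fun i => χ i = true).card % 2 = 0) :
    (∀ v, sumW v = 0 → sel χ v = 0) ∨ ∃ p q : Fin 6, p < q ∧ ∀ v, sumW v = 0 → sel χ v = v p + v q := by
  rcases chi_cases χ h with h' | ⟨p, q, hpq, h'⟩
  · refine Or.inl fun v hv => ?_
    rw [sumW_eq] at hv
    cases h0 : χ 0 <;> simp [sel, fun i => (h' i).trans h0, hv]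
  · refine Or.inr ⟨p, q, hpq, fun v hv => ?_⟩
    have hpair : ∑ i, (if i = p ∨ i = q then v i else 0) = v p + v q := by
      rw [← Finset.sum_filter, show (Finset.univ.filter fun i => i = p ∨ i = q) = {p, q} by ext; simp,
        Finset.sum_pair hpq.ne]
    rw [sumW_eq] at hv
    rcases h' with h' | h'
    · simp only [sel, h', decide_eq_true_eq]; exact hpair
    · have : sel χ v + ∑ i, (if i = p ∨ i = q then v i else 0) = 0 := by
        refine (Finset.sum_add_distrib).symm.trans ((Finset.sum_congr rfl fun i _ => ?_).trans hv)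
        by_cases hi : i = p ∨ i = q <;> simp [h', hi]
      rw [hpair] at this
      exact (by decide : ∀ a b : W, a + b = 0 → a = b) _ _ this

end CfsgLib.LargeFischer.RootGeom
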