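import Cfsg.Agent.LargeFischer.RootFacts

/-!
# Fixed spaces of sets of root elements, matchings and moved lines
-/

set_option autoImplicit false
set_option maxHeartbeats 1000000

namespace CfsgLib.LargeFischer.RootGeom

open SplitGeom

/-- A bit of a number. -/
def bit (n : ℕ) (i : Fin 6) : ℕ := n / 2 ^ i.val % 2

/-- The even numbers. -/
def evens : List ℕ :=
  [0, 3, 5, 6, 9, 10, 12, 15, 17, 18, 20, 23, 24, 27, 29, 30, 33, 34, 36, 39, 40, 43, 45, 46, 48, 51, 53, 54,
    57, 58, 60, 63]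

theorem evens_spec : ∀ n : Fin 64, (bit n 0 + bit n 1 + bit n 2 + bit n 3 + bit n 4 + bit n 5) % 2 = 0 →
    n.val ∈ evens := by decide +kernel

/-- Whether a number solves a list of equations. -/
def ok (n : ℕ) (l : List (Fin 6 × Fin 6)) : Bool := l.all fun pq => Nat.beq (bit n pq.1) (bit n pq.2)

/-- The binary solutions of a list of equations, as numbers. -/
def sols (l : List (Fin 6 × Fin 6)) : Finset ℕ := (evens.filter fun n => ok n l).toFinset

/-- Their number, with repetitions allowed. -/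
def cnt (l : List (Fin 6 × Fin 6)) : ℕ := evens.countP fun n => ok n l

theorem sols_le {l : List (Fin 6 × Fin 6)} {k : ℕ} (h : Nat.ble (cnt l) k = true) : (sols l).card ≤ k := by
  refine le_trans (List.toFinset_card_le _) ?_
  rw [← List.countP_eq_length_filter]
  exact Nat.le_of_ble_eq_true h

/-- The number of a binary vector. -/
def code (k : Fin 6 → ZMod 2) : ℕ :=
  (k 0).val + 2 * (k 1).val + 4 * (k 2).val + 8 * (k 3).val + 16 * (k 4).val + 32 * (k 5).val

theorem code_spec (k : Fin 6 → ZMod 2) : code k < 64 ∧ ∀ i, bit (code k) i = (k i).val := by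
  have h : ∀ i, (k i).val < 2 := fun i => ZMod.val_lt (k i)
  have := h 0; have := h 1; have := h 2; have := h 3; have := h 4; have := h 5
  refine ⟨by unfold code; omega, fun i => ?_⟩
  fin_cases i <;> simp [bit, code] <;> omega

theorem code_inj {k k' : Fin 6 → ZMod 2} (h : code k = code k') : k = k' :=
  funext fun i => ZMod.val_injective 2 (by rw [← (code_spec k).2, ← (code_spec k').2, h])

theorem comp_mem {l : List (Fin 6 × Fin 6)} {v : Vec} (hs : sumW v = 0) (he : ∀ pq ∈ l, v pq.1 = v pq.2) :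
    code (fun i => (v i).1) ∈ sols l ∧ code (fun i => (v i).2) ∈ sols l := by
  have key : ∀ a b c d e f : ZMod 2, a + b + c + d + e + f = 0 →
      (a.val + b.val + c.val + d.val + e.val + f.val) % 2 = 0 := by decide
  have mk : ∀ k : Fin 6 → ZMod 2, k 0 + k 1 + k 2 + k 3 + k 4 + k 5 = 0 → (∀ pq ∈ l, k pq.1 = k pq.2) →
      code k ∈ sols l := fun k h1 h2 => by
    simp only [sols, List.mem_toFinset, List.mem_filter, ok, List.all_eq_true]
    refine ⟨evens_spec ⟨code k, (code_spec k).1⟩ ?_, fun pq h => ?_⟩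
    · simp only [(code_spec k).2]; exact key _ _ _ _ _ _ h1
    · simp [(code_spec k).2, h2 pq h]
  refine ⟨mk _ ?_ fun pq h => by rw [he pq h], mk _ ?_ fun pq h => by rw [he pq h]⟩
  · simpa [sumW] using congrArg Prod.fst hs
  · simpa [sumW] using congrArg Prod.snd hs

theorem card_fix_le {S : Type*} [Finite S] (f : S → Vec) (hf : Function.Injective f) (l : List (Fin 6 × Fin 6))
    (hs : ∀ s, sumW (f s) = 0) (he : ∀ s, ∀ pq ∈ l, f s pq.1 = f s pq.2) :
    Nat.card S ≤ (sols l).card * (sols l).card := by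
  have h := Nat.card_le_card_of_injective
    (fun s => ((⟨code fun i => (f s i).1, (comp_mem (hs s) (he s)).1⟩ : sols l),
      (⟨code fun i => (f s i).2, (comp_mem (hs s) (he s)).2⟩ : sols l))) fun s t hst => hf (funext fun i => by
    simp only [Prod.mk.injEq, Subtype.mk.injEq] at hst
    exact Prod.ext (congrFun (code_inj hst.1) i) (congrFun (code_inj hst.2) i))
  simpa [Nat.card_prod] using h

theorem cnt_one : ∀ p q : Fin 6, p < q → Nat.ble (cnt [(p, q)]) 16 = true := by decide +kernel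

theorem sols_one {p q : Fin 6} (h : p < q) : (sols [(p, q)]).card ≤ 16 := sols_le (cnt_one p q h)

theorem cnt_two : ∀ p q : Fin 6, p < q → ∀ p' q' : Fin 6, p' < q' → (p, q) ≠ (p', q') →
    Nat.ble (cnt [(p, q), (p', q')]) 8 = true := by decide +kernel

theorem sols_two {p q p' q' : Fin 6} (h : p < q) (h' : p' < q') (hne : (p, q) ≠ (p', q')) :
    (sols [(p, q), (p', q')]).card ≤ 8 := sols_le (cnt_two p q h p' q' h' hne)

/-- Whether the six coordinates add to zero on all even numbers. -/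
def dep (p q p' q' s t : Fin 6) : Bool :=
  evens.all fun n => Nat.beq ((bit n p + bit n q + bit n p' + bit n q' + bit n s + bit n t) % 2) 0

/-- The dichotomy for three pairs. -/
def threeOK (p q p' q' : Fin 6) : Bool :=
  ([0, 1, 2, 3, 4, 5] : List (Fin 6)).all fun s => ([0, 1, 2, 3, 4, 5] : List (Fin 6)).all fun t =>
    Nat.ble t.val s.val || (decide (s = p ∧ t = q) || decide (s = p' ∧ t = q')) ||
      Nat.ble (cnt [(p, q), (p', q'), (s, t)]) 4 || dep p q p' q' s t

theorem three_check : ∀ p q : Fin 6, p < q → ∀ p' q' : Fin 6, p' < q' → (p, q) ≠ (p', q') →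
    threeOK p q p' q' = true := by decide +kernel

theorem sols_three {p q p' q' s t : Fin 6} (h : p < q) (h' : p' < q') (hst : s < t) (hne : (p, q) ≠ (p', q'))
    (hne₁ : (p, q) ≠ (s, t)) (hne₂ : (p', q') ≠ (s, t)) :
    (sols [(p, q), (p', q'), (s, t)]).card ≤ 4 ∨
      ∀ k ∈ sols [], (bit k p + bit k q + bit k p' + bit k q' + bit k s + bit k t) % 2 = 0 := by
  have H := three_check p q h p' q' h' hne
  have hall : ∀ x : Fin 6, x ∈ ([0, 1, 2, 3, 4, 5] : List (Fin 6)) := by decide
  simp only [threeOK, List.all_eq_true, Bool.or_eq_true, decide_eq_true_eq] at H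
  rcases H s (hall s) t (hall t) with (((e | (⟨rfl, rfl⟩ | ⟨rfl, rfl⟩)) | e) | e)
  · exact absurd (Nat.le_of_ble_eq_true e) (not_le.2 hst)
  · exact absurd rfl hne₁
  · exact absurd rfl hne₂
  · exact Or.inl (sols_le e)
  · refine Or.inr fun k hk => ?_
    simp only [dep, List.all_eq_true] at e
    exact Nat.eq_of_beq_eq_true (e k (List.mem_filter.1 (List.mem_toFinset.1 hk)).1)

theorem sols_all : (sols [(0, 5), (1, 5), (2, 5), (3, 5), (4, 5)]).card ≤ 2 := sols_le (by decide +kernel)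

theorem six_zero {p q p' q' s t : Fin 6}
    (h : ∀ k ∈ sols [], (bit k p + bit k q + bit k p' + bit k q' + bit k s + bit k t) % 2 = 0) {v : Vec}
    (hv : sumW v = 0) : v p + v q + v p' + v q' + v s + v t = 0 := by
  have key : ∀ a b c d e f : ZMod 2, (a.val + b.val + c.val + d.val + e.val + f.val) % 2 = 0 →
      a + b + c + d + e + f = 0 := by decide
  obtain ⟨h1, h2⟩ := comp_mem (l := []) hv (by simp)
  have g1 := h _ h1
  have g2 := h _ h2
  simp only [(code_spec _).2] at g1 g2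
  exact Prod.ext (key _ _ _ _ _ _ g1) (key _ _ _ _ _ _ g2)

/-- The matchings. -/
def matching : Fin 15 → Fin 6 → Fin 6 :=
  ![![1, 0, 3, 2, 5, 4], ![1, 0, 4, 5, 2, 3], ![1, 0, 5, 4, 3, 2], ![2, 3, 0, 1, 5, 4], ![2, 4, 0, 5, 1, 3],
   ![2, 5, 0, 4, 3, 1], ![3, 2, 1, 0, 5, 4], ![3, 4, 5, 0, 1, 2], ![3, 5, 4, 0, 2, 1], ![4, 2, 1, 5, 0, 3],
   ![4, 3, 5, 1, 0, 2], ![4, 5, 3, 2, 0, 1], ![5, 2, 1, 4, 3, 0], ![5, 3, 4, 1, 2, 0], ![5, 4, 3, 2, 1, 0]]

theorem matching_facts : ∀ m i, matching m (matching m i) = i ∧ matching m i ≠ i := by decide +kernel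

/-- A non-singular vector for two pairs with a common coordinate. -/
def witness (p q r s : Fin 6) : Vec := fun i =>
  if i = p ∨ i = q ∨ i = r ∨ i = s then 0 else
    ![(1, 0), (0, 1), (1, 1), 0, 0, 0] (Fin.ofNat 6
      (([0, 1, 2, 3, 4, 5] : List (Fin 6)).countP fun j =>
        decide (j < i) && !decide (j = p ∨ j = q ∨ j = r ∨ j = s)))

theorem pairs_cases : ∀ p q r s : Fin 6, p < q → r < s → (p, q) ≠ (r, s) →
    (∃ m, matching m p = q ∧ matching m r = s ∧ ∀ n ∈ sols [(p, q), (r, s)], ∀ i, bit n (matching m i) = bit n i) ∨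
      (sumW (witness p q r s) = 0 ∧ witness p q r s p = witness p q r s q ∧
        witness p q r s r = witness p q r s s ∧ par (witness p q r s) = 1) := by decide +kernel

theorem pair_in_matching : ∀ m, ∀ p q : Fin 6, p < q →
    (∀ n : Fin 64, (∀ i, bit n (matching m i) = bit n i) → bit n p = bit n q) → matching m p = q := by decide +kernel

theorem block_perms : ∀ m,
    (Finset.univ.filter fun π : Equiv.Perm (Fin 6) =>
      (∀ i, π i = i ∨ π i = matching m i) ∧ Equiv.Perm.sign π = 1).card ≤ 4 := by decide +kernel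

theorem matching_unique : ∀ m n, m = n ∨ ∃ i j k l : Fin 6,
    j ≠ i ∧ j ≠ matching m i ∧ l ≠ k ∧ l ≠ matching n k ∧
      ((Equiv.swap i (matching m i) * Equiv.swap j (matching m j)) *
        (Equiv.swap k (matching n k) * Equiv.swap l (matching n l))) ^ 8 ≠ 1 := by
  decide +kernel

/-- The map moves the vectors orthogonal to a vector along its line. -/
def MovesLine (g : Vec → Vec) (w : Vec) : Prop :=
  ∀ v, SplitGeom.bil v w = 0 → SplitGeom.bil v (scal w) = 0 →
    g v + v = 0 ∨ g v + v = w ∨ g v + v = scal w ∨ g v + v = scal (scal w)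

/-- Precomposition with a permutation. -/
def pm (σ : Equiv.Perm (Fin 6)) (v : Vec) : Vec := fun i => v (σ i)

/-- The first double swap. -/
def su : Equiv.Perm (Fin 6) := Equiv.swap 0 1 * Equiv.swap 2 3

/-- The second double swap. -/
def sv : Equiv.Perm (Fin 6) := Equiv.swap 0 1 * Equiv.swap 4 5

/-- The third double swap. -/
def sw : Equiv.Perm (Fin 6) := Equiv.swap 2 3 * Equiv.swap 4 5

theorem bil_blocks (v w : Vec) (hw : w 0 = w 1 ∧ w 2 = w 3 ∧ w 4 = w 5) :
    SplitGeom.bil v w = SplitGeom.bil ![v 0 + v 1, 0, v 2 + v 3, 0, v 4 + v 5, 0] w := by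
  have key : ∀ a b k : W, nz (a + k) + nz a + nz k + (nz (b + k) + nz b + nz k) =
      nz (a + b + k) + nz (a + b) + nz k + (nz (0 + k) + nz (0 : W) + nz k) := by decide
  have k1 := key (v 0) (v 1) (w 1)
  have k2 := key (v 2) (v 3) (w 3)
  have k3 := key (v 4) (v 5) (w 5)
  simp [SplitGeom.bil, par, hw.1, hw.2.1, hw.2.2]
  simp only [zero_add] at k1 k2 k3
  linear_combination k1 + k2 + k3

theorem movesLine_of_blocks {g : Vec → Vec} {w : Vec} (hw : w 0 = w 1 ∧ w 2 = w 3 ∧ w 4 = w 5)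
    (hadd : ∀ u v, g (u + v) = g u + g v) (hfix : ∀ a b d : W, g ![a, a, b, b, d, d] = ![a, a, b, b, d, d])
    (h : ∀ x y t : W, SplitGeom.bil ![x, 0, y, 0, t, 0] w = 0 → SplitGeom.bil ![x, 0, y, 0, t, 0] (scal w) = 0 →
      g ![x, 0, y, 0, t, 0] + ![x, 0, y, 0, t, 0] = 0 ∨ g ![x, 0, y, 0, t, 0] + ![x, 0, y, 0, t, 0] = w ∨
        g ![x, 0, y, 0, t, 0] + ![x, 0, y, 0, t, 0] = scal w ∨
          g ![x, 0, y, 0, t, 0] + ![x, 0, y, 0, t, 0] = scal (scal w)) : MovesLine g w := fun v h1 h2 => by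
  have hs : scal w 0 = scal w 1 ∧ scal w 2 = scal w 3 ∧ scal w 4 = scal w 5 := by simp [scal, hw]
  rw [bil_blocks v w hw] at h1
  rw [bil_blocks v (scal w) hs] at h2
  have hv : v = ![v 0 + v 1, 0, v 2 + v 3, 0, v 4 + v 5, 0] + ![v 1, v 1, v 3, v 3, v 5, v 5] := by
    funext i; fin_cases i <;> simp [add_assoc, add_self_W]
  rw [hv, hadd, hfix, add_add_add_comm, add_self_vec, add_zero]
  exact h _ _ _ h1 h2

theorem pm_fix {σ : Equiv.Perm (Fin 6)} (h : ∀ i, (σ i).val / 2 = i.val / 2) (a b d : W) :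
    pm σ ![a, a, b, b, d, d] = ![a, a, b, b, d, d] := by
  funext i
  have hv : ∀ j : Fin 6, (![a, a, b, b, d, d] : Vec) j =
      if j.val / 2 = 0 then a else if j.val / 2 = 1 then b else d := fun j => by fin_cases j <;> simp
  simp only [pm, hv, h]

theorem root_pair_fix {c : ZMod 3} {p q : Fin 6} (hpq : p ≠ q) (h : p.val / 2 = q.val / 2) (a b d : W) :
    root c p q ![a, a, b, b, d, d] = ![a, a, b, b, d, d] := by
  have hv : ∀ j : Fin 6, (![a, a, b, b, d, d] : Vec) j =
      if j.val / 2 = 0 then a else if j.val / 2 = 1 then b else d := fun j => by fin_cases j <;> simp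
  refine (root_fix_iff hpq _).2 ⟨?_, by simp only [hv, h]⟩
  simp [sumW, add_assoc, add_self_W]

theorem pm_add (σ : Equiv.Perm (Fin 6)) (u v : Vec) : pm σ (u + v) = pm σ u + pm σ v := rfl

theorem lines : ∀ c : ZMod 3, c ≠ 0 →
    (MovesLine (pm su) ![(1, 0), (1, 0), (1, 0), (1, 0), 0, 0] ∧
      MovesLine (root c 4 5) ![(1, 0), (1, 0), (1, 0), (1, 0), 0, 0]) ∧
    (MovesLine (pm sv) ![(1, 0), (1, 0), 0, 0, (1, 0), (1, 0)] ∧
      MovesLine (root c 2 3) ![(1, 0), (1, 0), 0, 0, (1, 0), (1, 0)]) ∧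
    (MovesLine (pm sw) ![0, 0, (1, 0), (1, 0), (1, 0), (1, 0)] ∧
      MovesLine (root c 0 1) ![0, 0, (1, 0), (1, 0), (1, 0), (1, 0)]) ∧
    (MovesLine (pm su) ![rk c (1, 0), rk c (1, 0), (1, 0), (1, 0), 0, 0] ∧
      MovesLine (fun v => root c 2 3 (pm sv v)) ![rk c (1, 0), rk c (1, 0), (1, 0), (1, 0), 0, 0]) ∧
    (MovesLine (pm sv) ![rk c (1, 0), rk c (1, 0), 0, 0, (1, 0), (1, 0)] ∧
      MovesLine (fun v => root c 4 5 (pm su v)) ![rk c (1, 0), rk c (1, 0), 0, 0, (1, 0), (1, 0)]) := by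
  intro c hc
  have hu : ∀ i, (su i).val / 2 = i.val / 2 := by decide
  have hv : ∀ i, (sv i).val / 2 = i.val / 2 := by decide
  have hw : ∀ i, (sw i).val / 2 = i.val / 2 := by decide
  rcases (by decide : ∀ c : ZMod 3, c = 0 ∨ c = 1 ∨ c = 2) c with rfl | rfl | rfl
  · exact absurd rfl hc
  all_goals
    refine ⟨⟨?_, ?_⟩, ⟨?_, ?_⟩, ⟨?_, ?_⟩, ⟨?_, ?_⟩, ⟨?_, ?_⟩⟩
    · exact movesLine_of_blocks (by decide) (pm_add _) (pm_fix hu) (by decide +kernel)
    · exact movesLine_of_blocks (by decide) (root_add _ _ _) (root_pair_fix (by decide) rfl) (by decide +kernel)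
    · exact movesLine_of_blocks (by decide) (pm_add _) (pm_fix hv) (by decide +kernel)
    · exact movesLine_of_blocks (by decide) (root_add _ _ _) (root_pair_fix (by decide) rfl) (by decide +kernel)
    · exact movesLine_of_blocks (by decide) (pm_add _) (pm_fix hw) (by decide +kernel)
    · exact movesLine_of_blocks (by decide) (root_add _ _ _) (root_pair_fix (by decide) rfl) (by decide +kernel)
    · exact movesLine_of_blocks (by decide) (pm_add _) (pm_fix hu) (by decide +kernel)
    · refine movesLine_of_blocks (by decide) (fun u v => by rw [pm_add, root_add]) (fun a b d => ?_) (by decide +kernel)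
      rw [pm_fix hv]
      exact root_pair_fix (p := 2) (q := 3) (by decide) rfl a b d
    · exact movesLine_of_blocks (by decide) (pm_add _) (pm_fix hv) (by decide +kernel)
    · refine movesLine_of_blocks (by decide) (fun u v => by rw [pm_add, root_add]) (fun a b d => ?_) (by decide +kernel)
      rw [pm_fix hu]
      exact root_pair_fix (p := 4) (q := 5) (by decide) rfl a b d

end CfsgLib.LargeFischer.RootGeom
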