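import Cfsg.Agent.LargeFischer.Lift
import Cfsg.Agent.LargeFischer.Defs

/-!
# The scalar acts without fixed points and the components are six lines
-/

set_option autoImplicit false
set_option linter.unusedSectionVars false
set_option linter.style.haveILetI false
set_option maxRecDepth 100000

namespace CfsgLib.LargeFischer

open Finset

/-- Images under short words. -/
def orbW : ℕ → V4 → List V4
  | 0, l => [l]
  | n + 1, l => orbW n l ++ (orbW n l).flatMap fun m => [tt 0 m, tt 1 m, tt 2 m, tt 3 m]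

theorem orbW_big : ∀ l : V4, l ≠ 0 → 13 ≤ (orbW 3 l).toFinset.card := by decide +kernel

namespace Setting

variable {L V : Type*} [Group L] [AddCommGroup V] (S : Setting L V)

theorem φ_one (v : V) : S.φ 1 v = v := by
  have h := S.φ_mul 1 1 v
  rw [one_mul] at h
  exact (S.φ 1).injective h.symm

theorem φ_inv (l : L) (v : V) : S.φ l⁻¹ (S.φ l v) = v := by
  rw [← S.φ_mul, inv_mul_cancel, S.φ_one]

theorem finite_V (S : Setting L V) : Finite V :=
  Nat.finite_of_card_ne_zero (by rw [S.card_V]; norm_num)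

/-- Two vectors, with the scalar of order three mixing them: the extension of scalars. -/
def pairR : (V × V) ≃+ (V × V) where
  toFun u := (u.2, u.1 + u.2)
  invFun u := (u.2 - u.1, u.1)
  left_inv u := by simp
  right_inv u := by simp
  map_add' u v := by simp only [Prod.fst_add, Prod.snd_add, Prod.mk_add_mk, Prod.mk.injEq, true_and]; abel

/-- The conjugation of the extension of scalars. -/
def pairConj (u : V × V) : V × V := (u.1 + u.2, u.2)

variable {d : D5 → L}

/-- The extended action. -/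
def double (hd : ∀ p q, d (p + q) = d p * d q) : Action (V × V) where
  R := pairR
  act p := AddEquiv.prodCongr (S.φ (d p)) (S.φ (d p))
  two u := Prod.ext (S.two _) (S.two _)
  sum3 u := by
    have h : ∀ a b : V, a + b + (a + b) = 0 := fun a b => S.two _
    refine Prod.ext ?_ ?_
    · show u.1 + u.2 + (u.1 + u.2) = 0
      exact h _ _
    · show u.2 + (u.1 + u.2) + (u.2 + (u.1 + u.2)) = 0
      exact h _ _
  act_zero u := by
    have h : d 0 = 1 := mul_left_cancel (a := d 0) (by rw [← hd, add_zero, mul_one])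
    refine Prod.ext ?_ ?_
    · show S.φ (d 0) u.1 = u.1
      rw [h, S.φ_one]
    · show S.φ (d 0) u.2 = u.2
      rw [h, S.φ_one]
  act_add p q u := by
    refine Prod.ext ?_ ?_
    · show S.φ (d (p + q)) u.1 = S.φ (d p) (S.φ (d q) u.1)
      rw [hd, S.φ_mul]
    · show S.φ (d (p + q)) u.2 = S.φ (d p) (S.φ (d q) u.2)
      rw [hd, S.φ_mul]
  act_R p u := Prod.ext rfl (map_add (S.φ (d p)) u.1 u.2)

end Setting

namespace Action

variable {U : Type*} [AddCommGroup U] (A : Action U)

theorem act_comm (p q : D5) (u : U) : A.act p (A.act q u) = A.act q (A.act p u) := by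
  rw [← A.act_add, ← A.act_add, add_comm]

theorem proj_act (c e : D5) (u : U) : A.proj c (A.act e u) = A.act e (A.proj c u) := by
  rw [proj, proj, map_sum]
  exact Finset.sum_congr rfl fun d _ => by rw [A.act_rp, A.act_comm]

/-- An element killed by every functional in the support acts trivially. -/
theorem act_trivial {e : D5} (h : ∀ c ∈ A.supp, pair c e = 0) (u : U) : A.act e u = u :=
  A.eq_of_supp fun c hc => by rw [A.proj_act, A.isComp_proj c u e, h c hc, A.rp_zero]

/-- A bijection commuting with the scalar moves the support. -/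
theorem mem_supp_of_map (ψ : U ≃+ U) (hψ : ∀ u, ψ (A.R u) = A.R (ψ u)) (C : D5 → D5)
    (hC : ∀ p u, A.act p (ψ u) = ψ (A.act (C p) u)) {c c' : D5} (hc : c ∈ A.supp)
    (hc' : ∀ p, pair c' p = pair c (C p)) :
    c' ∈ A.supp ∧ ∀ u, A.IsComp c u → A.IsComp c' (ψ u) := by
  have hrp : ∀ k u, ψ (A.rp k u) = A.rp k (ψ u) := fun k u => by
    rcases zmod3_cases k with rfl | rfl | rfl <;> simp [rp_zero, rp_one, rp_two, hψ]
  have h : ∀ u, A.IsComp c u → A.IsComp c' (ψ u) := fun u hu p => by
    rw [hC, hu, hrp, hc']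
  obtain ⟨u, hu0, hu⟩ := A.mem_supp.1 hc
  exact ⟨A.mem_supp.2 ⟨ψ u, fun e => hu0 (ψ.injective (by rw [e, map_zero])), h u hu⟩, h⟩

end Action

theorem pair_affine (c : Fin 4 → V4) (k : Fin 4) (m : ZMod 3) (l : V4) (p : D5) :
    pair (tt k l + (fun i => m * c k i), m) p = pair (l, m) (tv k p.1, p.2 + dot (c k) p.1) := by
  show dot (tt k l + fun i => m * c k i) p.1 + m * p.2 = dot l (tv k p.1) + m * (p.2 + dot (c k) p.1)
  rw [← dot_tt]
  simp only [dot, Pi.add_apply]; ring

theorem spans_of_faithful {s : Finset D5} (h : ∀ e : D5, (∀ c ∈ s, pair c e = 0) → e = 0)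
    {S1 : Finset V4} (hne : S1.Nonempty)
    (hs : ∀ c ∈ s, c = 0 ∨ (c.2 = 1 ∧ c.1 ∈ S1) ∨ (c.2 = 2 ∧ -c.1 ∈ S1)) : Spans (S1 : Set V4) := by
  obtain ⟨m0, hm0⟩ := hne
  intro a ha
  refine congrArg Prod.fst (h (a, -dot m0 a) fun c hc => ?_)
  rcases hs c hc with h0 | ⟨h2, h1⟩ | ⟨h2, h1⟩
  · simp [h0, pair, dot]
  · have := ha _ h1 m0 hm0
    rw [dot_sub] at this
    simp only [pair, h2, one_mul]
    linear_combination this
  · have := ha _ h1 m0 hm0
    rw [dot_sub] at this
    simp only [pair, h2]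
    have e2 : (2 : ZMod 3) = -1 := by decide
    rw [e2]
    have e3 : dot (-c.1) a = -dot c.1 a := by simp only [dot, Pi.neg_apply]; ring
    rw [e3] at this
    linear_combination -this

namespace Setting

variable {L V : Type*} [Group L] [AddCommGroup V] (S : Setting L V)

/-- The lifted parabolic data inside `L`. -/
structure Local where
  d : D5 → L
  l : Fin 4 → L
  c : Fin 4 → V4
  d_add : ∀ p q, d (p + q) = d p * d q
  d_inj : Function.Injective d
  d_x : d (0, 1) = S.x
  conj : ∀ k (p : D5), l k * d p * (l k)⁻¹ = d (tv k p.1, p.2 + dot (c k) p.1)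
  it0 : ∀ m, (aff c 0)^[5] m = m
  it1 : ∀ m, (aff c 1)^[3] m = m
  it2 : ∀ m, (aff c 2)^[3] m = m
  it12 : ∀ m, aff c 1 (aff c 2 m) = aff c 2 (aff c 1 m)

theorem exists_local {P : Type*} [Group P] (π : L →* P) (hπ : Function.Surjective π)
    (hker : ∀ y, π y = 1 ↔ y ∈ Subgroup.zpowers S.x)
    (a : V4 → P) (g : Fin 4 → P) (ha : ∀ v w, a (v + w) = a v * a w) (hainj : Function.Injective a)
    (hg : ∀ k v, g k * a v * (g k)⁻¹ = a (tv k v)) (hg5 : g 0 ^ 5 = 1) (hg13 : g 1 ^ 3 = 1)
    (hg23 : g 2 ^ 3 = 1) (hg12 : g 1 * g 2 = g 2 * g 1) : Nonempty S.Local := by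
  obtain ⟨d, l, c, h1, h2, h3, h4, h5, h6, h7, h8⟩ :=
    exists_lift π hπ S.x3 S.x_ne S.x_center hker a g ha hainj hg hg5 hg13 hg23 hg12
  exact ⟨⟨d, l, c, h1, h2, h3, h4, h5, h6, h7, h8⟩⟩

variable {S} (D : S.Local)

theorem Local.aff_injective (k : Fin 4) : Function.Injective (aff D.c k) := by
  intro a b h
  have : ∀ p, pair (a, 1) p = pair (b, 1) p := by
    intro p
    obtain ⟨q, hq⟩ : ∃ q : D5, (tv k q.1, q.2 + dot (D.c k) q.1) = p := by
      have hinj : Function.Injective fun q : D5 => ((tv k q.1, q.2 + dot (D.c k) q.1) : D5) := by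
        intro q r e
        refine D.d_inj (mul_left_cancel (a := D.l k) (mul_right_cancel (b := (D.l k)⁻¹) ?_))
        rw [D.conj, D.conj]; exact congrArg D.d e
      exact (Finite.injective_iff_surjective.1 hinj) p
    rw [← hq, ← pair_affine, ← pair_affine]
    simp only [one_mul]
    exact congrArg (fun l => pair (l, 1) q) h
  exact congrArg Prod.fst (eq_of_pair this)

theorem Local.d_zero : D.d 0 = 1 :=
  mul_left_cancel (a := D.d 0) (by rw [← D.d_add, add_zero, mul_one])

theorem Local.act_inv (k : Fin 4) (p : D5) (v : V) : S.φ (D.d p) (S.φ (D.l k)⁻¹ v) =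
    S.φ (D.l k)⁻¹ (S.φ (D.d (tv k p.1, p.2 + dot (D.c k) p.1)) v) := by
  rw [← S.φ_mul, ← S.φ_mul, ← D.conj]
  congr 2
  group

theorem Local.eq_zero_of_trivial {e : D5} (h : ∀ v, S.φ (D.d e) v = v) : e = 0 :=
  D.d_inj ((S.faithful _ h).trans D.d_zero.symm)

include D in
/-- The scalar has no fixed vector. -/
theorem Local.fixed_zero {v : V} (hv : S.φ S.x v = v) : v = 0 := by
  classical
  haveI := S.finite_V
  let A := S.double D.d_add
  have hR : ∀ u : V × V, A.R u = (u.2, u.1 + u.2) := fun u => rfl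
  have hmap : ∀ k, ∀ c ∈ A.supp, ((tt k c.1 + fun i => c.2 * D.c k i), c.2) ∈ A.supp := by
    intro k c hc
    refine (A.mem_supp_of_map (AddEquiv.prodCongr (S.φ (D.l k)⁻¹) (S.φ (D.l k)⁻¹))
      (fun u => Prod.ext rfl (map_add (S.φ (D.l k)⁻¹) u.1 u.2))
      (fun p => (tv k p.1, p.2 + dot (D.c k) p.1)) (fun p u => Prod.ext ?_ ?_) hc
      (fun p => pair_affine _ _ _ _ _)).1
    · exact D.act_inv k p u.1
    · exact D.act_inv k p u.2
  have hneg : ∀ c ∈ A.supp, -c ∈ A.supp := by
    intro c hc
    obtain ⟨u, hu0, hu⟩ := A.mem_supp.1 hc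
    have hcR : ∀ w : V × V, pairConj (A.R w) = A.R (A.R (pairConj w)) := by
      intro w
      rw [hR, hR, hR]
      simp only [pairConj]
      refine Prod.ext ?_ ?_
      · show w.2 + (w.1 + w.2) = w.1 + w.2 + w.2
        abel
      · show w.1 + w.2 = w.2 + (w.1 + w.2 + w.2)
        calc w.1 + w.2 = w.1 + w.2 + (w.2 + w.2) := by rw [S.two, add_zero]
          _ = w.2 + (w.1 + w.2 + w.2) := by abel
    refine A.mem_supp.2 ⟨pairConj u, fun e => hu0 ?_, fun p => ?_⟩
    · have e2 : u.2 = 0 := (Prod.ext_iff.1 e).2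
      have e1 : u.1 + u.2 = 0 := (Prod.ext_iff.1 e).1
      rw [e2, add_zero] at e1
      exact Prod.ext e1 e2
    · have e : A.act p (pairConj u) = pairConj (A.act p u) :=
        Prod.ext (map_add (S.φ (D.d p)) u.1 u.2) rfl
      rw [e, hu p, pair_neg_left]
      generalize pair c p = t
      rcases Action.zmod3_cases t with rfl | rfl | rfl
      · rfl
      · rw [A.rp_one, hcR, show -(1 : ZMod 3) = 2 by decide, A.rp_two]
      · rw [A.rp_two, hcR, hcR, A.R_cube, show -(2 : ZMod 3) = 1 by decide, A.rp_one]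
  have hcard : A.supp.card ≤ 12 := A.supp_card_le (by rw [Nat.card_prod, S.card_V]; norm_num)
  have hlin : ∀ l : V4, (l, (0 : ZMod 3)) ∈ A.supp → l = 0 := by
    intro l hl
    by_contra hne
    have hall : ∀ n, ∀ m ∈ orbW n l, (m, (0 : ZMod 3)) ∈ A.supp := by
      intro n
      induction n with
      | zero => intro m hm; rw [orbW, List.mem_singleton] at hm; rwa [hm]
      | succ n ih =>
        intro m hm
        rw [orbW, List.mem_append, List.mem_flatMap] at hm
        rcases hm with hm | ⟨m', hm', hm⟩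
        · exact ih m hm
        · have : ∀ k, (tt k m', (0 : ZMod 3)) ∈ A.supp := fun k => by
            have := hmap k _ (ih m' hm')
            convert this using 2
            funext i; simp
          simp only [List.mem_cons, List.not_mem_nil, or_false] at hm
          rcases hm with rfl | rfl | rfl | rfl <;> exact this _
    have h1 : ((orbW 3 l).toFinset.image fun m => ((m, (0 : ZMod 3)) : D5)) ⊆ A.supp := by
      intro c hc
      obtain ⟨m, hm, rfl⟩ := Finset.mem_image.1 hc
      exact hall 3 m (List.mem_toFinset.1 hm)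
    have h2 := Finset.card_le_card h1
    rw [Finset.card_image_of_injective _ fun a b e => congrArg Prod.fst e] at h2
    have := orbW_big l hne
    omega
  let S1 : Finset V4 := (A.supp.filter fun c => c.2 = 1).image Prod.fst
  have hmem1 : ∀ m, m ∈ S1 ↔ (m, (1 : ZMod 3)) ∈ A.supp := by
    intro m
    simp only [S1, Finset.mem_image, Finset.mem_filter]
    refine ⟨fun ⟨c, ⟨h1, h2⟩, h3⟩ => ?_, fun h => ⟨_, ⟨h, rfl⟩, rfl⟩⟩
    rwa [← h3, ← h2]
  have htype : ∀ c ∈ A.supp, c = 0 ∨ (c.2 = 1 ∧ c.1 ∈ S1) ∨ (c.2 = 2 ∧ -c.1 ∈ S1) := by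
    intro c hc
    rcases Action.zmod3_cases c.2 with h | h | h
    · left
      have := hlin c.1 (by rwa [← h])
      exact Prod.ext this h
    · exact Or.inr (Or.inl ⟨h, (hmem1 _).2 (by rwa [← h])⟩)
    · refine Or.inr (Or.inr ⟨h, (hmem1 _).2 ?_⟩)
      have := hneg c hc
      rwa [show ((-c.1, (1 : ZMod 3)) : D5) = -c from Prod.ext rfl
        (by show (1 : ZMod 3) = -c.2; rw [h]; decide)]
  have hfaith : ∀ e : D5, (∀ c ∈ A.supp, pair c e = 0) → e = 0 := fun e he =>
    D.eq_zero_of_trivial fun v => (Prod.ext_iff.1 (A.act_trivial he (v, v))).1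
  have hne : S1.Nonempty := by
    by_contra hno
    rw [Finset.not_nonempty_iff_eq_empty] at hno
    have h0 : ((0, 1) : D5) = 0 := hfaith _ fun c hc => by
      rcases htype c hc with h | ⟨-, h⟩ | ⟨-, h⟩
      · simp [h, pair, dot]
      · simp [hno] at h
      · simp [hno] at h
    exact absurd (congrArg Prod.snd h0) (by decide)
  let P1 := S1.image fun m => ((m, (1 : ZMod 3)) : D5)
  let P2 := S1.image fun m => ((-m, (2 : ZMod 3)) : D5)
  have hP : P1 ∪ P2 ⊆ A.supp := by
    intro c hc
    rcases Finset.mem_union.1 hc with h | h <;> obtain ⟨m, hm, rfl⟩ := Finset.mem_image.1 h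
    · exact (hmem1 m).1 hm
    · have := hneg _ ((hmem1 m).1 hm)
      rwa [show ((-m, (2 : ZMod 3)) : D5) = -(m, 1) from Prod.ext rfl
        (show (2 : ZMod 3) = -1 by decide)]
  have hdisj : Disjoint P1 P2 := by
    rw [Finset.disjoint_left]
    intro c h1 h2
    obtain ⟨m, -, rfl⟩ := Finset.mem_image.1 h1
    obtain ⟨m', -, e⟩ := Finset.mem_image.1 h2
    exact absurd (congrArg Prod.snd e) (by show ¬ (2 : ZMod 3) = 1; decide)
  have hP1 : P1.card = S1.card := Finset.card_image_of_injective _ fun a b e => congrArg Prod.fst e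
  have hP2 : P2.card = S1.card :=
    Finset.card_image_of_injective _ fun a b e => neg_injective (congrArg Prod.fst e)
  have h6 : S1.card ≤ 6 := by
    have := (Finset.card_le_card hP).trans hcard
    rw [Finset.card_union_of_disjoint hdisj, hP1, hP2] at this
    omega
  have hinv : ∀ k, ∀ m ∈ S1, aff D.c k m ∈ S1 := by
    intro k m hm
    rw [hmem1] at hm ⊢
    have := hmap k _ hm
    convert this using 2
    show tt k m + D.c k = _
    funext i; simp
  obtain ⟨e, -, he, hr, -, -⟩ :=
    exists_hexad D.it0 D.it1 D.it2 D.it12 hne hinv h6 (spans_of_faithful hfaith hne htype) D.aff_injective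
  have hcard6 : S1.card = 6 := by
    rw [← Set.ncard_coe_finset, ← hr, ← Nat.card_coe_set_eq, Nat.card_range_of_injective he, Nat.card_fin]
  have hzero : (0 : D5) ∉ A.supp := by
    intro h0
    have h13 := Finset.card_le_card (Finset.insert_subset h0 hP)
    rw [Finset.card_insert_of_notMem, Finset.card_union_of_disjoint hdisj, hP1, hP2] at h13
    · omega
    · rw [Finset.mem_union, not_or]
      constructor <;> intro h <;> obtain ⟨m, -, e⟩ := Finset.mem_image.1 h
      · exact absurd (congrArg Prod.snd e) (by show ¬ (1 : ZMod 3) = 0; decide)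
      · exact absurd (congrArg Prod.snd e) (by show ¬ (2 : ZMod 3) = 0; decide)
  have hu : ((v, 0) : V × V) = 0 := by
    refine A.eq_of_supp fun c hc => ?_
    have hz : A.proj c 0 = 0 := by simp [Action.proj, A.rp_map_zero]
    rw [hz]
    have h1 : A.act (0, 1) (v, 0) = (v, 0) := by
      refine Prod.ext ?_ ?_
      · show S.φ (D.d (0, 1)) v = v
        rw [D.d_x, hv]
      · exact map_zero (S.φ (D.d (0, 1)))
    have h2 := A.isComp_proj c (v, 0) (0, 1)
    rw [← A.proj_act, h1] at h2
    rw [show pair c (0, 1) = c.2 by simp [pair, dot]] at h2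
    rcases Action.zmod3_cases c.2 with h | h | h <;> rw [h] at h2
    · exfalso
      rcases htype c hc with h' | ⟨h', -⟩ | ⟨h', -⟩
      · exact hzero (h' ▸ hc)
      · rw [h] at h'; exact absurd h' (by decide)
      · rw [h] at h'; exact absurd h' (by decide)
    · exact A.eq_zero_of_R_fix (by rw [← A.rp_one]; exact h2.symm)
    · refine A.eq_zero_of_R_fix ?_
      rw [A.rp_two] at h2
      have e := congrArg A.R h2
      rwa [A.R_cube] at e
  exact congrArg Prod.fst hu

/-- The action of the lifted group, the scalar being `x`. -/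
def Local.single : Action V where
  R := S.φ S.x
  act p := S.φ (D.d p)
  two := S.two
  sum3 v := D.fixed_zero (by
    simp only [map_add]
    rw [← S.φ_mul S.x S.x, ← S.φ_mul S.x (S.x * S.x), show S.x * (S.x * S.x) = S.x ^ 3 by rw [pow_succ', pow_two], S.x3, S.φ_one]
    abel)
  act_zero v := by rw [D.d_zero, S.φ_one]
  act_add p q v := by rw [D.d_add, S.φ_mul]
  act_R p v := by rw [← S.φ_mul, ← S.φ_mul, Subgroup.mem_center_iff.1 S.x_center]

end Setting

end CfsgLib.LargeFischer
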