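import Cfsg.Agent.LargeFischer.FrameBuild

/-!
# An element of order seven fixes no non-zero vector
-/

set_option autoImplicit false
set_option linter.unusedSectionVars false
set_option linter.style.haveILetI false
set_option maxRecDepth 100000
set_option maxHeartbeats 400000

namespace CfsgLib.LargeFischer

open Finset

/-- Multiplication of sets of exponents modulo seven, with coefficients modulo two. -/
def conv7 (s t : Finset (ZMod 7)) : Finset (ZMod 7) :=
  Finset.univ.filter fun k => ((s ×ˢ t).filter fun p => p.1 + p.2 = k).card % 2 = 1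

/-- The two primitive idempotents off the fixed space, and the one onto it. -/
def eA : Finset (ZMod 7) := {0, 3, 5, 6}

/-- See `eA`. -/
def eB : Finset (ZMod 7) := {0, 1, 2, 4}

theorem idem_facts : conv7 eA eA = eA ∧ conv7 eB eB = eB ∧ conv7 eA eB = ∅ ∧ conv7 eB eA = ∅ ∧
    conv7 Finset.univ eA = ∅ ∧ conv7 Finset.univ eB = ∅ ∧ conv7 eA Finset.univ = ∅ ∧
    conv7 eB Finset.univ = ∅ ∧ conv7 {0} Finset.univ = Finset.univ ∧
    (Finset.univ.filter fun i => -i ∈ eA) = eB ∧ (Finset.univ.filter fun i => -i ∈ eB) = eA ∧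
    (Finset.univ : Finset (ZMod 7)) = Finset.univ.filter fun i => -i ∈ (Finset.univ : Finset (ZMod 7)) := by
  decide +kernel

theorem pow_two_cases : ∀ a : Fin 13, 2 ^ a.val % 7 = 1 → 2 ^ a.val % 3 = 1 → a.val = 0 ∨ a.val = 6 ∨ a.val = 12 := by
  decide +kernel

/-- A permutation of prime order fixing one point only gives a congruence. -/
theorem card_mod_of_unique_fixed {α : Type*} [Finite α] (σ : Equiv.Perm α) {p : ℕ} (hp : p.Prime)
    (hσ : σ ^ p = 1) (z : α) (hz : ∀ a, σ a = a ↔ a = z) : Nat.card α % p = 1 := by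
  classical
  haveI := Fintype.ofFinite α
  haveI : Fact p.Prime := ⟨hp⟩
  have h := Equiv.Perm.card_compl_support_modEq (σ := σ) (p := p) (n := 1) (by rwa [pow_one])
  have h1 : σ.supportᶜ = {z} := by
    ext a
    simp [hz]
  rw [h1, Finset.card_singleton, ← Nat.card_eq_fintype_card] at h
  exact Eq.trans (Nat.ModEq.symm h) (Nat.one_mod_eq_one.2 hp.ne_one)

namespace Setting

variable {L V : Type*} [Group L] [AddCommGroup V] (S : Setting L V)

theorem φ_pow (l : L) (n : ℕ) (v : V) : S.φ (l ^ n) v = (S.φ l)^[n] v := by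
  induction n generalizing v with
  | zero => rw [pow_zero, S.φ_one]; rfl
  | succ n ih => rw [pow_succ, S.φ_mul, ih, ← Function.iterate_succ_apply]

/-- A combination of powers of an element. -/
def op (g : L) (s : Finset (ZMod 7)) (v : V) : V := ∑ i ∈ s, S.φ (g ^ i.val) v

variable {g : L} (hg : g ^ 7 = 1)

theorem op_map_add (s : Finset (ZMod 7)) (u v : V) : S.op g s (u + v) = S.op g s u + S.op g s v := by
  simp [op, Finset.sum_add_distrib]

theorem op_sum (s : Finset (ZMod 7)) {ι : Type*} (t : Finset ι) (f : ι → V) :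
    S.op g s (∑ i ∈ t, f i) = ∑ i ∈ t, S.op g s (f i) :=
  map_sum (AddMonoidHom.mk' (S.op g s) (S.op_map_add s)) f t

theorem op_empty (v : V) : S.op g ∅ v = 0 := rfl

theorem op_zero_set (v : V) : S.op g {0} v = v := by simp [op, S.φ_one]

include S in
theorem smul_two_mod (n : ℕ) (w : V) : n • w = if n % 2 = 1 then w else 0 := by
  conv_lhs => rw [← Nat.div_add_mod n 2, add_smul, mul_comm, mul_smul, two_smul, S.two, smul_zero, zero_add]
  rcases Nat.mod_two_eq_zero_or_one n with h | h <;> simp [h]

include hg in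
theorem op_op (s t : Finset (ZMod 7)) (v : V) : S.op g s (S.op g t v) = S.op g (conv7 s t) v := by
  have hpow : ∀ i j : ZMod 7, g ^ (i + j).val = g ^ i.val * g ^ j.val := fun i j => by
    rw [← pow_add, ZMod.val_add, ← pow_eq_pow_mod _ hg]
  unfold op
  simp only [map_sum, ← S.φ_mul, ← hpow]
  rw [← Finset.sum_product', ← Finset.sum_fiberwise (s ×ˢ t) (fun p => p.1 + p.2), conv7,
    Finset.sum_filter]
  refine Finset.sum_congr rfl fun k _ => ?_
  rw [Finset.sum_congr rfl (g := fun _ => S.φ (g ^ k.val) v) fun p hp => by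
    rw [(Finset.mem_filter.1 hp).2], Finset.sum_const, S.smul_two_mod]

include hg in
theorem op_adjoint (s : Finset (ZMod 7)) (u v : V) :
    S.b (S.op g s u) v = S.b u (S.op g (Finset.univ.filter fun i => -i ∈ s) v) := by
  have h1 : S.b (S.op g s u) v = ∑ i ∈ s, S.b (S.φ (g ^ i.val) u) v := by
    rw [S.b_comm]
    refine (map_sum (AddMonoidHom.mk' (S.b v) (S.b_add v)) _ _).trans (Finset.sum_congr rfl fun i _ => ?_)
    exact S.b_comm _ _
  have h2 : S.b u (S.op g (Finset.univ.filter fun i => -i ∈ s) v) =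
      ∑ i ∈ Finset.univ.filter (fun i => -i ∈ s), S.b u (S.φ (g ^ i.val) v) :=
    map_sum (AddMonoidHom.mk' (S.b u) (S.b_add u)) _ _
  rw [h1, h2]
  refine Finset.sum_bij' (fun i _ => -i) (fun i _ => -i) (fun i hi => ?_) (fun i hi => ?_)
    (fun i _ => neg_neg i) (fun i _ => neg_neg i) fun i _ => ?_
  · simpa using hi
  · simpa using hi
  · rw [← S.b_inv (g ^ (-i).val) (S.φ (g ^ i.val) u) v, ← S.φ_mul, ← pow_add]
    congr 1
    have : g ^ ((-i).val + i.val) = 1 := by
      rw [pow_eq_pow_mod _ hg, ← ZMod.val_add, neg_add_cancel, ZMod.val_zero, pow_zero]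
    rw [this, S.φ_one]

include hg in
/-- An element of order seven has no non-zero fixed vector. -/
theorem seven_fixed_zero (hg1 : g ≠ 1) (hfix : ∀ v, S.φ S.x v = v → v = 0) {v : V}
    (hv : S.φ g v = v) : v = 0 := by
  classical
  haveI := S.finite_V
  haveI : Fact (Nat.Prime 2) := ⟨Nat.prime_two⟩
  obtain ⟨hAA, hBB, hAB, hBA, hUA, hUB, hAU, hBU, -, hnA, hnB, hnU⟩ := idem_facts
  have hfixpow : ∀ w, S.φ g w = w → ∀ n : ℕ, S.φ (g ^ n) w = w := by
    intro w hw n
    induction n with
    | zero => rw [pow_zero, S.φ_one]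
    | succ n ih => rw [pow_succ, S.φ_mul, hw, ih]
  have hsplit : ∀ w, S.op g Finset.univ w + S.op g eA w + S.op g eB w = w := by
    intro w
    have h3 : ∀ f : ZMod 7 → V, (∑ i, f i) + (∑ i ∈ eA, f i) + (∑ i ∈ eB, f i) = f 0 := by
      intro f
      have hu : (∑ i, f i) = f 0 + (∑ i ∈ ({3, 5, 6} : Finset (ZMod 7)), f i) +
          ∑ i ∈ ({1, 2, 4} : Finset (ZMod 7)), f i := by
        rw [add_assoc, ← Finset.sum_union (by decide), ← Finset.sum_insert (f := f) (a := 0) (by decide)]
        exact Finset.sum_congr (by decide) fun i _ => rfl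
      have ha : (∑ i ∈ eA, f i) = f 0 + ∑ i ∈ ({3, 5, 6} : Finset (ZMod 7)), f i :=
        Finset.sum_insert (f := f) (a := 0) (by decide)
      have hb : (∑ i ∈ eB, f i) = f 0 + ∑ i ∈ ({1, 2, 4} : Finset (ZMod 7)), f i :=
        Finset.sum_insert (f := f) (a := 0) (by decide)
      rw [hu, ha, hb]
      generalize f 0 = a
      generalize (∑ i ∈ ({3, 5, 6} : Finset (ZMod 7)), f i) = b
      generalize (∑ i ∈ ({1, 2, 4} : Finset (ZMod 7)), f i) = c
      calc a + b + c + (a + b) + (a + c) = a + ((a + b) + (a + b)) + (c + c) := by abel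
        _ = a := by rw [S.two, S.two, add_zero, add_zero]
    have := h3 fun i => S.φ (g ^ i.val) w
    simpa [op, ZMod.val_zero, S.φ_one] using this
  have hop : ∀ s, ∀ w, S.op g s (S.φ g w) = S.φ g (S.op g s w) := fun s w => by
    simp only [op, map_sum, ← S.φ_mul]
    exact Finset.sum_congr rfl fun i _ => by rw [← pow_succ, ← pow_succ']
  have hopx : ∀ s, ∀ w, S.op g s (S.φ S.x w) = S.φ S.x (S.op g s w) := fun s w => by
    simp only [op, map_sum, ← S.φ_mul]
    exact Finset.sum_congr rfl fun i _ => by rw [Subgroup.mem_center_iff.1 S.x_center]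
  have main : ∀ e, (Finset.univ.filter fun i => -i ∈ e) = eA ∨ (Finset.univ.filter fun i => -i ∈ e) = eB →
      conv7 e e = e → conv7 Finset.univ e = ∅ → conv7 (Finset.univ.filter fun i => -i ∈ e) e = ∅ →
      ((∀ w, S.op g e w = 0) ∨ Nat.card {w : V // S.op g e w = w} = 64) := by
    intro e he hee hue hne
    let A : AddSubgroup V :=
      { carrier := {w | S.op g e w = w}
        zero_mem' := by simp [op]
        add_mem' := by
          intro a b ha hb
          show S.op g e (a + b) = a + b
          rw [S.op_map_add, ha, hb]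
        neg_mem' := by
          intro a ha
          show S.op g e (-a) = -a
          rwa [neg_eq_of_add_eq_zero_left (S.two a)] }
    have hmem : ∀ w, w ∈ A ↔ S.op g e w = w := fun w => Iff.rfl
    let σ : ∀ l : L, (∀ w, S.op g e (S.φ l w) = S.φ l (S.op g e w)) → Equiv.Perm A := fun l hl =>
      { toFun := fun a => ⟨S.φ l a.1, by rw [hmem, hl, (hmem _).1 a.2]⟩
        invFun := fun a => ⟨(S.φ l).symm a.1, by
          rw [hmem]
          apply (S.φ l).injective
          rw [← hl, AddEquiv.apply_symm_apply, (hmem _).1 a.2]⟩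
        left_inv := fun a => Subtype.ext ((S.φ l).symm_apply_apply a.1)
        right_inv := fun a => Subtype.ext ((S.φ l).apply_symm_apply a.1) }
    have hσpow : ∀ l hl (n : ℕ) (a : A), ((σ l hl ^ n) a).1 = S.φ (l ^ n) a.1 := by
      intro l hl n
      induction n with
      | zero => intro a; rw [pow_zero, pow_zero, S.φ_one]; rfl
      | succ n ih =>
        intro a
        rw [pow_succ', Equiv.Perm.mul_apply, pow_succ', S.φ_mul, ← ih]
        rfl
    have h7 : Nat.card A % 7 = 1 := card_mod_of_unique_fixed (σ g (hop e)) (by norm_num)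
      (Equiv.ext fun a => Subtype.ext (by rw [hσpow g (hop e), hg, S.φ_one]; rfl)) 0 fun a => by
      refine ⟨fun h => Subtype.ext ?_, fun h => by subst h; exact Subtype.ext (map_zero _)⟩
      have hw : S.φ g a.1 = a.1 := congrArg Subtype.val h
      have hsc : S.op g Finset.univ a.1 = a.1 := by
        simp only [op, hfixpow _ hw, Finset.sum_const, Finset.card_univ, ZMod.card]
        rw [S.smul_two_mod]
        rfl
      rw [← hsc, ← (hmem _).1 a.2, S.op_op hg, hue, S.op_empty]
      rfl
    have h3 : Nat.card A % 3 = 1 := card_mod_of_unique_fixed (σ S.x (hopx e)) (by norm_num)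
      (Equiv.ext fun a => Subtype.ext (by rw [hσpow S.x (hopx e), S.x3, S.φ_one]; rfl)) 0 fun a => by
      refine ⟨fun h => Subtype.ext (hfix _ (congrArg Subtype.val h)),
        fun h => by subst h; exact Subtype.ext (map_zero _)⟩
    have hdvd : Nat.card A ∣ 2 ^ 12 := by
      have := AddSubgroup.card_addSubgroup_dvd_card A
      rwa [S.card_V] at this
    obtain ⟨a, ha, hcard⟩ := (Nat.dvd_prime_pow Nat.prime_two).1 hdvd
    rw [hcard] at h7 h3
    have hiso : ∀ p ∈ A, ∀ q ∈ A, S.b p q = 0 := by
      intro p hp q hq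
      rw [← (hmem p).1 hp, ← (hmem q).1 hq, S.op_adjoint hg, S.op_op hg, hne, S.op_empty]
      have := S.b_add p 0 0
      rw [add_zero] at this
      exact left_eq_add.1 this
    rcases pow_two_cases ⟨a, by omega⟩ h7 h3 with h | h | h <;> change a = _ at h <;> subst h
    · left
      intro w
      have hA : A = ⊥ := AddSubgroup.eq_bot_of_card_eq _ hcard
      have : S.op g e w ∈ A := by rw [hmem, S.op_op hg, hee]
      rwa [hA, AddSubgroup.mem_bot] at this
    · right
      exact hcard
    · exfalso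
      have hA : A = ⊤ := AddSubgroup.eq_top_of_card_eq A (by rw [hcard, S.card_V]; norm_num)
      obtain ⟨w, hw⟩ : ∃ w : V, w ≠ 0 := by
        by_contra hall
        push Not at hall
        refine hg1 (S.faithful g fun w => ?_)
        rw [hall (S.φ g w), hall w]
      obtain ⟨q, hq⟩ := S.nondeg w hw
      exact hq (hiso w (hA ▸ AddSubgroup.mem_top w) q (hA ▸ AddSubgroup.mem_top q))
  have hcomb : (∀ w, S.op g eA w = 0) → (∀ w, S.op g eB w = 0) → False := by
    intro hA hB
    refine hg1 (S.faithful g fun w => ?_)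
    have hU : ∀ w, S.φ g (S.op g Finset.univ w) = S.op g Finset.univ w := by
      intro w
      simp only [op, map_sum, ← S.φ_mul]
      refine Fintype.sum_equiv (Equiv.addLeft (1 : ZMod 7)) _ _ fun i => ?_
      rw [Equiv.coe_addLeft, ← pow_succ', ZMod.val_add, ← pow_eq_pow_mod _ hg]
      rw [show (1 : ZMod 7).val = 1 from rfl, add_comm]
    have := hsplit w
    rw [hA, hB, add_zero, add_zero] at this
    rw [← this]
    exact hU w
  -- one idempotent vanishing kills the other
  have hvan : ∀ e e', (Finset.univ.filter fun i => -i ∈ e) = e' → conv7 Finset.univ e = ∅ →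
      conv7 e' e = ∅ → (∀ w, S.op g e' w = 0) →
      (∀ w, S.op g Finset.univ w + S.op g e w + S.op g e' w = w) → ∀ w, S.op g e w = 0 := by
    intro e e' hneg hue hee' hz hsum w
    by_contra hne
    obtain ⟨q, hq⟩ := S.nondeg _ hne
    refine hq ?_
    have hsum' := hsum q
    rw [hz q, add_zero] at hsum'
    rw [← hsum', S.b_add, S.b_comm _ (S.op g Finset.univ q), S.op_adjoint hg Finset.univ,
      ← hnU, S.op_op hg, hue, S.op_empty, S.op_adjoint hg e, hneg, S.op_op hg, hee', S.op_empty]
    have := S.b_add q 0 0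
    rw [add_zero] at this
    have := S.b_add w 0 0
    rw [add_zero] at this
    simp [left_eq_add.1 this, left_eq_add.1 ‹S.b q 0 = S.b q 0 + S.b q 0›]
  rcases main eA (Or.inr hnA) hAA hUA (by rw [hnA]; exact hBA) with hA | hA
  · exact (hcomb hA (hvan eB eA hnB hUB hAB hA fun w => by
      rw [add_right_comm]; exact hsplit w)).elim
  rcases main eB (Or.inl hnB) hBB hUB (by rw [hnB]; exact hAB) with hB | hB
  · exact (hcomb (hvan eA eB hnA hUA hBA hB hsplit) hB).elim
  -- both of order 2^6
  let f : {w : V // S.op g eA w = w} × {w : V // S.op g eB w = w} → V := fun p => p.1.1 + p.2.1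
  have hf : Function.Injective f := by
    intro p q h
    have h' : p.1.1 + p.2.1 = q.1.1 + q.2.1 := h
    have hxA : ∀ w : {w : V // S.op g eB w = w}, S.op g eA w.1 = 0 := fun w => by
      rw [← w.2, S.op_op hg, hAB, S.op_empty]
    have hxB : ∀ w : {w : V // S.op g eA w = w}, S.op g eB w.1 = 0 := fun w => by
      rw [← w.2, S.op_op hg, hBA, S.op_empty]
    have e1 := congrArg (S.op g eA) h'
    have e2 := congrArg (S.op g eB) h'
    rw [S.op_map_add, S.op_map_add, p.1.2, q.1.2, hxA, hxA, add_zero, add_zero] at e1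
    rw [S.op_map_add, S.op_map_add, p.2.2, q.2.2, hxB, hxB, zero_add, zero_add] at e2
    exact Prod.ext (Subtype.ext e1) (Subtype.ext e2)
  obtain ⟨⟨p, q⟩, hpq⟩ := ((Nat.bijective_iff_injective_and_card f).2
    ⟨hf, by rw [Nat.card_prod, hA, hB, S.card_V]⟩).2 v
  have hv' : S.op g Finset.univ v = v := by
    simp only [op, hfixpow _ hv, Finset.sum_const, Finset.card_univ, ZMod.card]
    rw [S.smul_two_mod]
    rfl
  have hpq' : p.1 + q.1 = v := hpq
  rw [← hv', ← hpq', S.op_map_add, ← p.2, ← q.2, S.op_op hg, S.op_op hg, hUA, hUB, S.op_empty, S.op_empty, add_zero]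

end Setting

end CfsgLib.LargeFischer
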