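import Cfsg.Agent.LargeFischer.Defs
import Cfsg.Agent.Forms.UFourTwo
import Cfsg.Agent.FischerTypes.OrthSixMinus
import Cfsg.Agent.FischerTypes.M22PairCent

/-!
# The stabiliser of a vector in the orbit of size 378

The stabiliser acts on the four-dimensional Hermitian space `v^⊥/⟨v⟩`; it is `O₆⁻(2)`.
-/

set_option autoImplicit false
set_option linter.unusedSectionVars false
set_option maxRecDepth 100000
set_option maxHeartbeats 1000000

namespace CfsgLib.LargeFischer

open CfsgLib.Linear Matrix

/-- The weight of a coordinate. -/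
def nW (a : W) : ZMod 2 := if a = 0 then 0 else 1

/-- The polar form of the weight. -/
def bW (a c : W) : ZMod 2 := nW (a + c) + nW a + nW c

/-- Coordinates as field elements. -/
def toGF (a : W) : GF4 := ⟨a.1, a.2⟩

/-- Field elements as coordinates. -/
def ofGF (a : GF4) : W := (a.re, a.im)

/-- The primitive element. -/
def om : GF4 := ⟨0, 1⟩

theorem gf_facts :
    (∀ a : W, ofGF (toGF a) = a) ∧ (∀ a : GF4, toGF (ofGF a) = a) ∧
    (∀ a b : W, toGF (a + b) = toGF a + toGF b) ∧ (∀ a b : GF4, ofGF (a + b) = ofGF a + ofGF b) ∧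
    (∀ a : GF4, ofGF (om * a) = rW (ofGF a)) ∧ (∀ a : W, toGF (rW a) = om * toGF a) ∧
    (∀ a : GF4, a = 0 ∨ a = 1 ∨ a = om ∨ a = om * om) ∧
    (∀ a c : GF4, (a * (c * c)).im = bW (ofGF a) (ofGF c)) ∧
    (∀ a b : GF4, a.im = b.im → (om * a).im = (om * b).im → a = b) ∧
    (∀ a : GF4, a ≠ 0 → a * (a * a) = 1) ∧
    (∀ (k : ZMod 3) (a : W), toGF (rk k a) = (if k = 0 then 1 else if k = 1 then om else om * om) * toGF a) := by
  decide +kernel

/-- The base vector. -/
def vBase : Fin 6 → W := ![(1, 0), (1, 0), 0, 0, 0, 0]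

/-- A vector supported on the last four coordinates. -/
def embW (u : Fin 4 → W) : Fin 6 → W := ![0, 0, u 0, u 1, u 2, u 3]

/-- The radical line. -/
def dW (a : W) : Fin 6 → W := ![a, a, 0, 0, 0, 0]

/-- The last four coordinates. -/
def lastW (w : Fin 6 → W) : Fin 4 → W := ![w 2, w 3, w 4, w 5]

/-- Extension of a shift vector. -/
def extK (k : Fin 4 → ZMod 3) : Fin 6 → ZMod 3 := ![0, 0, k 0, k 1, k 2, k 3]

theorem lastW_add (w w' : Fin 6 → W) : lastW (w + w') = lastW w + lastW w' := by
  funext i; fin_cases i <;> rfl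

theorem lastW_embW (u : Fin 4 → W) : lastW (embW u) = u := by
  funext i; fin_cases i <;> rfl

theorem lastW_dW (a : W) : lastW (dW a) = 0 := by
  funext i; fin_cases i <;> rfl

theorem embW_add (u u' : Fin 4 → W) : embW (u + u') = embW u + embW u' := by
  funext i; fin_cases i <;> simp [embW]

theorem dW_add (a a' : W) : dW (a + a') = dW a + dW a' := by
  funext i; fin_cases i <;> simp [dW]

theorem embW_rW (u : Fin 4 → W) : embW (fun i => rW (u i)) = fun i => rW (embW u i) := by
  funext i; fin_cases i <;> simp [embW]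

theorem dW_rW (a : W) : dW (rW a) = fun i => rW (dW a i) := by
  funext i; fin_cases i <;> simp [dW]

theorem split_perp (w : Fin 6 → W) (h : w 0 = w 1) : embW (lastW w) + dW (w 0) = w := by
  funext i; fin_cases i <;> simp [embW, lastW, dW, h]

theorem perp_two : ∀ a a' : W, bW a (1, 0) + bW a' (1, 0) = 0 →
    bW a (rW (1, 0)) + bW a' (rW (1, 0)) = 0 → a = a' := by decide +kernel

theorem bW_self_pair : ∀ a c : W, bW a c + bW a c = 0 := by decide +kernel

theorem bW_zero : ∀ a : W, bW a 0 = 0 ∧ bW 0 a = 0 := by decide +kernel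

theorem bW_eq : ∀ a a' : W, (∀ c, bW a c = bW a' c) → a = a' := by decide +kernel

theorem card_class : ∀ c : ZMod 3, (Finset.univ.filter fun w : Fin 6 → W =>
    (suppW w).card = 2 ∨ ((suppW w).card = 6 ∧ classW w = c)).card = 378 := by
  decide +kernel

theorem vBase_facts : (suppW vBase).card = 2 ∧ vBase 0 = (1, 0) ∧ vBase 1 = (1, 0) ∧ dW (1, 0) = vBase := by
  decide +kernel

theorem rad_value : ∀ a : W, nW ((1, 0) + a) + nW a = 1 → a = 0 ∨ a = (1, 0) := by decide +kernel

/-- The scaling attached to a shift vector. -/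
def scaleA (k : Fin 4 → ZMod 3) (a : Fin 4 → GF4) : Fin 4 → GF4 :=
  fun i => (if k i = 0 then 1 else if k i = 1 then om else om * om) * a i

/-- A shift with sum zero. -/
def kPair (m : ZMod 3) (i : Fin 4) (d : Fin 4) : Fin 4 → ZMod 3 :=
  fun j => if j = i then m else if j = i + d then -m else 0

theorem kPair_sum : ∀ (m : ZMod 3) (i : Fin 4) (d : Fin 4), d ≠ 0 → ∑ j, extK (kPair m i d) j = 0 := by
  decide +kernel

/-- Permutations of the last four coordinates. -/
def swapPerm (t : Fin 4) : Equiv.Perm (Fin 6) :=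
  ![1, Equiv.swap 2 3 * Equiv.swap 4 5, Equiv.swap 2 4 * Equiv.swap 3 5, Equiv.swap 2 5 * Equiv.swap 3 4] t

/-- The corresponding permutations of four coordinates. -/
def swapFour (t : Fin 4) : Fin 4 → Fin 4 :=
  ![id, ![1, 0, 3, 2], ![2, 3, 0, 1], ![3, 2, 1, 0]] t

theorem swap_facts : (∀ t, Equiv.Perm.sign (swapPerm t) = 1) ∧
    (∀ t, swapPerm t 0 = 0 ∧ swapPerm t 1 = 1) ∧
    (∀ t i, swapFour t (swapFour t i) = i) ∧
    (∀ i j, ∃ t, swapFour t i = j) ∧
    (∀ t (u : Fin 6 → Fin 6) , u = (fun i => swapPerm t i) →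
      (∀ i : Fin 4, u ⟨i.val + 2, by omega⟩ = ⟨(swapFour t i).val + 2, by omega⟩)) := by
  refine ⟨by decide +kernel, by decide +kernel, by decide +kernel, by decide +kernel, ?_⟩
  intro t u hu
  subst hu
  revert t
  decide +kernel

section

variable {L V : Type*} [Group L] [AddCommGroup V] {S : Setting L V} (F : Frame S)

theorem phi_one (w : V) : S.φ 1 w = w :=
  (S.φ 1).injective (by rw [← S.φ_mul, one_mul])

theorem phi_inv_cancel (l : L) (w : V) : S.φ l⁻¹ (S.φ l w) = w := by
  rw [← S.φ_mul, inv_mul_cancel, phi_one]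

theorem phi_x_comm (l : L) (w : V) : S.φ l (S.φ S.x w) = S.φ S.x (S.φ l w) := by
  rw [← S.φ_mul, ← S.φ_mul, Subgroup.mem_center_iff.1 S.x_center l]

theorem polar_inv (l : L) (u w : V) : S.b (S.φ l u) (S.φ l w) = S.b u w := by
  have h1 := S.q_add (S.φ l u) (S.φ l w)
  rw [← map_add, S.q_inv, S.q_inv, S.q_inv, S.q_add] at h1
  exact (add_left_cancel h1).symm

theorem weight_eq (w : Fin 6 → W) : ((suppW w).card : ZMod 2) = ∑ i, nW (w i) := by
  rw [suppW, Finset.card_filter, Nat.cast_sum]
  refine Finset.sum_congr rfl fun i _ => ?_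
  by_cases h : w i = 0 <;> simp [nW, h]

theorem q_eq (w : V) : S.q w = ∑ i, nW (F.coord w i) := by rw [F.q_coord, weight_eq]

theorem polar_eq (u w : V) : S.b u w = ∑ i, bW (F.coord u i) (F.coord w i) := by
  have h1 := S.q_add u w
  rw [q_eq F, q_eq F, q_eq F, map_add] at h1
  simp only [bW, Finset.sum_add_distrib, Pi.add_apply] at *
  rw [h1]
  have e : ∀ x y z : ZMod 2, x + y + z + x + y = z := by decide
  exact (e _ _ _).symm

/-- The base vector in the module. -/
def v0 : V := F.coord.symm vBase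

/-- The embedding of the four-dimensional space. -/
def E4 (u : Fin 4 → GF4) : V := F.coord.symm (embW fun i => ofGF (u i))

/-- The radical line. -/
def D1 (a : W) : V := F.coord.symm (dW a)

theorem coord_E4 (u : Fin 4 → GF4) : F.coord (E4 F u) = embW fun i => ofGF (u i) :=
  F.coord.apply_symm_apply _

theorem coord_D1 (a : W) : F.coord (D1 F a) = dW a := F.coord.apply_symm_apply _

theorem coord_v0 : F.coord (v0 F) = vBase := F.coord.apply_symm_apply _

/-- The last four coordinates as field elements. -/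
def last4 (w : V) : Fin 4 → GF4 := fun i => toGF (lastW (F.coord w) i)

/-- The hyperplane condition. -/
def Perp (w : V) : Prop := F.coord w 0 = F.coord w 1

theorem perp_split {w : V} (h : Perp F w) : E4 F (last4 F w) + D1 F (F.coord w 0) = w := by
  apply F.coord.injective
  rw [map_add, coord_E4, coord_D1]
  have e : (fun i => ofGF (last4 F w i)) = lastW (F.coord w) := funext fun i => gf_facts.1 _
  rw [e]
  exact split_perp _ h

theorem perp_E4 (u : Fin 4 → GF4) : Perp F (E4 F u) := by
  rw [Perp, coord_E4]; rfl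

theorem perp_D1 (a : W) : Perp F (D1 F a) := by
  rw [Perp, coord_D1]; rfl

theorem last4_E4 (u : Fin 4 → GF4) : last4 F (E4 F u) = u := by
  funext i
  simp only [last4, coord_E4, lastW_embW]
  exact gf_facts.2.1 _

theorem last4_add (w w' : V) : last4 F (w + w') = last4 F w + last4 F w' := by
  funext i
  simp only [last4, map_add, lastW_add, Pi.add_apply]
  exact gf_facts.2.2.1 _ _

theorem last4_D1 (a : W) : last4 F (D1 F a) = 0 := by
  funext i
  simp only [last4, coord_D1, lastW_dW, Pi.zero_apply]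
  rfl

theorem E4_add (u u' : Fin 4 → GF4) : E4 F (u + u') = E4 F u + E4 F u' := by
  simp only [E4, ← map_add, ← embW_add]
  congr 2

theorem E4_om (u : Fin 4 → GF4) : E4 F (om • u) = S.φ S.x (E4 F u) := by
  apply F.coord.injective
  funext i
  rw [F.coord_x, coord_E4, coord_E4]
  have e : (fun j => ofGF ((om • u) j)) = fun j => rW (ofGF (u j)) := funext fun j => by
    rw [Pi.smul_apply, smul_eq_mul]; exact gf_facts.2.2.2.2.1 _
  rw [e, embW_rW]

theorem last4_x (w : V) : last4 F (S.φ S.x w) = om • last4 F w := by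
  funext i
  rw [Pi.smul_apply, smul_eq_mul]
  show toGF (lastW (F.coord (S.φ S.x w)) i) = om * toGF (lastW (F.coord w) i)
  rw [← gf_facts.2.2.2.2.2.1]
  fin_cases i <;> simp [lastW, F.coord_x]

/-- The stabiliser of the base vector in `L`. -/
def stabBase : Subgroup L where
  carrier := {l | S.φ l (v0 F) = v0 F}
  mul_mem' {a b} ha hb := by
    show S.φ (a * b) (v0 F) = v0 F
    rw [S.φ_mul, hb, ha]
  one_mem' := phi_one _
  inv_mem' {a} ha := by
    show S.φ a⁻¹ (v0 F) = v0 F
    conv_lhs => rw [← ha]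
    rw [phi_inv_cancel]

theorem mem_stabBase {l : L} : l ∈ stabBase F ↔ S.φ l (v0 F) = v0 F := Iff.rfl

theorem fix_D1 {l : L} (hl : l ∈ stabBase F) (a : W) : S.φ l (D1 F a) = D1 F a := by
  have h1 : D1 F (1, 0) = v0 F := by rw [D1, v0, vBase_facts.2.2.2]
  have hx : ∀ b, D1 F (rW b) = S.φ S.x (D1 F b) := fun b => by
    apply F.coord.injective
    funext i
    rw [F.coord_x, coord_D1, coord_D1, dW_rW]
  have hr : ∀ b : W, b = 0 ∨ b = (1, 0) ∨ b = rW (1, 0) ∨ b = rW (rW (1, 0)) := by decide +kernel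
  have h0 : D1 F 0 = 0 := by
    apply F.coord.injective
    rw [coord_D1, map_zero]
    funext i; fin_cases i <;> rfl
  rcases hr a with rfl | rfl | rfl | rfl
  · rw [h0, map_zero]
  · rw [h1, hl]
  · rw [hx, phi_x_comm, h1, hl]
  · rw [hx, hx, phi_x_comm, phi_x_comm, h1, hl]

theorem perp_of_polar {w : V} (h : ∀ a, S.b w (D1 F a) = 0) : Perp F w := by
  refine perp_two _ _ ?_ ?_
  · have h1 := h (1, 0)
    rw [polar_eq F, coord_D1, Fin.sum_univ_six] at h1
    simpa [dW, bW_zero] using h1
  · have h1 := h (rW (1, 0))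
    rw [polar_eq F, coord_D1, Fin.sum_univ_six] at h1
    simpa [dW, bW_zero] using h1

theorem polar_perp {w : V} (h : Perp F w) (a : W) : S.b w (D1 F a) = 0 := by
  rw [polar_eq F, coord_D1, Fin.sum_univ_six]
  have h' : F.coord w 0 = F.coord w 1 := h
  simp [dW, bW_zero, h', bW_self_pair]

theorem perp_map {l : L} (hl : l ∈ stabBase F) {w : V} (h : Perp F w) : Perp F (S.φ l w) :=
  perp_of_polar F fun a => by
    rw [← fix_D1 F hl a, polar_inv]
    exact polar_perp F h a

theorem last4_map {l : L} (hl : l ∈ stabBase F) {w : V} (h : Perp F w) :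
    last4 F (S.φ l w) = last4 F (S.φ l (E4 F (last4 F w))) := by
  conv_lhs => rw [← perp_split F h]
  rw [map_add, fix_D1 F hl, last4_add, last4_D1, add_zero]

/-- The action on the four-dimensional space. -/
def linR (l : stabBase F) : (Fin 4 → GF4) →ₗ[GF4] (Fin 4 → GF4) where
  toFun u := last4 F (S.φ (l : L) (E4 F u))
  map_add' u u' := by rw [E4_add, map_add, last4_add]
  map_smul' a u := by
    have hom : ∀ u, last4 F (S.φ (l : L) (E4 F (om • u))) = om • last4 F (S.φ (l : L) (E4 F u)) := fun u => by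
      rw [E4_om, phi_x_comm, last4_x]
    rcases gf_facts.2.2.2.2.2.2.1 a with rfl | rfl | rfl | rfl
    · have h0 : E4 F (0 : Fin 4 → GF4) = 0 := by
        have := E4_add F 0 0
        rw [add_zero] at this
        exact left_eq_add.1 this
      have h1 : last4 F (0 : V) = 0 := by
        have := last4_add F 0 0
        rw [add_zero] at this
        exact left_eq_add.1 this
      simp only [zero_smul, RingHom.id_apply, h0, map_zero, h1]
    · simp
    · exact hom u
    · show last4 F (S.φ (l : L) (E4 F ((om * om) • u))) = (om * om) • last4 F (S.φ (l : L) (E4 F u))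
      rw [mul_smul, mul_smul, hom, hom]

theorem linR_apply (l : stabBase F) (u : Fin 4 → GF4) : linR F l u = last4 F (S.φ (l : L) (E4 F u)) := rfl

theorem linR_mul (a b : stabBase F) : linR F (a * b) = (linR F a).comp (linR F b) := by
  apply LinearMap.ext
  intro u
  show last4 F (S.φ ((a : L) * (b : L)) (E4 F u)) = last4 F (S.φ (a : L) (E4 F (last4 F (S.φ (b : L) (E4 F u)))))
  rw [S.φ_mul, last4_map F a.2 (perp_map F b.2 (perp_E4 F u))]

theorem linR_one : linR F 1 = LinearMap.id := by
  apply LinearMap.ext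
  intro u
  show last4 F (S.φ 1 (E4 F u)) = u
  rw [phi_one, last4_E4]

/-- The matrix representation. -/
def repM : stabBase F →* Matrix (Fin 4) (Fin 4) GF4 where
  toFun l := LinearMap.toMatrix' (linR F l)
  map_one' := by rw [linR_one, LinearMap.toMatrix'_id]
  map_mul' a b := by rw [linR_mul, LinearMap.toMatrix'_comp]

theorem repM_mulVec (l : stabBase F) (u : Fin 4 → GF4) : repM F l *ᵥ u = linR F l u :=
  LinearMap.toMatrix'_mulVec _ _

theorem herm_im {w w' : V} (h : Perp F w) (h' : Perp F w') :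
    (Cfsg.hermForm 4 GF4 2 (last4 F w) (last4 F w')).im = S.b w w' := by
  rw [CfsgLib.Forms.UFourTwo.hermForm_eq, polar_eq F, Fin.sum_univ_four, Fin.sum_univ_six]
  have hp : F.coord w 0 = F.coord w 1 := h
  have hp' : F.coord w' 0 = F.coord w' 1 := h'
  rw [hp, hp', bW_self_pair, zero_add]
  simp only [QuadraticAlgebra.im_add]
  rw [gf_facts.2.2.2.2.2.2.2.1, gf_facts.2.2.2.2.2.2.2.1, gf_facts.2.2.2.2.2.2.2.1, gf_facts.2.2.2.2.2.2.2.1]
  simp only [last4, gf_facts.1, lastW]
  rfl

theorem herm_linR (l : stabBase F) (u v : Fin 4 → GF4) :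
    Cfsg.hermForm 4 GF4 2 (linR F l u) (linR F l v) = Cfsg.hermForm 4 GF4 2 u v := by
  have him : ∀ u v : Fin 4 → GF4, (Cfsg.hermForm 4 GF4 2 (linR F l u) (linR F l v)).im =
      (Cfsg.hermForm 4 GF4 2 u v).im := fun u v => by
    rw [linR_apply, linR_apply, herm_im F (perp_map F l.2 (perp_E4 F u)) (perp_map F l.2 (perp_E4 F v)),
      polar_inv, ← herm_im F (perp_E4 F u) (perp_E4 F v), last4_E4, last4_E4]
  have hs : ∀ u v : Fin 4 → GF4, Cfsg.hermForm 4 GF4 2 (om • u) v = om * Cfsg.hermForm 4 GF4 2 u v := by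
    intro u v
    simp [Cfsg.hermForm, Finset.mul_sum, mul_assoc]
  refine gf_facts.2.2.2.2.2.2.2.2.1 _ _ (him u v) ?_
  rw [← hs, ← hs, ← (linR F l).map_smul]
  exact him (om • u) v

theorem eq_one_of_fix_perp [Finite L] (hP : 5 ∣ Nat.card (stabBase F))
    (h5 : ∀ t l : L, t ^ 2 = 1 → t ≠ 1 → orderOf l = 5 → ¬ Commute t l)
    {g : L} (hg : g ∈ stabBase F) (h : ∀ w, Perp F w → S.φ g w = w) : g = 1 := by
  by_contra hg1
  have hrad : ∀ g : L, g ∈ stabBase F → (∀ w, Perp F w → S.φ g w = w) →
      ∀ w, ∃ a, S.φ g w + w = D1 F a := by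
    intro g _ h w
    refine ⟨F.coord (S.φ g w + w) 0, ?_⟩
    have hz : ∀ y, Perp F y → S.b (S.φ g w + w) y = 0 := by
      intro y hy
      have e1 : S.b (S.φ g w) y = S.b w y := by
        conv_lhs => rw [← h y hy]
        rw [polar_inv]
      have e2 : S.b (S.φ g w + w) y = S.b (S.φ g w) y + S.b w y := by
        simp only [polar_eq F, map_add, Pi.add_apply, ← Finset.sum_add_distrib]
        refine Finset.sum_congr rfl fun i _ => ?_
        have e : ∀ a a' c : W, bW (a + a') c = bW a c + bW a' c := by decide +kernel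
        exact e _ _ _
      rw [e2, e1]
      exact CharTwo.add_self_eq_zero _
    have hp : Perp F (S.φ g w + w) := perp_of_polar F fun a => hz _ (perp_D1 F a)
    have hlast : last4 F (S.φ g w + w) = 0 := by
      funext i
      show toGF (lastW (F.coord (S.φ g w + w)) i) = 0
      have hi : lastW (F.coord (S.φ g w + w)) i = 0 := by
        refine bW_eq _ _ fun c => ?_
        have h2 := hz (E4 F (Pi.single i (toGF c))) (perp_E4 F _)
        rw [polar_eq F, coord_E4, Fin.sum_univ_six] at h2
        fin_cases i <;>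
          simpa [embW, lastW, bW_zero, gf_facts.1, show ofGF (0 : GF4) = 0 from rfl] using h2
      rw [hi]; rfl
    have h3 := perp_split F hp
    rw [hlast] at h3
    have h0 : E4 F (0 : Fin 4 → GF4) = 0 := by
      have := E4_add F 0 0
      rw [add_zero] at this
      exact left_eq_add.1 this
    rw [h0, zero_add] at h3
    exact h3.symm
  obtain ⟨e, he⟩ : ∃ e : V, e = F.coord.symm (Pi.single 0 (1, 0) : Fin 6 → W) := ⟨_, rfl⟩
  have hall : ∀ g g' : L, g ∈ stabBase F → g' ∈ stabBase F → (∀ w, Perp F w → S.φ g w = w) →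
      (∀ w, Perp F w → S.φ g' w = w) → S.φ g e = S.φ g' e → g = g' := by
    intro g g' hg hg' h h' hee
    have key : ∀ w, S.φ g w = S.φ g' w := by
      intro w
      obtain ⟨a, ha⟩ : ∃ a, a = F.coord w 0 + F.coord w 1 := ⟨_, rfl⟩
      have hsc : ∀ a : W, a = 0 ∨ a = (1, 0) ∨ a = rW (1, 0) ∨ a = rW (rW (1, 0)) := by decide +kernel
      obtain ⟨z, hz, hzw⟩ : ∃ z : V, S.φ g z = S.φ g' z ∧ F.coord z 0 + F.coord z 1 = a := by
        have e0 : F.coord e = (Pi.single 0 (1, 0) : Fin 6 → W) := by rw [he]; exact F.coord.apply_symm_apply _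
        rcases hsc a with rfl | rfl | rfl | rfl
        · exact ⟨0, by simp, by simp⟩
        · exact ⟨e, hee, by simp [e0]⟩
        · exact ⟨S.φ S.x e, by rw [phi_x_comm, phi_x_comm, hee], by simp [F.coord_x, e0]⟩
        · exact ⟨S.φ S.x (S.φ S.x e), by simp only [phi_x_comm, hee],
            by simp [F.coord_x, e0]⟩
      have hp : Perp F (w + z) := by
        have e' : ∀ p q r s : W, r + s = p + q → p + r = q + s := by decide +kernel
        show F.coord (w + z) 0 = F.coord (w + z) 1
        rw [map_add]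
        exact e' _ _ _ _ (hzw.trans ha)
      have h1 := (h _ hp).trans (h' _ hp).symm
      rw [map_add, map_add, hz] at h1
      exact add_right_cancel h1
    have h1 : g'⁻¹ * g = 1 := S.faithful _ fun w => by rw [S.φ_mul, key, phi_inv_cancel]
    exact (inv_mul_eq_one.1 h1).symm
  have hval : ∀ g : L, g ∈ stabBase F → (∀ w, Perp F w → S.φ g w = w) → g ≠ 1 →
      S.φ g e = e + D1 F (1, 0) := by
    intro g hg h hg1
    obtain ⟨a, ha⟩ := hrad g hg h e
    have h1 : S.φ g e = e + D1 F a := by
      rw [← ha, add_comm e, add_assoc, S.two, add_zero]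
    have hq := S.q_inv g e
    rw [h1, q_eq F, q_eq F, map_add, coord_D1, he, F.coord.apply_symm_apply, Fin.sum_univ_six,
      Fin.sum_univ_six] at hq
    simp [dW, nW] at hq
    have hq' : nW ((1, 0) + a) + nW a = 1 := by simpa [nW] using hq
    rcases rad_value a hq' with rfl | rfl
    · exfalso
      refine hg1 (hall g 1 hg (one_mem _) h (fun w _ => phi_one w) ?_)
      rw [h1, phi_one, add_eq_left]
      apply F.coord.injective
      rw [coord_D1, map_zero]
      funext i; fin_cases i <;> rfl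
    · exact h1
  have hg2 : g ^ 2 = 1 := by
    refine hall _ 1 (pow_mem hg 2) (one_mem _) (fun w hw => ?_) (fun w _ => phi_one w) ?_
    · rw [pow_two, S.φ_mul, h w hw, h w hw]
    · rw [pow_two, S.φ_mul, hval g hg h hg1, map_add, hval g hg h hg1, fix_D1 F hg, phi_one, add_assoc,
        S.two, add_zero]
  obtain ⟨l, hl⟩ := exists_prime_orderOf_dvd_card' (G := stabBase F) 5 (hp := ⟨by norm_num⟩) hP
  refine h5 g (l : L) hg2 hg1 (by rw [Subgroup.orderOf_coe, hl]) ?_
  have hc : (l : L) * g * (l : L)⁻¹ ∈ stabBase F := mul_mem (mul_mem l.2 hg) (inv_mem l.2)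
  have hch : ∀ w, Perp F w → S.φ ((l : L) * g * (l : L)⁻¹) w = w := by
    intro w hw
    rw [S.φ_mul, S.φ_mul, h _ (perp_map F (inv_mem l.2) hw), ← S.φ_mul, mul_inv_cancel, phi_one]
  have hne : (l : L) * g * (l : L)⁻¹ ≠ 1 := fun hh => hg1 (by simpa using hh)
  have heq := hall _ g hc hg hch h (by rw [hval _ hc hch hne, hval g hg h hg1])
  show g * (l : L) = (l : L) * g
  exact (mul_inv_eq_iff_eq_mul.1 heq).symm

/-- The radical component of the image of a vector. -/
def radPart (g : L) (u : Fin 4 → GF4) : GF4 := toGF (F.coord (S.φ g (E4 F u)) 0)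

theorem phi_E4_of_triv {g : stabBase F} (h : linR F g = LinearMap.id) (u : Fin 4 → GF4) :
    S.φ (g : L) (E4 F u) = E4 F u + D1 F (ofGF (radPart F (g : L) u)) := by
  conv_lhs => rw [← perp_split F (perp_map F g.2 (perp_E4 F u))]
  rw [show last4 F (S.φ (g : L) (E4 F u)) = u from LinearMap.congr_fun h u]
  rw [radPart, gf_facts.1]

theorem linR_injective [Finite L] (hP : Nat.card (stabBase F) = 25920)
    (h5 : ∀ t l : L, t ^ 2 = 1 → t ≠ 1 → orderOf l = 5 → ¬ Commute t l)
    {g : stabBase F} (hg : linR F g = LinearMap.id) : g = 1 := by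
  classical
  let K : Subgroup (stabBase F) :=
    { carrier := {g | linR F g = LinearMap.id}
      mul_mem' := fun {a b} ha hb => by
        show linR F (a * b) = LinearMap.id
        rw [linR_mul, ha, hb, LinearMap.id_comp]
      one_mem' := linR_one F
      inv_mem' := fun {a} ha => by
        show linR F a⁻¹ = LinearMap.id
        have := linR_mul F a⁻¹ a
        rw [inv_mul_cancel, linR_one, ha, LinearMap.comp_id] at this
        exact this.symm }
  let A : K → (Fin 4 → GF4) := fun g i => radPart F ((g : stabBase F) : L) (Pi.single i 1)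
  have hradd : ∀ (g : K) u u', radPart F ((g : stabBase F) : L) (u + u') =
      radPart F ((g : stabBase F) : L) u + radPart F ((g : stabBase F) : L) u' := by
    intro g u u'
    simp only [radPart, E4_add, map_add, Pi.add_apply]
    exact gf_facts.2.2.1 _ _
  have hrsm : ∀ (g : K) (a : GF4) u, radPart F ((g : stabBase F) : L) (a • u) =
      a * radPart F ((g : stabBase F) : L) u := by
    intro g a u
    have h1 : ∀ u, radPart F ((g : stabBase F) : L) (om • u) = om * radPart F ((g : stabBase F) : L) u := by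
      intro u
      simp only [radPart, E4_om, phi_x_comm, F.coord_x]
      exact gf_facts.2.2.2.2.2.1 _
    rcases gf_facts.2.2.2.2.2.2.1 a with rfl | rfl | rfl | rfl
    · have h0 := hradd g 0 0
      rw [add_zero] at h0
      rw [zero_smul, zero_mul]
      exact left_eq_add.1 h0
    · simp
    · exact h1 u
    · rw [mul_smul, h1, h1, mul_assoc]
  have hrsum : ∀ (g : K) u, radPart F ((g : stabBase F) : L) u = ∑ i, u i * A g i := by
    intro g u
    conv_lhs => rw [show u = u 0 • Pi.single 0 1 + u 1 • Pi.single 1 1 + u 2 • Pi.single 2 1 + u 3 • Pi.single 3 1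
      from by funext i; fin_cases i <;> simp]
    rw [hradd, hradd, hradd, hrsm, hrsm, hrsm, hrsm, Fin.sum_univ_four]
  have hAinj : Function.Injective A := by
    intro g g' hgg
    have hfix : ∀ w, Perp F w → S.φ (((g'⁻¹ * g : K) : stabBase F) : L) w = w := by
      intro w hw
      have e : S.φ ((g : stabBase F) : L) w = S.φ ((g' : stabBase F) : L) w := by
        rw [← perp_split F hw, map_add, map_add, fix_D1 F (g : stabBase F).2, fix_D1 F (g' : stabBase F).2,
          phi_E4_of_triv F g.2, phi_E4_of_triv F g'.2, hrsum, hrsum, hgg]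
      show S.φ (((g' : stabBase F) : L)⁻¹ * ((g : stabBase F) : L)) w = w
      rw [S.φ_mul, e, phi_inv_cancel]
    have h1 := eq_one_of_fix_perp F (hP ▸ by norm_num) h5 ((g'⁻¹ * g : K) : stabBase F).2 hfix
    have h2 : g'⁻¹ * g = 1 := Subtype.ext (Subtype.ext h1)
    exact (inv_mul_eq_one.1 h2).symm
  have hAmul : ∀ g g' : K, A (g * g') = A g + A g' := by
    intro g g'
    funext i
    show toGF (F.coord (S.φ (((g : stabBase F) : L) * ((g' : stabBase F) : L)) (E4 F (Pi.single i 1))) 0) =
      A g i + A g' i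
    rw [S.φ_mul, phi_E4_of_triv F g'.2, map_add, fix_D1 F (g : stabBase F).2, map_add, coord_D1, Pi.add_apply]
    show toGF (_ + ofGF (A g' i)) = _
    rw [gf_facts.2.2.1, gf_facts.2.1]
    rfl
  have hA1 : A 1 = 0 := by
    have := hAmul 1 1
    rw [one_mul] at this
    exact left_eq_add.1 this
  have hconj : ∀ (p : stabBase F) (τ τi : (Fin 4 → GF4) → Fin 4 → GF4), (∀ u, τ (τi u) = u) →
      (∀ u, S.φ (p : L) (E4 F u) = E4 F (τ u)) → ∀ g : K, ∃ g' : K, ∀ i,
      A g' i = ∑ j, τi (Pi.single i 1) j * A g j := by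
    intro p τ τi hτ hp g
    have hmem : p * (g : stabBase F) * p⁻¹ ∈ K := by
      show linR F (p * (g : stabBase F) * p⁻¹) = LinearMap.id
      rw [linR_mul, linR_mul, show linR F (g : stabBase F) = LinearMap.id from g.2, LinearMap.comp_id,
        ← linR_mul, mul_inv_cancel, linR_one]
    refine ⟨⟨_, hmem⟩, fun i => ?_⟩
    rw [← hrsum]
    show toGF (F.coord (S.φ ((p : L) * ((g : stabBase F) : L) * (p : L)⁻¹) (E4 F (Pi.single i 1))) 0) = _
    have hpi : S.φ (p : L)⁻¹ (E4 F (Pi.single i 1)) = E4 F (τi (Pi.single i 1)) := by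
      conv_lhs => rw [← hτ (Pi.single i 1), ← hp]
      exact phi_inv_cancel _ _
    rw [S.φ_mul, S.φ_mul, hpi, phi_E4_of_triv F g.2, map_add, hp, fix_D1 F p.2, hτ, map_add, coord_D1,
      coord_E4, Pi.add_apply]
    show toGF (0 + ofGF (radPart F ((g : stabBase F) : L) (τi (Pi.single i 1)))) = _
    rw [zero_add, gf_facts.2.1]
  have hscale : ∀ (k : Fin 4 → ZMod 3), ∑ j, extK k j = 0 → ∀ g : K, ∃ g' : K, A g' = scaleA k (A g) := by
    intro k hk g
    obtain ⟨l, hl⟩ := F.diag (-extK k) (by simp [hk])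
    have hlP : l ∈ stabBase F := by
      apply F.coord.injective
      funext i
      rw [hl, coord_v0]
      fin_cases i <;> simp [vBase, extK, rk]
    have hτ : ∀ u, scaleA (-k) (scaleA k u) = u := fun u => by
      funext i
      have e : ∀ (c : ZMod 3) (a : GF4), (if -c = 0 then 1 else if -c = 1 then om else om * om) *
          ((if c = 0 then 1 else if c = 1 then om else om * om) * a) = a := by decide +kernel
      exact e _ _
    have hp : ∀ u, S.φ l (E4 F u) = E4 F (scaleA (-k) u) := fun u => by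
      apply F.coord.injective
      funext i
      rw [hl, coord_E4, coord_E4]
      have e : ∀ (c : ZMod 3) (a : GF4), rk c (ofGF a) =
          ofGF ((if c = 0 then 1 else if c = 1 then om else om * om) * a) := by decide +kernel
      have e0 : ∀ c : ZMod 3, rk c 0 = 0 := by decide +kernel
      fin_cases i <;> simp [extK, embW, scaleA, e, e0]
    obtain ⟨g', hg'⟩ := hconj ⟨l, hlP⟩ (scaleA (-k)) (scaleA k) hτ hp g
    refine ⟨g', funext fun i => ?_⟩
    rw [hg' i, Finset.sum_eq_single i]
    · simp [scaleA]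
    · intro j _ hj
      simp [scaleA, hj]
    · simp
  have hswap : ∀ (t : Fin 4) (g : K), ∃ g' : K, A g' = fun i => A g (swapFour t i) := by
    intro t g
    obtain ⟨s1, s2, s3, -, s5⟩ := swap_facts
    obtain ⟨l, hl⟩ := F.perm (swapPerm t) (Equiv.Perm.mem_alternatingGroup.2 (s1 t))
    have hlP : l ∈ stabBase F := by
      apply F.coord.injective
      funext i
      obtain ⟨j, rfl⟩ := (swapPerm t).surjective i
      rw [hl, coord_v0]
      have e : ∀ t j, vBase (swapPerm t j) = vBase j := by decide +kernel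
      exact (e t j).symm
    have hp : ∀ u, S.φ l (E4 F u) = E4 F (fun i => u (swapFour t i)) := fun u => by
      apply F.coord.injective
      funext i
      obtain ⟨j, rfl⟩ := (swapPerm t).surjective i
      rw [hl, coord_E4, coord_E4]
      fin_cases t <;> fin_cases j <;> rfl
    obtain ⟨g', hg'⟩ := hconj ⟨l, hlP⟩ (fun u i => u (swapFour t i)) (fun u i => u (swapFour t i))
      (fun u => funext fun i => by simp [s3 t i]) hp g
    refine ⟨g', funext fun i => ?_⟩
    rw [hg' i, Finset.sum_eq_single (swapFour t i)]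
    · simp [s3 t i]
    · intro j _ hj
      have : swapFour t j ≠ i := fun h => hj (by rw [← h, s3])
      simp [this]
    · simp
  by_contra hg1
  obtain ⟨g0, hg0⟩ : ∃ g0 : K, A g0 ≠ 0 :=
    ⟨⟨g, hg⟩, fun h => hg1 (congrArg Subtype.val (hAinj (h.trans hA1.symm)))⟩
  obtain ⟨i, hi⟩ : ∃ i, A g0 i ≠ 0 := Function.ne_iff.1 hg0
  obtain ⟨g1, h1⟩ := hscale _ (kPair_sum 1 i 1 (by decide)) g0
  obtain ⟨g2, h2⟩ := hscale _ (kPair_sum 1 i 2 (by decide)) (g0 * g1)
  have hsing : A (g0 * g1 * g2) = Pi.single i (om * A g0 i) := by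
    rw [hAmul, h2, hAmul, h1]
    funext j
    have e : ∀ (i j : Fin 4) (a b : GF4), (j = i → a = b) →
        (a + (if kPair 1 i 1 j = 0 then 1 else if kPair 1 i 1 j = 1 then om else om * om) * a) +
        (if kPair 1 i 2 j = 0 then 1 else if kPair 1 i 2 j = 1 then om else om * om) *
          (a + (if kPair 1 i 1 j = 0 then 1 else if kPair 1 i 1 j = 1 then om else om * om) * a) =
        if j = i then om * b else 0 := by decide +kernel
    rw [Pi.single_apply]
    exact e i j _ _ fun h => by rw [h]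
  have hall1 : ∀ a : GF4, ∃ g : K, A g = Pi.single i a := by
    have hcase : ∀ a b : GF4, b ≠ 0 → a = 0 ∨
        ∃ m : ZMod 3, a = (if m = 0 then 1 else if m = 1 then om else om * om) * b := by decide +kernel
    have hne : ∀ a : GF4, a ≠ 0 → om * a ≠ 0 := by decide +kernel
    intro a
    rcases hcase a _ (hne _ hi) with rfl | ⟨m, rfl⟩
    · exact ⟨1, by rw [hA1, Pi.single_zero]⟩
    · obtain ⟨g3, h3⟩ := hscale _ (kPair_sum m i 1 (by decide)) (g0 * g1 * g2)
      refine ⟨g3, ?_⟩
      rw [h3, hsing]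
      funext j
      by_cases hj : j = i
      · subst hj; simp [scaleA, kPair]
      · simp [scaleA, hj]
  have hall : ∀ (j : Fin 4) (a : GF4), ∃ g : K, A g = Pi.single j a := by
    intro j a
    obtain ⟨t, ht⟩ := swap_facts.2.2.2.1 j i
    obtain ⟨g4, h4⟩ := hall1 a
    obtain ⟨g5, h5'⟩ := hswap t g4
    refine ⟨g5, ?_⟩
    rw [h5', h4]
    funext k
    by_cases hk : k = j
    · subst hk; simp [ht]
    · have : swapFour t k ≠ i := fun h => hk (by rw [← swap_facts.2.2.1 t k, h, ← ht, swap_facts.2.2.1])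
      simp [hk, this]
  have hsurj : Function.Surjective A := by
    intro a
    obtain ⟨a0, e0⟩ := hall 0 (a 0)
    obtain ⟨a1, e1⟩ := hall 1 (a 1)
    obtain ⟨a2, e2⟩ := hall 2 (a 2)
    obtain ⟨a3, e3⟩ := hall 3 (a 3)
    refine ⟨a0 * a1 * a2 * a3, ?_⟩
    rw [hAmul, hAmul, hAmul, e0, e1, e2, e3]
    funext k; fin_cases k <;> simp
  have hc : Nat.card K = 256 := by
    rw [Nat.card_eq_of_bijective A ⟨hAinj, hsurj⟩]
    simp [card_gf4]
  have hd := K.card_subgroup_dvd_card
  rw [hc, hP] at hd
  norm_num at hd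

end

end CfsgLib.LargeFischer
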