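import Cfsg.Agent.LargeFischer.StabA

/-!
# The stabiliser of a vector in the orbit of size 378 is `O₆⁻(2)`
-/

set_option autoImplicit false
set_option linter.unusedSectionVars false
set_option maxRecDepth 100000
set_option maxHeartbeats 1000000

namespace CfsgLib.LargeFischer

open CfsgLib.Linear Matrix
open scoped MatrixGroups

theorem gf_two : ((2 : ℕ) : GF4) = 0 := by decide +kernel

section

variable {L V : Type*} [Group L] [AddCommGroup V] {S : Setting L V} (F : Frame S) (c : ZMod 3)

theorem card_InA [Finite V] : Nat.card {w : V // F.InA c w} = 378 := by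
  classical
  have e : Nat.card {w : V // F.InA c w} =
      Nat.card {w : Fin 6 → W // (suppW w).card = 2 ∨ ((suppW w).card = 6 ∧ classW w = c)} :=
    Nat.card_congr (Equiv.subtypeEquiv F.coord.toEquiv fun _ => Iff.rfl)
  rw [e, Nat.card_eq_fintype_card, Fintype.card_subtype]
  exact card_class c

theorem inA_v0 : F.InA c (v0 F) := Or.inl (by rw [coord_v0]; exact vBase_facts.1)

theorem card_stabBase [Finite L] [Finite V] (hcard : Nat.card L = 9797760)
    (hinv : ∀ l w, F.InA c w → F.InA c (S.φ l w))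
    (htr : ∀ u w, F.InA c u → F.InA c w → ∃ l, S.φ l u = w) :
    Nat.card (stabBase F) = 25920 := by
  let _ : MulAction L V :=
    { smul := fun l w => S.φ l w
      one_smul := fun w => phi_one w
      mul_smul := fun a b w => S.φ_mul a b w }
  have hst : MulAction.stabilizer L (v0 F) = stabBase F := Subgroup.ext fun l => Iff.rfl
  have horb : MulAction.orbit L (v0 F) = {w | F.InA c w} := Set.ext fun w =>
    ⟨fun ⟨l, hl⟩ => hl ▸ hinv l _ (inA_v0 F c), fun h => (htr _ _ (inA_v0 F c) h)⟩
  have h1 : Nat.card (MulAction.orbit L (v0 F)) = 378 := by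
    rw [horb]; exact card_InA F c
  have h2 := Nat.card_congr (MulAction.orbitEquivQuotientStabilizer L (v0 F))
  rw [h1, ← Subgroup.index, hst] at h2
  have h3 := (stabBase F).card_mul_index
  rw [← h2, hcard] at h3
  omega

theorem exists_iso_su [Finite L] (hP : Nat.card (stabBase F) = 25920)
    (h5 : ∀ t l : L, t ^ 2 = 1 → t ≠ 1 → orderOf l = 5 → ¬ Commute t l) :
    Nonempty (stabBase F ≃* Cfsg.PSU 4 GF4 2) := by
  classical
  let Mu : stabBase F →* GL (Fin 4) GF4 := (repM F).toHomUnits
  have hMu : ∀ l, ((Mu l : GL (Fin 4) GF4) : Matrix (Fin 4) (Fin 4) GF4) = repM F l := fun l => rfl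
  let dt : stabBase F →* GF4ˣ := Matrix.GeneralLinearGroup.det.comp Mu
  have hd3 : ∀ d : GF4ˣ, (d : GF4) * ((d : GF4) * (d : GF4)) = 1 := fun d =>
    gf_facts.2.2.2.2.2.2.2.2.2.1 _ d.ne_zero
  have hdet : ∀ l, ((((dt l)⁻¹ : GF4ˣ) : GF4) • repM F l).det = 1 := by
    intro l
    rw [Matrix.det_smul, Fintype.card_fin]
    have h1 : (repM F l).det = ((dt l : GF4ˣ) : GF4) := rfl
    rw [h1]
    calc (((dt l)⁻¹ : GF4ˣ) : GF4) ^ 4 * (dt l : GF4)
        = ((((dt l)⁻¹ : GF4ˣ) : GF4) * ((((dt l)⁻¹ : GF4ˣ) : GF4) * (((dt l)⁻¹ : GF4ˣ) : GF4))) *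
          ((((dt l)⁻¹ : GF4ˣ) : GF4) * (dt l : GF4)) := by ring
      _ = 1 := by rw [hd3, one_mul, ← Units.val_mul, inv_mul_cancel, Units.val_one]
  let sl : stabBase F → SL(4, GF4) := fun l => ⟨_, hdet l⟩
  have hsu : ∀ l, sl l ∈ Cfsg.SU 4 GF4 2 := by
    intro l u v
    show Cfsg.hermForm 4 GF4 2 (((((dt l)⁻¹ : GF4ˣ) : GF4) • repM F l) *ᵥ u)
      (((((dt l)⁻¹ : GF4ˣ) : GF4) • repM F l) *ᵥ v) = _
    rw [Matrix.smul_mulVec, Matrix.smul_mulVec, repM_mulVec, repM_mulVec]
    have e : ∀ (a : GF4) (u v : Fin 4 → GF4),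
        Cfsg.hermForm 4 GF4 2 (a • u) (a • v) = (a * (a * a)) * Cfsg.hermForm 4 GF4 2 u v := by
      intro a u v
      simp [Cfsg.hermForm, Finset.mul_sum]
      exact Finset.sum_congr rfl fun i _ => by ring
    rw [e, hd3, one_mul]
    exact herm_linR F l u v
  let ψ : stabBase F →* Cfsg.SU 4 GF4 2 :=
    { toFun := fun l => ⟨sl l, hsu l⟩
      map_one' := by
        apply Subtype.ext; apply Subtype.ext
        show (((dt 1)⁻¹ : GF4ˣ) : GF4) • repM F 1 = 1
        rw [map_one, map_one, inv_one, Units.val_one, one_smul]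
      map_mul' := fun a b => by
        apply Subtype.ext; apply Subtype.ext
        show (((dt (a * b))⁻¹ : GF4ˣ) : GF4) • repM F (a * b) =
          ((((dt a)⁻¹ : GF4ˣ) : GF4) • repM F a) * ((((dt b)⁻¹ : GF4ˣ) : GF4) • repM F b)
        rw [map_mul, map_mul, _root_.mul_inv_rev, Units.val_mul, smul_mul_smul_comm, mul_comm (((dt b)⁻¹ : GF4ˣ) : GF4)] }
  have hkd : ∀ l ∈ ψ.ker, repM F l = ((dt l : GF4ˣ) : GF4) • 1 := by
    intro l hl
    have h1 : (((dt l)⁻¹ : GF4ˣ) : GF4) • repM F l = 1 :=
      congrArg (fun g : Cfsg.SU 4 GF4 2 => ((g : SL(4, GF4)) : Matrix (Fin 4) (Fin 4) GF4)) (MonoidHom.mem_ker.1 hl)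
    rw [← h1, smul_smul, ← Units.val_mul, mul_inv_cancel, Units.val_one, one_smul]
  have hinj : Function.Injective (dt.comp ψ.ker.subtype) := by
    refine (injective_iff_map_eq_one _).2 fun l hl => Subtype.ext ?_
    have h1 : dt (l : stabBase F) = 1 := hl
    have h2 := hkd _ l.2
    rw [h1, Units.val_one, one_smul] at h2
    refine linR_injective F hP h5 (LinearMap.ext fun u => ?_)
    rw [← repM_mulVec, h2, Matrix.one_mulVec]
    rfl
  have hk : Nat.card ψ.ker ∣ 3 := by
    have h1 := Subgroup.card_dvd_of_injective _ hinj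
    rwa [Nat.card_units, show Nat.card GF4 = 4 from Nat.card_eq_fintype_card.trans card_gf4] at h1
  have hSU : Nat.card (Cfsg.SU 4 GF4 2) = 25920 := CfsgLib.Forms.UFourTwo.card_SU
  let eP : Cfsg.SU 4 GF4 2 ≃* Cfsg.PSU 4 GF4 2 :=
    (QuotientGroup.quotientBot (G := Cfsg.SU 4 GF4 2)).symm.trans
      (QuotientGroup.quotientMulEquivOfEq CfsgLib.Forms.UFourTwo.center_SU.symm)
  have hsimp : IsSimpleGroup (Cfsg.SU 4 GF4 2) := by
    have := CfsgLib.Forms4.isSimpleGroup_PSU (F := GF4) (q := 2) (by rw [card_gf4]; norm_num) 4 (by norm_num)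
      (by simp)
    have : Nontrivial (Cfsg.SU 4 GF4 2) := eP.toEquiv.nontrivial
    exact IsSimpleGroup.isSimpleGroup_of_surjective eP.symm.toMonoidHom eP.symm.surjective
  have hr : ψ.range.index = Nat.card ψ.ker := by
    have h1 := ψ.range.card_mul_index
    have h2 : Nat.card ψ.range * Nat.card ψ.ker = 25920 := by
      rw [← hP, Nat.card_congr (QuotientGroup.quotientKerEquivRange ψ).symm.toEquiv]
      exact (Subgroup.card_eq_card_quotient_mul_card_subgroup _).symm
    rw [hSU] at h1
    have h0 : 0 < Nat.card ψ.range := Nat.card_pos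
    exact Nat.eq_of_mul_eq_mul_left h0 (h1.trans h2.symm)
  have hk1 : Nat.card ψ.ker = 1 := by
    rcases (Nat.dvd_prime (by norm_num)).1 hk with h | h
    · exact h
    · exfalso
      have hne : ψ.range.normalCore = ⊥ := by
        rcases (inferInstance : ψ.range.normalCore.Normal).eq_bot_or_eq_top with h1 | h1
        · exact h1
        · exfalso
          have h2 : ψ.range = ⊤ := top_le_iff.1 (h1 ▸ Subgroup.normalCore_le ψ.range)
          rw [h2, Subgroup.index_top, h] at hr
          norm_num at hr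
      have h2 : 25920 ∣ Nat.card (Equiv.Perm (Cfsg.SU 4 GF4 2 ⧸ ψ.range)) := by
        rw [← hSU]
        refine Subgroup.card_dvd_of_injective (MulAction.toPermHom (Cfsg.SU 4 GF4 2) (Cfsg.SU 4 GF4 2 ⧸ ψ.range)) ?_
        rw [← MonoidHom.ker_eq_bot_iff, ← Subgroup.normalCore_eq_ker]
        exact hne
      rw [Nat.card_perm, ← Subgroup.index, hr, h] at h2
      norm_num [Nat.factorial] at h2
  have hb : Function.Bijective ψ := by
    refine (Nat.bijective_iff_injective_and_card _).2 ⟨?_, hP.trans hSU.symm⟩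
    rw [← MonoidHom.ker_eq_bot_iff]
    exact Subgroup.card_eq_one.1 hk1
  exact ⟨(MulEquiv.ofBijective ψ hb).trans eP⟩

end

section

variable {H V : Type*} [Group H] [AddCommGroup V] {L : Subgroup H} {S : Setting L V}
  (act : H → V ≃+ V)

/-- The stabiliser of a vector in `H`. -/
def stabIn (hm : ∀ a b w, act (a * b) w = act a (act b w)) (v : V) : Subgroup H where
  carrier := {h | act h v = v}
  mul_mem' {a b} ha hb := by
    show act (a * b) v = v
    rw [hm, hb, ha]
  one_mem' := (act 1).injective (by rw [← hm, one_mul])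
  inv_mem' {a} ha := by
    show act a⁻¹ v = v
    conv_lhs => rw [← ha]
    rw [← hm, inv_mul_cancel]
    exact (act 1).injective (by rw [← hm, one_mul])

theorem mem_stabIn {hm : ∀ a b w, act (a * b) w = act a (act b w)} {v : V} {h : H} :
    h ∈ stabIn act hm v ↔ act h v = v := Iff.rfl

/-- The stabiliser in `H` of a vector of the class of size 378 is `O₆⁻(2)`, provided the elements
outside `L` invert the scalar. -/
theorem stabA_iso [Finite H] (hm : ∀ a b w, act (a * b) w = act a (act b w))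
    (hext : ∀ (l : L) w, act (l : H) w = S.φ l w) (F : Frame S) (c : ZMod 3) (hidx : L.index = 2)
    (hcard : Nat.card L = 9797760)
    (h5 : ∀ t l : L, t ^ 2 = 1 → t ≠ 1 → orderOf l = 5 → ¬ Commute t l)
    (hsemi : ∀ h, h ∉ L → ∀ w, act h (S.φ S.x w) = S.φ S.x (S.φ S.x (act h w)))
    (hA : ∀ h w, F.InA c w → F.InA c (act h w))
    (htr : ∀ u w, F.InA c u → F.InA c w → ∃ l, S.φ l u = w) {v : V} (hv : F.InA c v) :
    Nonempty (↥(stabIn act hm v) ≃*
      ↥(Cfsg.isometryGroup (ZMod 2) (Cfsg.quadFormMinus 2 (ZMod 2) 1 1))) := by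
  classical
  have : Finite V := Nat.finite_of_card_ne_zero (by rw [S.card_V]; norm_num)
  have hP : Nat.card (stabBase F) = 25920 :=
    card_stabBase F c hcard (fun l w hw => hext l w ▸ hA l w hw) htr
  obtain ⟨eP⟩ := exists_iso_su F hP h5
  suffices h0 : Nonempty (↥(stabIn act hm (v0 F)) ≃*
      ↥(Cfsg.isometryGroup (ZMod 2) (Cfsg.quadFormMinus 2 (ZMod 2) 1 1))) by
    obtain ⟨e0⟩ := h0
    obtain ⟨l, hl⟩ := htr _ _ (inA_v0 F c) hv
    have hmap : (stabIn act hm (v0 F)).map (MulAut.conj (l : H)).toMonoidHom = stabIn act hm v := by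
      ext h
      rw [Subgroup.mem_map_equiv]
      show act ((l : H)⁻¹ * h * (l : H)) (v0 F) = v0 F ↔ act h v = v
      have h1 : act (l : H) (v0 F) = v := (hext l _).trans hl
      rw [hm, h1, hm]
      constructor
      · intro h2
        have h3 := congrArg (act (l : H)) h2
        rwa [← hm, mul_inv_cancel, show act (1 : H) (act h v) = act h v by rw [← hm, one_mul], h1] at h3
      · intro h2
        rw [h2, ← h1, ← hm, inv_mul_cancel]
        exact (act 1).injective (by rw [← hm, one_mul])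
    exact ⟨(MulEquiv.subgroupCongr hmap).symm.trans
      (((MulAut.conj (l : H)).subgroupMap _).symm.trans e0)⟩
  obtain ⟨T, hT⟩ : ∃ T, T = stabIn act hm (v0 F) := ⟨_, rfl⟩
  rw [← hT]
  obtain ⟨h0, hh0⟩ : ∃ h, h ∉ L := by
    by_contra h
    push Not at h
    rw [Subgroup.eq_top_iff' L |>.2 h, Subgroup.index_top] at hidx
    norm_num at hidx
  obtain ⟨l0, hl0⟩ := htr _ _ (hA h0 _ (inA_v0 F c)) (inA_v0 F c)
  have hτ0 : (l0 : H) * h0 ∈ T := by
    rw [hT, mem_stabIn, hm, hext, hl0]
  set P' : Subgroup T := L.subgroupOf T with hP'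
  have : L.Normal := Subgroup.normal_of_index_eq_two hidx
  have : P'.Normal := inferInstance
  let i : P' ≃* stabBase F :=
    { toFun := fun p => ⟨⟨((p : T) : H), p.2⟩, by
        have h1 : ((p : T) : H) ∈ stabIn act hm (v0 F) := hT ▸ (p : T).2
        exact (hext _ _).symm.trans h1⟩
      invFun := fun l => ⟨⟨((l : L) : H), hT ▸ (hext _ _).trans l.2⟩, (l : L).2⟩
      left_inv := fun p => rfl
      right_inv := fun l => rfl
      map_mul' := fun a b => rfl }
  have hPc : Nat.card P' = 25920 := (Nat.card_congr i.toEquiv).trans hP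
  have hP2 : P'.index = 2 := by
    have h1 : P'.index ∣ 2 := hidx ▸ Subgroup.relIndex_dvd_index_of_normal L T
    rcases (Nat.dvd_prime Nat.prime_two).1 h1 with h | h
    · exfalso
      have h2 : (⟨_, hτ0⟩ : T) ∈ P' := (Subgroup.index_eq_one.1 h) ▸ Subgroup.mem_top _
      exact hh0 (by simpa using L.mul_mem (L.inv_mem l0.2) h2)
    · exact h
  have hTc : Nat.card T = 51840 := by rw [← P'.card_mul_index, hPc, hP2]
  have hS : Nat.card (Cfsg.PSU 4 GF4 2) = 25920 := (Nat.card_congr eP.toEquiv).symm.trans hP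
  have hAc : Nat.card (MulAut (Cfsg.PSU 4 GF4 2)) = 51840 := by
    have : Fact (Nat.Prime 2) := ⟨Nat.prime_two⟩
    have : CharP GF4 2 := (CharP.charP_iff_prime_eq_zero Nat.prime_two).2 gf_two
    have hF : Fintype.card GF4 = 2 ^ 2 := by rw [card_gf4]; norm_num
    rw [CfsgLib.AutPSU.card_aut_psu hF (by norm_num) (by simp),
      CfsgLib.RegLinear.card_ringAut (q := 2) (d := 2) (by rw [Nat.card_eq_fintype_card, hF]), hS]
    norm_num
  let χ : T →* MulAut (Cfsg.PSU 4 GF4 2) :=
    (MulAut.congr (i.trans eP)).toMonoidHom.comp (MulAut.conjNormal : T →* MulAut P')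
  have hinj : Function.Injective χ := by
    refine (MulAut.congr (i.trans eP)).injective.comp ((injective_iff_map_eq_one _).2 fun τ hτ => ?_)
    have hcom : ∀ p : P', τ * (p : T) = (p : T) * τ := fun p =>
      mul_inv_eq_iff_eq_mul.1 (congrArg Subtype.val (DFunLike.congr_fun hτ p))
    by_cases hτL : τ ∈ P'
    · have hc : (⟨τ, hτL⟩ : P') ∈ Subgroup.center P' :=
        Subgroup.mem_center_iff.2 fun g => Subtype.ext (hcom g).symm
      have : IsSimpleGroup (Cfsg.PSU 4 GF4 2) :=
        CfsgLib.Forms4.isSimpleGroup_PSU (F := GF4) (q := 2) (by rw [card_gf4]; norm_num) 4 (by norm_num) (by simp)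
      have hcb : Subgroup.center (Cfsg.PSU 4 GF4 2) = ⊥ := by
        rcases (inferInstance : (Subgroup.center (Cfsg.PSU 4 GF4 2)).Normal).eq_bot_or_eq_top with h1 | h1
        · exact h1
        · exfalso
          let _ : CommGroup (Cfsg.PSU 4 GF4 2) :=
            { (inferInstance : Group (Cfsg.PSU 4 GF4 2)) with
              mul_comm := fun a b => Subgroup.mem_center_iff.1 (h1 ▸ Subgroup.mem_top b : b ∈ Subgroup.center _) a }
          have h2 := (IsSimpleGroup.prime_card (α := Cfsg.PSU 4 GF4 2))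
          rw [hS] at h2
          norm_num at h2
      have h3 : (i.trans eP) ⟨τ, hτL⟩ ∈ Subgroup.center (Cfsg.PSU 4 GF4 2) :=
        Subgroup.mem_center_iff.2 fun g => by
          obtain ⟨g, rfl⟩ := (i.trans eP).surjective g
          rw [← map_mul, ← map_mul, Subgroup.mem_center_iff.1 hc g]
      rw [hcb, Subgroup.mem_bot, MulEquiv.map_eq_one_iff] at h3
      exact congrArg Subtype.val h3
    · exfalso
      obtain ⟨d, hd⟩ := F.diag ![0, 0, 1, 1, 1, 0] (by decide)
      have hdT : ((d : L) : H) ∈ T := by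
        rw [hT, mem_stabIn, hext]
        apply F.coord.injective
        funext j
        rw [hd, coord_v0]
        fin_cases j <;> rfl
      have hcd : ∀ w, S.φ d (act (τ : H) w) = act (τ : H) (S.φ d w) := by
        intro w
        have h1 : (τ : H) * (d : H) = (d : H) * (τ : H) := congrArg Subtype.val (hcom ⟨⟨_, hdT⟩, d.2⟩)
        rw [← hext, ← hext, ← hm, ← hm, h1]
      let e2 : V := F.coord.symm (Pi.single 2 (1, 0) : Fin 6 → W)
      have he2 : F.coord e2 = (Pi.single 2 (1, 0) : Fin 6 → W) := F.coord.apply_symm_apply _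
      have hde : S.φ d e2 = S.φ S.x e2 := by
        apply F.coord.injective
        funext j
        rw [hd, F.coord_x, he2]
        fin_cases j <;> decide
      have h2 := hcd e2
      rw [hde, hsemi (τ : H) hτL] at h2
      have h0' : act (τ : H) e2 = 0 := by
        apply F.coord.injective
        rw [map_zero]
        funext j
        have h3 := congrFun (congrArg F.coord h2) j
        rw [hd, F.coord_x, F.coord_x] at h3
        have e : ∀ (k : Fin 6) (a : W), rk ((![0, 0, 1, 1, 1, 0] : Fin 6 → ZMod 3) k) a = rW (rW a) → a = 0 := by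
          decide +kernel
        exact e j _ h3
      have h4 : e2 = 0 := (act (τ : H)).injective (h0'.trans (map_zero _).symm)
      have h5' := congrFun (congrArg F.coord h4) 2
      rw [he2, map_zero] at h5'
      exact absurd h5' (by simp)
  have : Finite (MulAut (Cfsg.PSU 4 GF4 2)) := Nat.finite_of_card_ne_zero (by omega)
  obtain ⟨eO⟩ := CfsgLib.FischerTypes.nonempty_aut_psu_four_equiv (F := GF4) card_gf4 hS hAc
  exact ⟨(MulEquiv.ofBijective χ ((Nat.bijective_iff_injective_and_card _).2 ⟨hinj, hTc.trans hAc.symm⟩)).trans eO⟩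

end

end CfsgLib.LargeFischer
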