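import Cfsg.Agent.LargeFischer.Outer
import Cfsg.Agent.LargeFischer.LiftX
import Cfsg.Agent.LargeFischer.RootSets

/-!
# The action of the stabiliser of a conjugate of `z` in coordinates

It is the product of the sixteen root elements and the even permutations of the coordinates.
-/

set_option autoImplicit false
set_option linter.unusedSectionVars false
set_option linter.style.haveILetI false
set_option maxHeartbeats 1000000

namespace CfsgLib.LargeFischer

open Cfsg
open scoped commutatorElement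

theorem suppW_comp (σ : Equiv.Perm (Fin 6)) (v : Fin 6 → W) :
    (suppW (RootGeom.pm σ v)).card = (suppW v).card := by
  refine Finset.card_equiv σ fun i => ?_
  unfold suppW
  exact ⟨fun h => Finset.mem_filter.2 ⟨Finset.mem_univ _, (Finset.mem_filter.1 h).2⟩,
    fun h => Finset.mem_filter.2 ⟨Finset.mem_univ _, (Finset.mem_filter.1 h).2⟩⟩

theorem root_weight : ∀ c : ZMod 3, c ≠ 0 → ∀ p q : Fin 6, p < q →
    ∃ r s : Fin 6, (suppW (RootGeom.pairV r s (1, 0))).card = 2 ∧
      (suppW (RootGeom.root c p q (RootGeom.pairV r s (1, 0)))).card ≠ 2 := by decide +kernel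

theorem exists_three : ∀ i j : Fin 6,
    ∃ s t : Fin 6, s ≠ t ∧ s ≠ i ∧ s ≠ j ∧ t ≠ i ∧ t ≠ j ∧ ∃ k, k ≠ i ∧ k ≠ j ∧ k ≠ s ∧ k ≠ t := by decide +kernel

theorem pairs_fifteen : Fintype.card {pq : Fin 6 × Fin 6 // pq.1 < pq.2} = 15 := by decide +kernel

variable {G : Type*} [Group G] [Finite G] {z : G} {Q : Subgroup (Cz z)} [Q.Normal] {D : Data z Q}

/-- The part of the image inside `L`. -/
abbrev EL (D : Data z Q) (g : G) : Subgroup (Cz z ⧸ Q) := eImage Q g ⊓ D.L

namespace Coords

variable (C : Coords D)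

/-- The action in coordinates. -/
noncomputable def cact (h : Cz z ⧸ Q) : SplitGeom.Vec ≃+ SplitGeom.Vec :=
  C.F.coord.symm.trans ((act h).trans C.F.coord)

theorem cact_coord (h : Cz z ⧸ Q) (v : QV Q) : C.cact h (C.F.coord v) = C.F.coord (act h v) := by
  simp [cact]

theorem cact_mul (a b : Cz z ⧸ Q) (v : SplitGeom.Vec) : C.cact (a * b) v = C.cact a (C.cact b v) := by
  obtain ⟨v, rfl⟩ := C.F.coord.surjective v
  rw [cact_coord, cact_coord, cact_coord, act_mul D.hS]

theorem cact_one (v : SplitGeom.Vec) : C.cact 1 v = v :=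
  (C.cact 1).injective (by rw [← cact_mul, one_mul])

theorem cact_faithful {h : Cz z ⧸ Q} (hh : ∀ v, C.cact h v = v) : h = 1 :=
  act_faithful D.hS h fun v => C.F.coord.injective (by rw [← cact_coord, hh])

theorem cact_scal {h : Cz z ⧸ Q} (hh : h ∈ D.L) (v : SplitGeom.Vec) :
    C.cact h (SplitGeom.scal v) = SplitGeom.scal (C.cact h v) := by
  obtain ⟨v, rfl⟩ := C.F.coord.surjective v
  have hs : ∀ v, C.F.coord (act (D.x : Cz z ⧸ Q) v) = SplitGeom.scal (C.F.coord v) :=
    fun v => funext fun i => C.F.coord_x v i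
  have hc : h * D.x = (D.x : Cz z ⧸ Q) * h := congrArg Subtype.val (Subgroup.mem_center_iff.1 D.x_center ⟨h, hh⟩)
  rw [← hs, cact_coord, cact_coord, ← hs, ← act_mul D.hS, ← act_mul D.hS, hc]

theorem cact_par (h : Cz z ⧸ Q) (v : SplitGeom.Vec) : SplitGeom.par (C.cact h v) = SplitGeom.par v := by
  obtain ⟨v, rfl⟩ := C.F.coord.surjective v
  rw [cact_coord, SplitGeom.par_eq, SplitGeom.par_eq, ← C.F.q_coord, ← C.F.q_coord]
  exact qf_act D.hS h v

theorem cact_typeA (h : Cz z ⧸ Q) {v : SplitGeom.Vec} (hv : (suppW v).card = 2) :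
    RootGeom.TypeA C.c (C.cact h v) := by
  obtain ⟨v, rfl⟩ := C.F.coord.surjective v
  rw [cact_coord]
  exact C.act_inA h (Or.inl hv)

theorem cact_perm (π : alternatingGroup (Fin 6)) (v : SplitGeom.Vec) :
    C.cact (C.F.permHom π).1 v = RootGeom.pm π.1⁻¹ v := by
  obtain ⟨v, rfl⟩ := C.F.coord.surjective v
  rw [cact_coord]
  funext i
  have h := C.F.permHom_coord π v (π.1⁻¹ i)
  rw [show π.1 (π.1⁻¹ i) = i by simp] at h
  exact h

theorem cact_perm_inv (π : alternatingGroup (Fin 6)) (v : SplitGeom.Vec) :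
    C.cact (C.F.permHom π⁻¹).1 v = RootGeom.pm π.1 v := by
  rw [cact_perm, Subgroup.coe_inv, inv_inv]

variable {g : G} {x : Q} (hgx : g * z * g⁻¹ = toG x) (hx : x ∉ Subgroup.center Q)
  (hones : C.F.coord (vec x) = SplitGeom.ones) (hc : C.c ≠ 0)

include hgx hx in
theorem card_EL : Nat.card (EL D g) = 16 := by
  obtain ⟨C⟩ := D.exists_coords
  obtain ⟨-, hE32, -, -⟩ := image_main D hgx hx C
  haveI := D.L_normal
  have h1 : D.L.relIndex (eImage Q g) = 2 := by
    have hd := Subgroup.relIndex_dvd_index_of_normal D.L (eImage Q g)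
    rw [D.L_index] at hd
    exact ((Nat.dvd_prime Nat.prime_two).1 hd).resolve_left fun e =>
      not_eImage_le D hgx hx (Subgroup.relIndex_eq_one.1 e)
  have h2 := (D.L.subgroupOf (eImage Q g)).card_mul_index
  rw [show (D.L.subgroupOf (eImage Q g)).index = 2 from h1, hE32] at h2
  have h3 : Nat.card (EL D g) = Nat.card (D.L.subgroupOf (eImage Q g)) :=
    Nat.card_congr ⟨fun a => ⟨⟨a.1, a.2.1⟩, a.2.2⟩, fun a => ⟨a.1.1, a.1.2, a.2⟩, fun _ => rfl, fun _ => rfl⟩
  omega

include hgx hx hones in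
theorem EL_line {e : Cz z ⧸ Q} (he : e ∈ EL D g) {v : SplitGeom.Vec} (hv : RootGeom.sumW v = 0) :
    ∃ l, C.cact e v + v = RootGeom.mult l := by
  classical
  let S : AddSubgroup SplitGeom.Vec :=
    { carrier := {v | ∀ e ∈ EL D g, ∃ l, C.cact e v + v = RootGeom.mult l}
      zero_mem' := fun e _ => ⟨0, by rw [map_zero, add_zero]; rfl⟩
      add_mem' := fun {a b} ha hb e he => by
        obtain ⟨l, hl⟩ := ha e he
        obtain ⟨m, hm⟩ := hb e he
        exact ⟨l + m, by rw [map_add, add_add_add_comm, hl, hm]; rfl⟩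
      neg_mem' := fun {a} ha => by
        rwa [show -a = a from neg_eq_of_add_eq_zero_left (SplitGeom.add_self_vec a)] }
  have hscal : ∀ v ∈ S, SplitGeom.scal v ∈ S := fun v hv e he => by
    obtain ⟨l, hl⟩ := hv e he
    refine ⟨rW l, ?_⟩
    rw [C.cact_scal he.2]
    funext i
    have := congrFun hl i
    simp only [Pi.add_apply, SplitGeom.scal, RootGeom.mult, ← map_add] at this ⊢
    rw [this]
  have hperm : ∀ π ∈ alternatingGroup (Fin 6), ∀ v ∈ S, (fun i => v (π i)) ∈ S := by
    intro π hπ v hv e he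
    set p : Cz z ⧸ Q := (C.F.permHom (⟨π, hπ⟩ : alternatingGroup (Fin 6))⁻¹).1 with hp
    have hst : p ∈ C.stab (vec x) := C.F.permHom_fix hones _
    have hconj : p⁻¹ * e * p ∈ EL D g := by
      refine ⟨?_, ?_⟩
      · have := eImage_conj D hgx hx C ((C.stab _).inv_mem hst) he.1
        rwa [inv_inv] at this
      · exact D.L.mul_mem (D.L.mul_mem (D.L.inv_mem (C.F.permHom _).2) he.2) (C.F.permHom _).2
    obtain ⟨l, hl⟩ := hv _ hconj
    refine ⟨l, ?_⟩
    show C.cact e (RootGeom.pm π v) + RootGeom.pm π v = _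
    have h2 := congrArg (C.cact p) hl
    rw [map_add, ← C.cact_mul, ← mul_assoc, ← mul_assoc, mul_inv_cancel, one_mul, C.cact_mul, hp,
      C.cact_perm_inv, C.cact_perm_inv] at h2
    exact h2
  obtain ⟨u, hu, hne⟩ : ∃ u ∈ S, ∃ i j, u i ≠ u j := by
    by_contra hcon
    push Not at hcon
    obtain ⟨-, -, hm, -⟩ := image_main D hgx hx C
    have hSmem : ∀ u : Q, u ∈ Gen.meetQ g Q → C.F.coord (vec u) ∈ S := by
      intro u hu e he
      obtain ⟨r, hr, rfl⟩ := he.1
      have hor : conjIn r u = u ∨ conjIn r u = x * u := by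
        rcases comm_conjQ D hgx hr.1 (Gen.mem_meetQ.1 hu) with h | h
        · refine Or.inl (Subtype.ext (Subtype.ext ?_))
          rw [conjIn_coe]
          exact mul_inv_eq_iff_eq_mul.2 (commutatorElement_eq_one_iff_mul_comm.1 h)
        · refine Or.inr (Subtype.ext (Subtype.ext ?_))
          rw [conjIn_coe]
          show (r : G) * toG u * (r : G)⁻¹ = toG x * toG u
          rw [← h, commutatorElement_def]; group; rfl
      rw [QuotientGroup.mk'_apply, C.cact_coord, act_mk D.hS, actC_vec]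
      rcases hor with h | h <;> rw [h]
      · exact ⟨0, SplitGeom.add_self_vec _⟩
      · refine ⟨(1, 0), ?_⟩
        rw [vec_mul, map_add, add_assoc, SplitGeom.add_self_vec, add_zero, hones]
        rfl
    let f : Gen.meetQ g Q → W × Bool := fun u => (C.F.coord (vec u.1) 0, decide (u.1 = Function.invFun vec (vec u.1)))
    have hinj : Function.Injective f := by
      intro a b hab
      have hab1 : C.F.coord (vec a.1) 0 = C.F.coord (vec b.1) 0 := congrArg Prod.fst hab
      have hab2 : decide (a.1 = Function.invFun vec (vec a.1)) = decide (b.1 = Function.invFun vec (vec b.1)) :=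
        congrArg Prod.snd hab
      have hv : vec a.1 = vec b.1 := C.F.coord.injective (funext fun i =>
        (hcon _ (hSmem a a.2) i 0).trans (hab1.trans (hcon _ (hSmem b b.2) 0 i)))
      rw [hv] at hab2
      set k := Function.invFun vec (vec b.1)
      have hk : vec k = vec b.1 := Function.invFun_eq ⟨b.1, rfl⟩
      have ha' := (mem_center_cases D.hS).1 ((vec_eq_iff D.hS).1 (hk.trans hv.symm))
      have hb' := (mem_center_cases D.hS).1 ((vec_eq_iff D.hS).1 hk)
      refine Subtype.ext ?_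
      rcases ha' with ha' | ha' <;> rcases hb' with hb' | hb'
      · rw [← inv_mul_eq_one.1 ha', ← inv_mul_eq_one.1 hb']
      · rw [inv_mul_eq_one] at ha'
        have h2 : b.1 = k := by simpa [← ha'] using hab2
        rw [h2, ← ha']
      · rw [inv_mul_eq_one] at hb'
        have h2 : a.1 = k := by simpa [← hb'] using hab2
        rw [h2, ← hb']
      · exact mul_left_cancel (ha'.trans hb'.symm)
    have h4 := Nat.card_le_card_of_injective f hinj
    have h128 : Nat.card (Gen.meetQ g Q) = 128 := by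
      rw [← hm]
      refine Nat.card_congr (Equiv.ofBijective (fun a : Gen.meetQ g Q => ⟨toG a.1, a.2⟩) ⟨fun a b h => ?_, ?_⟩)
      · exact Subtype.ext (Subtype.ext (Subtype.ext (congrArg Subtype.val h :)))
      · rintro ⟨a, ha⟩
        obtain ⟨q, rfl⟩ := mem_inG.1 ha.1
        exact ⟨⟨q, ha⟩, rfl⟩
    rw [h128] at h4
    simp [Nat.card_eq_fintype_card] at h4
  obtain ⟨i, j, hij⟩ := hne
  obtain ⟨s, t, hst, hsi, hsj, hti, htj, k, hki, hkj, hks, hkt⟩ := exists_three i j
  have hij' : i ≠ j := fun h => hij (by rw [h])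
  set π := Equiv.swap i j * Equiv.swap s t
  have hπ := RootGeom.swap_swap_mem hij' hst
  have hmem : u + RootGeom.pm π u ∈ S := S.add_mem hu (hperm π hπ u hu)
  refine RootGeom.sumZero_mem hperm hscal hmem ?_ ⟨i, k, ?_⟩ hv e he
  · rw [RootGeom.sumW_add, RootGeom.sumW_eq, RootGeom.sumW_eq, show (∑ l, RootGeom.pm π u l) = ∑ l, u l from
      Equiv.sum_comp π u, SplitGeom.add_self_W]
  · simp only [Pi.add_apply, RootGeom.pm, π, Equiv.Perm.mul_apply]
    rw [Equiv.swap_apply_of_ne_of_ne hks hkt, Equiv.swap_apply_of_ne_of_ne hki hkj,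
      Equiv.swap_apply_of_ne_of_ne hsi.symm hti.symm, Equiv.swap_apply_left, SplitGeom.add_self_W]
    exact fun h => hij ((by decide : ∀ a b : W, a + b = 0 → a = b) _ _ h)

include hgx hx hones hc in
theorem EL_root {e : Cz z ⧸ Q} (he : e ∈ EL D g) (he1 : e ≠ 1) :
    ∃ p q : Fin 6, p < q ∧ ∀ v, C.cact e v = RootGeom.root C.c p q v := by
  refine (RootGeom.classify hc (C.cact e) (C.cact_scal he.2) (C.cact_par e) ?_ (fun v hv => C.cact_typeA e hv)
    fun v hv => C.EL_line hgx hx hones he hv).resolve_left fun h => he1 (C.cact_faithful h)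
  rw [← hones, cact_coord, C.mem_stab.1 (eImage_le_stab D hgx C he.1)]

include hgx hx hones hc in
/-- Every pair occurs. -/
theorem root_exists {p q : Fin 6} (hpq : p < q) :
    ∃ e ∈ EL D g, e ≠ 1 ∧ ∀ v, C.cact e v = RootGeom.root C.c p q v := by
  classical
  haveI := Fintype.ofFinite (EL D g)
  have h : ∀ e : {e : EL D g // e ≠ 1}, ∃ pq : {pq : Fin 6 × Fin 6 // pq.1 < pq.2},
      ∀ v, C.cact e.1.1 v = RootGeom.root C.c pq.1.1 pq.1.2 v := fun e => by
    obtain ⟨p, q, hlt, h⟩ := C.EL_root hgx hx hones hc e.1.2 fun h => e.2 (Subtype.ext h)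
    exact ⟨⟨(p, q), hlt⟩, h⟩
  choose f hf using h
  have hinj : Function.Injective f := fun a b hab => by
    refine Subtype.ext (Subtype.ext (inv_mul_eq_one.1 (C.cact_faithful fun v => ?_)))
    rw [cact_mul, hf b, ← hab, ← hf a, ← cact_mul, inv_mul_cancel, cact_one]
  have hbij : Function.Bijective f := by
    refine (Fintype.bijective_iff_injective_and_card f).2 ⟨hinj, ?_⟩
    rw [pairs_fifteen, Fintype.card_subtype_compl, Fintype.card_subtype_eq, ← Nat.card_eq_fintype_card,
      card_EL hgx hx]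
  obtain ⟨e, he⟩ := hbij.2 ⟨(p, q), hpq⟩
  exact ⟨e.1.1, e.1.2, fun h => e.2 (Subtype.ext h), fun v => by rw [hf, he]⟩

include hgx hx hones hc in
theorem permHom_not_EL {π : alternatingGroup (Fin 6)} (h : (C.F.permHom π).1 ∈ EL D g) : π = 1 := by
  by_contra hne
  obtain ⟨p, q, hpq, hr⟩ := C.EL_root hgx hx hones hc h fun e =>
    hne (C.F.permHom_injective ((show C.F.permHom π = 1 from Subtype.ext e).trans (map_one _).symm))
  obtain ⟨r, s, h2, hn⟩ := root_weight C.c hc p q hpq
  rw [← hr, C.cact_perm, suppW_comp] at hn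
  exact hn h2

include hgx hx hones hc in
/-- The stabiliser in `L` is the product. -/
theorem exists_decomp {l : Cz z ⧸ Q} (hl : l ∈ C.stab (vec x) ⊓ D.L) :
    ∃ e ∈ EL D g, ∃ π : alternatingGroup (Fin 6), l = e * (C.F.permHom π).1 := by
  classical
  obtain ⟨hB, -, -, -⟩ := image_main D hgx hx C
  have hcard : Nat.card ↥(C.stab (vec x) ⊓ D.L) = 5760 := C.card_stab_L (C.card_orbit_B hB) (by norm_num)
  let f : EL D g × alternatingGroup (Fin 6) → ↥(C.stab (vec x) ⊓ D.L) := fun p =>
    ⟨p.1.1 * (C.F.permHom p.2).1, mul_mem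
      (⟨eImage_le_stab D hgx C p.1.2.1, p.1.2.2⟩ : p.1.1 ∈ C.stab (vec x) ⊓ D.L)
      ⟨C.F.permHom_fix hones p.2, (C.F.permHom p.2).2⟩⟩
  have hinj : Function.Injective f := by
    rintro ⟨a, π⟩ ⟨b, ρ⟩ h
    have h' : a.1 * (C.F.permHom π).1 = b.1 * (C.F.permHom ρ).1 := congrArg Subtype.val h
    have hmem : (C.F.permHom (π * ρ⁻¹)).1 ∈ EL D g := by
      have e : (C.F.permHom (π * ρ⁻¹)).1 = a.1⁻¹ * b.1 := by
        rw [map_mul, map_inv, Subgroup.coe_mul, Subgroup.coe_inv, eq_inv_mul_iff_mul_eq, ← mul_assoc, h',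
          mul_inv_cancel_right]
      rw [e]; exact mul_mem (inv_mem a.2) b.2
    have := mul_inv_eq_one.1 (C.permHom_not_EL hgx hx hones hc hmem)
    subst this
    exact Prod.ext (Subtype.ext (mul_right_cancel h')) rfl
  have hA : Nat.card (alternatingGroup (Fin 6)) = 360 := by
    have h := two_mul_nat_card_alternatingGroup (α := Fin 6)
    rw [Nat.card_perm, Nat.card_fin, show Nat.factorial 6 = 720 from rfl] at h
    omega
  obtain ⟨p, hp⟩ := (hinj.bijective_of_nat_card_le (by rw [hcard, Nat.card_prod, card_EL hgx hx, hA])).2 ⟨l, hl⟩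
  exact ⟨p.1.1, p.1.2, p.2, (congrArg Subtype.val hp).symm⟩

end Coords

end CfsgLib.LargeFischer
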