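import Cfsg.Agent.LargeFischer.ElemExist

/-!
# The largest elementary abelian subgroup of a Sylow two-subgroup

It is unique, of order `2^11`.
-/

set_option autoImplicit false
set_option linter.unusedSectionVars false
set_option linter.style.haveILetI false
set_option maxHeartbeats 1000000

namespace CfsgLib.LargeFischer

open Cfsg

theorem swap_blocks {m : Fin 15} {i j : Fin 6} (hji : j ≠ i) (hjm : j ≠ RootGeom.matching m i) :
    (Equiv.swap i (RootGeom.matching m i) * Equiv.swap j (RootGeom.matching m j)) ∈ alternatingGroup (Fin 6) ∧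
      ∀ t, (Equiv.swap i (RootGeom.matching m i) * Equiv.swap j (RootGeom.matching m j)) t = t ∨
        (Equiv.swap i (RootGeom.matching m i) * Equiv.swap j (RootGeom.matching m j)) t = RootGeom.matching m t := by
  have f := RootGeom.matching_facts m
  have h1 : RootGeom.matching m j ≠ i := fun h => hjm (by rw [← h, (f j).1])
  have h2 : RootGeom.matching m j ≠ RootGeom.matching m i := fun h => hji (by rw [← (f j).1, h, (f i).1])
  refine ⟨RootGeom.swap_swap_mem (f i).2.symm (f j).2.symm, fun t => ?_⟩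
  rw [Equiv.Perm.mul_apply]
  by_cases e1 : t = j
  · subst e1
    right
    rw [Equiv.swap_apply_left, Equiv.swap_apply_of_ne_of_ne h1 h2]
  by_cases e2 : t = RootGeom.matching m j
  · subst e2
    right
    rw [Equiv.swap_apply_right, Equiv.swap_apply_of_ne_of_ne hji hjm, (f j).1]
  rw [Equiv.swap_apply_of_ne_of_ne e1 e2]
  by_cases e3 : t = i
  · subst e3
    right
    rw [Equiv.swap_apply_left]
  by_cases e4 : t = RootGeom.matching m i
  · subst e4
    right
    rw [Equiv.swap_apply_right, (f i).1]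
  exact Or.inl (Equiv.swap_apply_of_ne_of_ne e3 e4)

variable {G : Type*} [Group G] [Finite G] {z : G} {Q : Subgroup (Cz z)} [Q.Normal]

theorem Data.exists_gen' (D : Data z Q) : Nonempty (Gen D) := by
  obtain ⟨a, ha⟩ := QuotientGroup.mk_surjective (D.x : Cz z ⧸ Q)
  have hx3 : (D.x : Cz z ⧸ Q) ^ 3 = 1 := congrArg Subtype.val D.x3
  have hq : a ^ 3 ∈ Q := (QuotientGroup.eq_one_iff _).1 (by rw [QuotientGroup.mk_pow, ha, hx3])
  refine ⟨⟨a ^ 16384, ?_, ?_⟩⟩
  · rw [← pow_mul, mul_comm, pow_mul]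
    have h : (⟨a ^ 3, hq⟩ : Q) ^ 8192 = 1 := by
      rw [show (8192 : ℕ) = Nat.card Q by rw [D.hS.2.2.2.1]; norm_num]
      exact pow_card_eq_one'
    have h' : (a ^ 3) ^ 8192 = 1 := congrArg (fun q : Q => (q : Cz z)) h
    rw [show (16384 : ℕ) = 8192 * 2 by norm_num, pow_mul, h', one_pow]
  · rw [QuotientGroup.mk_pow, ha, show (16384 : ℕ) = 3 * 5461 + 1 by norm_num, pow_succ, pow_mul, hx3, one_pow,
      one_mul]

namespace Coords

variable {D : Data z Q} (C : Coords D) {g : G} {x : Q} (hgx : g * z * g⁻¹ = toG x) (hx : x ∉ Subgroup.center Q)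
  (hones : C.F.coord (vec x) = SplitGeom.ones) (hc : C.c ≠ 0)

include hgx hx hones hc in
/-- Two subgroups of order `2^11` in a common two-subgroup over the stabiliser coincide. -/
theorem elem_unique (P : Subgroup (Cz z)) (hP : IsPGroup 2 P)
    (hst : ∀ b ∈ P, (QuotientGroup.mk b : Cz z ⧸ Q) ∈ C.stab (vec x)) (B₁ B₂ : Subgroup (Cz z)) (h₁ : B₁ ≤ P)
    (h₂ : B₂ ≤ P) (c₁ : ∀ a ∈ B₁, ∀ b ∈ B₁, a * b = b * a) (c₂ : ∀ a ∈ B₂, ∀ b ∈ B₂, a * b = b * a)
    (s₁ : ∀ b ∈ B₁, b ^ 2 = 1) (s₂ : ∀ b ∈ B₂, b ^ 2 = 1) (k₁ : 2048 ≤ Nat.card B₁) (k₂ : 2048 ≤ Nat.card B₂) :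
    B₁ = B₂ := by
  haveI : Fact (Nat.Prime 2) := ⟨Nat.prime_two⟩
  obtain ⟨m, hQ₁, hM₁, hc₁, -⟩ := (C.elem_max hgx hx hones hc B₁ c₁ s₁ fun b hb => hst b (h₁ hb)).2 k₁
  obtain ⟨m', hQ₂, hM₂, -, -⟩ := (C.elem_max hgx hx hones hc B₂ c₂ s₂ fun b hb => hst b (h₂ hb)).2 k₂
  have hperm : ∀ (m : Fin 15) (π : alternatingGroup (Fin 6)),
      (∀ t, π.1 t = t ∨ π.1 t = RootGeom.matching m t) → (C.F.permHom π⁻¹).1 ∈ C.CS x m := fun m π h =>
    ⟨⟨C.F.permHom_fix hones _, (C.F.permHom _).2⟩, fun v hv => by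
      rw [C.cact_perm_inv]
      funext t
      rcases h t with e | e <;> simp only [RootGeom.pm, e]
      exact hv t⟩
  have hm : m = m' := by
    refine (RootGeom.matching_unique m m').resolve_right ?_
    rintro ⟨i, j, k, l, hji, hjm, hlk, hlm, hne⟩
    obtain ⟨hπ, hb⟩ := swap_blocks hji hjm
    obtain ⟨hπ', hb'⟩ := swap_blocks hlk hlm
    set π : alternatingGroup (Fin 6) := ⟨_, hπ⟩ with hπdef
    set π' : alternatingGroup (Fin 6) := ⟨_, hπ'⟩ with hπ'def
    have hsub : ∀ {B : Subgroup (Cz z)}, B ≤ P → B.map (QuotientGroup.mk' Q) ≤ P.map (QuotientGroup.mk' Q) :=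
      fun h => Subgroup.map_mono h
    have hu : (C.F.permHom π).1 ∈ P.map (QuotientGroup.mk' Q) := by
      have := hperm m π hb
      rw [map_inv, Subgroup.coe_inv] at this
      exact hsub h₁ (hM₁ ▸ (inv_mem_iff.1 this))
    have hu' : (C.F.permHom π').1 ∈ P.map (QuotientGroup.mk' Q) := by
      have := hperm m' π' hb'
      rw [map_inv, Subgroup.coe_inv] at this
      exact hsub h₂ (hM₂ ▸ (inv_mem_iff.1 this))
    obtain ⟨k, hk⟩ := (hP.map (QuotientGroup.mk' Q)) ⟨_, mul_mem hu hu'⟩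
    have h1 : C.F.permHom ((π * π') ^ 2 ^ k) = 1 := by
      rw [map_pow, map_mul]
      exact Subtype.ext (congrArg Subtype.val hk :)
    have h2 : (π * π') ^ 2 ^ k = 1 := C.F.permHom_injective (h1.trans (map_one _).symm)
    have hd := orderOf_dvd_of_pow_eq_one h2
    obtain ⟨t, -, ht⟩ := (Nat.dvd_prime_pow Nat.prime_two).1 hd
    have h360 : orderOf (π * π') ∣ 360 := alt_six_card ▸ orderOf_dvd_natCard _
    have h8 : orderOf (π * π') ∣ 8 := by
      rw [ht] at h360 ⊢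
      have ht3 : t ≤ 3 := by
        by_contra hlt
        exact absurd ((pow_dvd_pow 2 (show 4 ≤ t by omega)).trans h360) (by norm_num)
      exact (pow_dvd_pow 2 ht3)
    refine hne ?_
    have e := congrArg Subtype.val (orderOf_dvd_iff_pow_eq_one.1 h8)
    rw [SubgroupClass.coe_pow, Subgroup.coe_mul, Subgroup.coe_one] at e
    exact e
  subst hm
  -- the two have the same part in `Q` and the same image
  have hK : B₁.comap Q.subtype = B₂.comap Q.subtype := hQ₁.trans hQ₂.symm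
  set K := B₁.comap Q.subtype with hKdef
  have hle : K ≤ Subgroup.centralizer (K : Set Q) := fun a ha =>
    Subgroup.mem_centralizer_iff.2 fun b hb => Subtype.ext (c₁ _ hb _ ha)
  have hZK : Subgroup.center Q ≤ K := fun a ha => by
    rw [hQ₁]
    show C.F.coord (vec a) ∈ WM m
    rw [(vec_eq_zero D.hS).2 ha, map_zero]; exact (WM m).zero_mem
  have hcc := CfsgLib.ExtraspecialBasic.card_centralizer_mul_card D.hS.2.2.1 hZK
  rw [D.hS.2.2.2.1, hc₁] at hcc
  have h128 : Nat.card (Subgroup.centralizer (K : Set Q)) = 128 :=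
    Nat.eq_of_mul_eq_mul_right (by norm_num) (hcc.trans (by norm_num) : _ = 128 * 128)
  have hKC := Subgroup.eq_of_le_of_card_ge hle (by rw [h128, hc₁])
  refine Subgroup.eq_of_le_of_card_ge (fun b hb => ?_) ?_
  · obtain ⟨b₂, hb₂, e⟩ : (QuotientGroup.mk b : Cz z ⧸ Q) ∈ B₂.map (QuotientGroup.mk' Q) := by
      rw [hM₂, ← hM₁]; exact ⟨b, hb, rfl⟩
    have hq : b₂⁻¹ * b ∈ Q := QuotientGroup.eq.1 e
    have hmem : (⟨_, hq⟩ : Q) ∈ K := by
      rw [hKC, Subgroup.mem_centralizer_iff]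
      intro u hu
      refine Subtype.ext ?_
      show (u : Cz z) * (b₂⁻¹ * b) = b₂⁻¹ * b * (u : Cz z)
      have e1 : (u : Cz z) * b₂⁻¹ = b₂⁻¹ * (u : Cz z) :=
        c₂ _ (show u ∈ B₂.comap Q.subtype from hK ▸ hu) _ (inv_mem hb₂)
      have e2 : (u : Cz z) * b = b * (u : Cz z) := c₁ _ hu _ hb
      rw [← mul_assoc, e1, mul_assoc, e2, mul_assoc]
    rw [hK] at hmem
    have := B₂.mul_mem hb₂ hmem
    simpa using this
  · exact ((C.elem_max hgx hx hones hc B₂ c₂ s₂ fun b hb => hst b (h₂ hb)).1).trans k₁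

end Coords

/-- A Sylow two-subgroup has exactly one elementary abelian subgroup of largest order. -/
theorem Data.sylow_elem (D : Data z Q) (T : Sylow 2 (Cz z)) :
    ∃ A : Subgroup (T : Subgroup (Cz z)), maxElementaryAbelianSubgroups 2 (T : Subgroup (Cz z)) = {A} ∧
      Nat.card A = 2 ^ 11 ∧ Nat.card ↥(A.map (T : Subgroup (Cz z)).subtype ⊓ Q) = 2 ^ 7 ∧
      Nat.card ↥((A.map (T : Subgroup (Cz z)).subtype).map (QuotientGroup.mk' Q)) = 16 := by
  classical
  haveI : Fact (Nat.Prime 2) := ⟨Nat.prime_two⟩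
  obtain ⟨Y⟩ := D.exists_gen'
  obtain ⟨g₀, x₀, hg₀, hx₀⟩ := D.exists_conj
  obtain ⟨g, x, hgx, hx, hnorm⟩ := Y.exists_canonical hg₀ hx₀
  obtain ⟨C, hones, hc⟩ := D.exists_coords_at hgx hx
  obtain ⟨hB, -⟩ := image_main D hgx hx C
  -- `T` moved over the stabiliser
  obtain ⟨h, hh⟩ : ∃ h : Cz z, ∀ b ∈ (T : Subgroup (Cz z)),
      (QuotientGroup.mk (h * b * h⁻¹) : Cz z ⧸ Q) ∈ C.stab (vec x) := by
    obtain ⟨P₀⟩ : Nonempty (Sylow 2 (C.stab (vec x))) := inferInstance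
    have hf : ∀ n, n % 2 = 1 → (2 ^ 8 * n : ℕ).factorization 2 = 8 := fun n hn => by
      rw [Nat.factorization_mul (by norm_num) (by omega), Finsupp.add_apply,
        Nat.Prime.factorization_pow (by norm_num), Finsupp.single_eq_same,
        Nat.factorization_eq_zero_of_not_dvd (by omega)]
    have hcard : Nat.card ((P₀ : Subgroup (C.stab (vec x))).map (C.stab (vec x)).subtype) =
        2 ^ (Nat.card (Cz z ⧸ Q)).factorization 2 := by
      rw [Nat.card_congr (Subgroup.equivMapOfInjective _ _ (C.stab (vec x)).subtype_injective).symm.toEquiv,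
        P₀.card_eq_multiplicity, C.card_stab (Or.inr hB), C.card_stab_L (m := 5760) (C.card_orbit_B hB) (by norm_num),
        show Nat.card (Cz z ⧸ Q) = 2 ^ 8 * 76545 by rw [← D.L.card_mul_index, D.L_card, D.L_index]; norm_num,
        show 2 * 5760 = 2 ^ 8 * 45 by norm_num, hf _ rfl, hf _ rfl]
    obtain ⟨P₁, hP₁⟩ := (T.isPGroup'.map (QuotientGroup.mk' Q)).exists_le_sylow
    obtain ⟨k, hk⟩ := MulAction.exists_smul_eq (Cz z ⧸ Q) P₁ (Sylow.ofCard _ hcard)
    obtain ⟨h, rfl⟩ := QuotientGroup.mk_surjective k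
    refine ⟨h, fun b hb => ?_⟩
    have hmem : (QuotientGroup.mk (h * b * h⁻¹) : Cz z ⧸ Q) ∈
        ((Sylow.ofCard _ hcard : Sylow 2 (Cz z ⧸ Q)) : Subgroup (Cz z ⧸ Q)) := by
      rw [← hk]
      exact ⟨QuotientGroup.mk b, hP₁ ⟨b, hb, rfl⟩, by simp⟩
    obtain ⟨p, -, hp⟩ := hmem
    rw [← hp]
    exact p.2
  set cj := (MulAut.conj h).toMonoidHom with hcj
  set T' := (T : Subgroup (Cz z)).map cj with hT'
  have hT'p : IsPGroup 2 T' := T.isPGroup'.map _
  have hT'st : ∀ b ∈ T', (QuotientGroup.mk b : Cz z ⧸ Q) ∈ C.stab (vec x) := by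
    rintro _ ⟨b, hb, rfl⟩; exact hh b hb
  have hcjinj : Function.Injective cj := (MulAut.conj h).injective
  -- a subgroup of `T` and its conjugate
  have hmove : ∀ B : Subgroup (T : Subgroup (Cz z)), IsElementaryAbelian 2 B →
      ((B.map (T : Subgroup (Cz z)).subtype).map cj ≤ T' ∧
        (∀ a ∈ (B.map (T : Subgroup (Cz z)).subtype).map cj, ∀ b ∈ (B.map (T : Subgroup (Cz z)).subtype).map cj,
          a * b = b * a) ∧ (∀ a ∈ (B.map (T : Subgroup (Cz z)).subtype).map cj, a ^ 2 = 1) ∧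
        Nat.card ((B.map (T : Subgroup (Cz z)).subtype).map cj) = Nat.card B) := by
    intro B hB'
    refine ⟨Subgroup.map_mono (Subgroup.map_subtype_le B), ?_, ?_, ?_⟩
    · rintro _ ⟨_, ⟨a, ha, rfl⟩, rfl⟩ _ ⟨_, ⟨b, hb, rfl⟩, rfl⟩
      rw [← map_mul, ← map_mul, ← map_mul, ← map_mul]
      exact congrArg cj (congrArg _ (congrArg Subtype.val (hB'.1.is_comm.comm ⟨a, ha⟩ ⟨b, hb⟩)))
    · rintro _ ⟨_, ⟨a, ha, rfl⟩, rfl⟩
      rw [← map_pow, ← map_pow, hB'.2 a ha, map_one, map_one]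
    · rw [← Nat.card_congr (Subgroup.equivMapOfInjective _ cj hcjinj).toEquiv,
        ← Nat.card_congr (Subgroup.equivMapOfInjective B _ (Subgroup.subtype_injective _)).toEquiv]
  have hle : ∀ B : Subgroup (T : Subgroup (Cz z)), IsElementaryAbelian 2 B → Nat.card B ≤ 2048 := fun B hB' => by
    obtain ⟨h1, h2, h3, h4⟩ := hmove B hB'
    rw [← h4]
    exact (C.elem_max hgx hx hones hc _ h2 h3 fun b hb => hT'st b (h1 hb)).1
  -- existence
  obtain ⟨A₀, hAc, hAs, hAn⟩ := Y.exists_elem C hgx hx hnorm hones hc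
  have hA0p : IsPGroup 2 A₀ := fun a => ⟨1, Subtype.ext (by simpa using hAs _ a.2)⟩
  obtain ⟨P, hP⟩ := hA0p.exists_le_sylow
  obtain ⟨k, hk⟩ := MulAction.exists_smul_eq (Cz z) P T
  set A₁ := A₀.map (MulAut.conj k).toMonoidHom with hA₁
  have hA₁T : A₁ ≤ (T : Subgroup (Cz z)) := by
    rw [← hk]
    exact Subgroup.map_mono hP
  set A := A₁.subgroupOf (T : Subgroup (Cz z)) with hA
  have hAel : IsElementaryAbelian 2 A := by
    refine ⟨⟨⟨fun a b => Subtype.ext (Subtype.ext ?_)⟩⟩, fun a ha => Subtype.ext ?_⟩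
    · obtain ⟨u, hu, eu⟩ := Subgroup.mem_subgroupOf.1 a.2
      obtain ⟨v, hv, ev⟩ := Subgroup.mem_subgroupOf.1 b.2
      show ((a.1 : Cz z)) * (b.1 : Cz z) = (b.1 : Cz z) * (a.1 : Cz z)
      rw [← eu, ← ev, ← map_mul, ← map_mul, hAc u hu v hv]
    · obtain ⟨u, hu, eu⟩ := Subgroup.mem_subgroupOf.1 ha
      rw [SubgroupClass.coe_pow, ← eu, ← map_pow, hAs u hu, map_one]; rfl
  have hAcard : Nat.card A = 2048 := by
    rw [Nat.card_congr (Subgroup.subgroupOfEquivOfLe hA₁T).toEquiv, hA₁,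
      ← Nat.card_congr (Subgroup.equivMapOfInjective _ (MulAut.conj k).toMonoidHom (MulAut.conj k).injective).toEquiv,
      hAn]
  refine ⟨A, Set.ext fun B => ⟨fun hB' => ?_, fun hB' => ?_⟩, hAcard.trans (by norm_num), ?_⟩
  · obtain ⟨h1, h2, h3, h4⟩ := hmove B hB'.1
    obtain ⟨g1, g2, g3, g4⟩ := hmove A hAel
    have e := C.elem_unique hgx hx hones hc T' hT'p hT'st _ _ h1 g1 h2 g2 h3 g3
      (by rw [h4, ← hAcard]; exact hB'.2 A hAel) (by rw [g4, hAcard])
    exact Subgroup.map_injective (Subgroup.subtype_injective _) (Subgroup.map_injective hcjinj e)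
  · rw [Set.mem_singleton_iff] at hB'
    subst hB'
    exact ⟨hAel, fun B' hB'' => (hle B' hB'').trans hAcard.ge⟩
  -- the two parts
  obtain ⟨g1, g2, g3, g4⟩ := hmove A hAel
  obtain ⟨m, -, -, h128, h16⟩ := (C.elem_max hgx hx hones hc _ g2 g3 fun b hb => hT'st b (g1 hb)).2
    (by rw [g4, hAcard])
  set M := A.map (T : Subgroup (Cz z)).subtype with hM
  constructor
  · rw [show (2 : ℕ) ^ 7 = 128 by norm_num, ← h128]
    refine Nat.card_congr (Equiv.ofBijective (fun a : ↥(M ⊓ Q) =>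
      (⟨conjIn h ⟨a.1, a.2.2⟩, ?_⟩ : (M.map cj).comap Q.subtype)) ⟨fun a b e => ?_, ?_⟩)
    · show ((conjIn h ⟨a.1, a.2.2⟩ : Q) : Cz z) ∈ M.map cj
      rw [conjIn_coe]
      exact ⟨a.1, a.2.1, rfl⟩
    · have e' := (conjIn h).injective (congrArg Subtype.val e :)
      exact Subtype.ext (congrArg Subtype.val e' :)
    · rintro ⟨u, hu⟩
      obtain ⟨a, ha, e⟩ := hu
      have haQ : a ∈ Q := by
        have := Subgroup.Normal.conj_mem (inferInstance : Q.Normal) _ u.2 h⁻¹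
        rwa [show h⁻¹ * (u : Cz z) * h⁻¹⁻¹ = a by
          rw [show (u : Cz z) = h * a * h⁻¹ from e.symm]; group] at this
      refine ⟨⟨a, ha, haQ⟩, Subtype.ext (Subtype.ext ?_)⟩
      rw [conjIn_coe]
      exact e
  · rw [← h16, Subgroup.map_map M (QuotientGroup.mk' Q) cj, show (QuotientGroup.mk' Q).comp cj =
        (MulAut.conj (QuotientGroup.mk h : Cz z ⧸ Q)).toMonoidHom.comp (QuotientGroup.mk' Q) from
      MonoidHom.ext fun b => by simp [hcj], ← Subgroup.map_map M]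
    exact Nat.card_congr (Subgroup.equivMapOfInjective _ _ (MulAut.conj _).injective).toEquiv

end CfsgLib.LargeFischer
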